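import Cfsg.Agent.CoTwoUniq.Data
import Cfsg.Agent.S2136
import Cfsg.Agent.Leech.SignGroup
import Cfsg.Agent.Leech.StabM22
import Cfsg.Agent.Leech.OrbitCert
import Cfsg.Agent.Leech.Co1

/-!
Monomial elements of the second Conway group.

Sign changes by the code words vanishing on the marked pair, coded by masks, permutations of the
code fixing the pair, and the trace of the natural representation modulo thirteen.
-/

set_option autoImplicit false

open Cfsg

namespace Cfsg.Agent.CoTwoUniq

open Cfsg.Agent.Leech (bitWord dec signCo0 permCo0 idx ptOf)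

/-- The binary words. -/
abbrev Word : Type := GolayPt → ZMod 2

/-- The group of the statements. -/
abbrev K2 : Type := ↥Spor.Co2

/-- The ambient automorphism of a lattice element. -/
def inc : K2 →* ↥Co0 := Subgroup.inclusion inf_le_left

theorem inc_injective : Function.Injective inc := Subgroup.inclusion_injective _

theorem inc_fix (x : K2) : inc x • Spor.leechU = Spor.leechU := x.2.2

/-- An automorphism fixing the vector, as an element of the group. -/
def mk (g : ↥Co0) (h : g • Spor.leechU = Spor.leechU) : K2 := ⟨g.1, g.2, h⟩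

@[simp] theorem inc_mk (g : ↥Co0) (h : g • Spor.leechU = Spor.leechU) : inc (mk g h) = g := rfl

instance co2_finite : Finite K2 := by
  have := Leech.finite_co0
  exact Finite.of_injective inc inc_injective

/-- The sum of the signs: the weight of a mask. -/
def pop (n : ℕ) : ℕ := ((List.range 24).filter fun i => n.testBit i).length

/-- A mask of a code word vanishing on the marked pair. -/
def Av (n : ℕ) : Prop := dec (bitWord n) = bitWord n ∧ n.testBit 0 = false ∧ n.testBit 1 = false

instance : DecidablePred Av := fun n =>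
  inferInstanceAs (Decidable (dec (bitWord n) = bitWord n ∧ n.testBit 0 = false ∧ n.testBit 1 = false))

theorem av_mem {n : ℕ} (h : Av n) : bitWord n ∈ golayCode := (Leech.mem_iff _).2 h.1

theorem bitWord_none (n : ℕ) : bitWord n none = if n.testBit 0 then 1 else 0 := rfl

theorem bitWord_zeroPt (n : ℕ) : bitWord n (some 0) = if n.testBit 1 then 1 else 0 := rfl

theorem vecU_eq_zero {p : GolayPt} (h1 : p ≠ none) (h2 : p ≠ some 0) :
    (Spor.leechU : GolayPt → ℤ) p = 0 :=
  if_neg (by rintro (h | h) <;> contradiction)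

theorem signCo0_fix {c : Word} (hc : c ∈ golayCode) (h0 : c none = 0) (h1 : c (some 0) = 0) :
    signCo0 c hc • Spor.leechU = Spor.leechU := by
  refine Subtype.ext (funext fun p => ?_)
  rw [Leech.signCo0_apply]
  simp only [Leech.negOn]
  split_ifs with h
  · rfl
  · rw [vecU_eq_zero (fun e => h (by rw [e]; exact h0)) (fun e => h (by rw [e]; exact h1)), neg_zero]

theorem av_add {m n : ℕ} (hm : Av m) (hn : Av n) : Av (m ^^^ n) := by
  refine ⟨?_, by rw [Nat.testBit_xor, hm.2.1, hn.2.1]; rfl,
    by rw [Nat.testBit_xor, hm.2.2, hn.2.2]; rfl⟩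
  rw [Leech.bitWord_xor, map_add, hm.1, hn.1]

/-- The sign change of a mask. -/
def sgn (n : ℕ) : K2 :=
  if h : Av n then mk (signCo0 (bitWord n) (av_mem h))
    (signCo0_fix _ (by rw [bitWord_none, h.2.1]; rfl) (by rw [bitWord_zeroPt, h.2.2]; rfl))
  else 1

theorem inc_sgn {n : ℕ} (h : Av n) : inc (sgn n) = signCo0 (bitWord n) (av_mem h) := by
  rw [sgn, dif_pos h, inc_mk]

theorem sgn_xor {m n : ℕ} (hm : Av m) (hn : Av n) : sgn (m ^^^ n) = sgn m * sgn n :=
  inc_injective (by
    rw [map_mul, inc_sgn (av_add hm hn), inc_sgn hm, inc_sgn hn, Leech.signCo0_mul]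
    exact Leech.signCo0_congr (Leech.bitWord_xor m n) _ _)

theorem sgn_comm {m n : ℕ} (hm : Av m) (hn : Av n) : Commute (sgn m) (sgn n) := by
  show sgn m * sgn n = sgn n * sgn m
  rw [← sgn_xor hm hn, ← sgn_xor hn hm, Nat.xor_comm]

theorem sgn_zero : sgn 0 = 1 := inc_injective (by
  rw [inc_sgn (by decide +kernel), map_one, ← Leech.signCo0_zero]
  exact Leech.signCo0_congr Leech.bitWord_zero _ _)

theorem sgn_mul_self {n : ℕ} (hn : Av n) : sgn n * sgn n = 1 := by
  rw [← sgn_xor hn hn, Nat.xor_self, sgn_zero]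

theorem av_zm : Av Data.zm := by decide +kernel

theorem sgn_zm : sgn Data.zm = S2136.tCo2 := by
  refine inc_injective ((inc_sgn av_zm).trans (Leech.ext_of_oct fun i => Subtype.ext ?_))
  show _ = ((Leech.CentTwo.tGen.g • Leech.oct i : leechLattice) : GolayPt → ℤ)
  funext p
  rw [Leech.signCo0_apply, Leech.CentTwo.tGen_apply]
  simp only [Leech.negOn]
  have key : ∀ p, bitWord Data.zm p = 0 ↔ p ∈ Leech.CentTwo.octF := by decide +kernel
  simp only [key]

/-- Checks for a permutation given by lists of preimages and images, fixing the pair. -/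
def PermOK (P Q : List ℕ) : Prop :=
  (∀ p, ptOf (P.getD (idx (ptOf (Q.getD (idx p) 0))) 0) = p) ∧
  (∀ p, ptOf (Q.getD (idx (ptOf (P.getD (idx p) 0))) 0) = p) ∧
  (∀ i : Fin 12, dec (fun p => Leech.row i (ptOf (Q.getD (idx p) 0))) =
    fun p => Leech.row i (ptOf (Q.getD (idx p) 0))) ∧
  (∀ p, p ≠ none → p ≠ some 0 →
    ptOf (P.getD (idx p) 0) ≠ none ∧ ptOf (P.getD (idx p) 0) ≠ some 0)

instance (P Q : List ℕ) : Decidable (PermOK P Q) := by unfold PermOK; infer_instance

/-- The permutation of the points. -/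
def perm {P Q : List ℕ} (h : PermOK P Q) : Equiv.Perm GolayPt := Leech.permOfLists P Q h.1 h.2.1

theorem perm_mem {P Q : List ℕ} (h : PermOK P Q) : perm h ∈ M24 :=
  Leech.mem_M24_of_rows h.2.2.1

theorem permCo0_fix {σ : Equiv.Perm GolayPt} (hσ : σ ∈ M24)
    (h : ∀ p, p ≠ none → p ≠ some 0 → σ⁻¹ p ≠ none ∧ σ⁻¹ p ≠ some 0) :
    permCo0 σ hσ • Spor.leechU = Spor.leechU := by
  refine Subtype.ext (funext fun p => ?_)
  rw [Leech.permCo0_apply]
  by_cases hp : p = none ∨ p = some 0
  · have : σ⁻¹ p = none ∨ σ⁻¹ p = some 0 := by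
      by_contra hc
      rw [not_or] at hc
      -- the other points are permuted among themselves
      let T : Finset GolayPt := Finset.univ.filter fun q => q ≠ none ∧ q ≠ some 0
      have hmaps : T.image ⇑σ⁻¹ = T := by
        refine Finset.eq_of_subset_of_card_le (fun q hq => ?_)
          (by rw [Finset.card_image_of_injective _ (Equiv.injective _)])
        obtain ⟨r, hr, rfl⟩ := Finset.mem_image.1 hq
        simp only [T, Finset.mem_filter, Finset.mem_univ, true_and] at hr ⊢
        exact h r hr.1 hr.2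
      have hmem : σ⁻¹ p ∈ T := Finset.mem_filter.2 ⟨Finset.mem_univ _, hc⟩
      rw [← hmaps] at hmem
      obtain ⟨r, hr, hre⟩ := Finset.mem_image.1 hmem
      rw [EmbeddingLike.apply_eq_iff_eq] at hre
      simp only [T, Finset.mem_filter, Finset.mem_univ, true_and, hre] at hr
      rcases hp with e | e
      exacts [hr.1 e, hr.2 e]
    show Spor.vecU (σ⁻¹ p) = Spor.vecU p
    rw [Spor.vecU, Spor.vecU, if_pos this, if_pos hp]
  · rw [not_or] at hp
    rw [vecU_eq_zero hp.1 hp.2, vecU_eq_zero (h p hp.1 hp.2).1 (h p hp.1 hp.2).2]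

/-- The permutation as an element of the group. -/
def pm {P Q : List ℕ} (h : PermOK P Q) : K2 :=
  mk (permCo0 (perm h) (perm_mem h)) (permCo0_fix _ h.2.2.2)

/-- The mask of the translated word. -/
def pmask (P : List ℕ) (n : ℕ) : ℕ :=
  (List.range 24).foldr (fun j m => (if n.testBit (P.getD j 0) then 2 ^ j else 0) ||| m) 0

theorem testBit_pmask (P : List ℕ) (n : ℕ) {j : ℕ} (hj : j < 24) :
    (pmask P n).testBit j = n.testBit (P.getD j 0) := by
  have key : ∀ l : List ℕ, (l.foldr (fun i m => (if n.testBit (P.getD i 0) then 2 ^ i else 0) ||| m)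
      0).testBit j = (decide (j ∈ l) && n.testBit (P.getD j 0)) := by
    intro l
    induction l with
    | nil => simp
    | cons i t ih =>
      rw [List.foldr_cons, Nat.testBit_or, ih]
      by_cases e : j = i
      · subst e
        cases n.testBit (P.getD j 0) <;> simp [Nat.testBit_two_pow_self]
      · have h2 : (if n.testBit (P.getD i 0) then 2 ^ i else 0).testBit j = false := by
          split_ifs
          · exact Nat.testBit_two_pow_of_ne (Ne.symm e)
          · simp
        rw [h2]; simp [e]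
  rw [pmask, key]
  simp [hj]

theorem bitWord_pmask {P Q : List ℕ} (h : PermOK P Q) (hP : ∀ i < 24, P.getD i 0 < 24) (n : ℕ) :
    bitWord (pmask P n) = fun p => bitWord n ((perm h)⁻¹ p) := by
  funext p
  show (if (pmask P n).testBit (idx p) then (1 : ZMod 2) else 0) =
    if n.testBit (idx (ptOf (P.getD (idx p) 0))) then 1 else 0
  rw [testBit_pmask P n (Leech.idx_lt p), Leech.idx_ptOf _ (hP _ (Leech.idx_lt p))]

theorem conj_pm {P Q : List ℕ} (h : PermOK P Q) (hP : ∀ i < 24, P.getD i 0 < 24) {n : ℕ}
    (hn : Av n) (hn' : Av (pmask P n)) : pm h * sgn n * (pm h)⁻¹ = sgn (pmask P n) :=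
  inc_injective (by
    rw [map_mul, map_mul, map_inv, inc_sgn hn, inc_sgn hn', pm, inc_mk, Leech.conj_perm_sign]
    exact Leech.signCo0_congr (bitWord_pmask h hP n).symm _ _)

/-- The trace of the natural representation modulo thirteen. -/
noncomputable def tr (x : K2) : ZMod 13 := (Leech.mat13 (inc x)).trace

theorem tr_conj (g x : K2) : tr (g * x * g⁻¹) = tr x := by
  simp only [tr, map_mul, Leech.mat13_mul]
  rw [Matrix.trace_mul_comm, ← Matrix.mul_assoc, ← Leech.mat13_mul, ← map_mul, inv_mul_cancel,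
    map_one, Leech.mat13_one, Matrix.one_mul]

theorem tr_isConj {x y : K2} (h : IsConj x y) : tr x = tr y := by
  obtain ⟨g, rfl⟩ := isConj_iff.1 h
  exact (tr_conj g x).symm

theorem trace_mono (σ : Equiv.Perm GolayPt) (hσ : σ ∈ M24) (c : Word) (hc : c ∈ golayCode) :
    (Leech.mat13 (signCo0 c hc * permCo0 σ hσ)).trace =
      ∑ i, (if σ⁻¹ i = i then (if c i = 0 then 1 else -1) else 0 : ZMod 13) := by
  refine Finset.sum_congr rfl fun i _ => ?_
  simp only [Matrix.diag_apply, Leech.mat13, Matrix.of_apply, mul_smul, Leech.signCo0_apply,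
    Leech.negOn, Leech.permCo0_apply, Leech.oct]
  rw [Pi.single_apply]
  split_ifs <;> rfl

theorem tr_sgn {n : ℕ} (h : Av n) : tr (sgn n) = 24 - 2 * (pop n : ZMod 13) := by
  rw [tr, inc_sgn h, show signCo0 (bitWord n) (av_mem h) =
    signCo0 (bitWord n) (av_mem h) * permCo0 1 (one_mem _) from by
      rw [show permCo0 1 (one_mem _) = 1 from Leech.ext_of_oct fun i => Subtype.ext (funext fun q => by
        rw [Leech.permCo0_apply, one_smul]; simp), mul_one],
    trace_mono]
  simp only [inv_one, Equiv.Perm.coe_one, id_eq, if_true]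
  rw [pop, ← Leech.hammingNorm_bitWord, hammingNorm]
  have hsum : ∀ f : Word, ∑ i, (if f i = 0 then 1 else -1 : ZMod 13) =
      24 - 2 * ((Finset.univ.filter fun i => f i ≠ 0).card : ZMod 13) := by
    intro f
    have hsplit := Finset.card_filter_add_card_filter_not (s := Finset.univ) fun i => f i = 0
    rw [Finset.card_univ, Leech.card_golayPt] at hsplit
    rw [Finset.sum_ite, Finset.sum_const, Finset.sum_const, nsmul_eq_mul, nsmul_eq_mul, mul_one,
      show (24 : ZMod 13) = ((24 : ℕ) : ZMod 13) by norm_num, ← hsplit]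
    push_cast
    ring
  exact hsum _

/-- The masks of the words vanishing on the pair. -/
def avMasks : List ℕ := Leech.allMasks.filter fun n => !n.testBit 0 && !n.testBit 1

theorem allMasks_mem : ∀ n ∈ Leech.allMasks, bitWord n ∈ golayCode := by
  have key : ∀ l : List ℕ, (∀ r ∈ l, bitWord r ∈ golayCode) →
      ∀ n ∈ Leech.spanList l, bitWord n ∈ golayCode := by
    intro l
    induction l with
    | nil => intro _ n hn; simp [Leech.spanList] at hn; subst hn; rw [Leech.bitWord_zero]; exact zero_mem _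
    | cons r t ih =>
      intro hr n hn
      have ih' := ih fun a ha => hr a (List.mem_cons_of_mem _ ha)
      rcases List.mem_append.1 hn with hn | hn
      · exact ih' n hn
      · obtain ⟨a, ha, rfl⟩ := List.mem_map.1 hn
        rw [Leech.bitWord_xor]
        exact add_mem (hr r List.mem_cons_self) (ih' a ha)
  refine key _ fun r hr => ?_
  obtain ⟨i, rfl⟩ := List.mem_ofFn.1 hr
  exact Leech.row_mem i

theorem avMasks_spec : ∀ n ∈ avMasks, Av n := fun n hn => by
  obtain ⟨h1, h2⟩ := List.mem_filter.1 hn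
  simp only [Bool.and_eq_true, Bool.not_eq_true'] at h2
  exact ⟨(Leech.mem_iff _).1 (allMasks_mem n h1), h2⟩

/-- A sign change of the group is coded. -/
theorem exists_sgn (x : K2) {c : Word} {hc : c ∈ golayCode} (h : inc x = signCo0 c hc) :
    ∃ n ∈ avMasks, bitWord n = c ∧ x = sgn n := by
  obtain ⟨n, hn, rfl⟩ := Leech.exists_mask hc
  have hu := inc_fix x
  rw [h] at hu
  have h4 : ∀ p, Spor.vecU p = 4 → bitWord n p = 0 := fun p hp => by
    by_contra hne
    have := congrFun (congrArg Subtype.val hu) p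
    rw [Leech.signCo0_apply] at this
    simp only [Leech.negOn, if_neg hne] at this
    rw [show (Spor.leechU : GolayPt → ℤ) p = 4 from hp] at this
    omega
  have hb : ∀ j, bitWord n (ptOf j) = 0 → j < 24 → n.testBit j = false := fun j e hj => by
    simp only [Leech.bitWord, Leech.idx_ptOf j hj] at e
    by_contra hb
    rw [Bool.not_eq_false] at hb
    simp [hb] at e
  have hav : n ∈ avMasks := List.mem_filter.2 ⟨hn, by
    rw [hb 0 (h4 _ (by decide +kernel)) (by norm_num),
      hb 1 (h4 _ (by decide +kernel)) (by norm_num)]; rfl⟩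
  exact ⟨n, hav, rfl, inc_injective (h.trans (inc_sgn (avMasks_spec n hav)).symm)⟩

/-- The weights and their traces. -/
theorem av_trace {n : ℕ} (hn : n ∈ avMasks) :
    (n = 0 ∧ pop n = 0) ∨ (pop n = 8 ∧ tr (sgn n) = 8) ∨ (pop n = 12 ∧ tr (sgn n) = 0) ∨
      (pop n = 16 ∧ tr (sgn n) = 5) := by
  have h : (avMasks.all fun n => decide ((n = 0 ∧ pop n = 0) ∨ pop n = 8 ∨ pop n = 12 ∨ pop n = 16))
      = true := by decide +kernel
  rw [tr_sgn (avMasks_spec n hn)]
  rcases of_decide_eq_true (List.all_eq_true.1 h n hn) with e | e | e | e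
  · exact Or.inl e
  · exact Or.inr (Or.inl ⟨e, by rw [e]; decide⟩)
  · exact Or.inr (Or.inr (Or.inl ⟨e, by rw [e]; decide⟩))
  · exact Or.inr (Or.inr (Or.inr ⟨e, by rw [e]; decide⟩))

theorem orderOf_sgn {n : ℕ} (hn : n ∈ avMasks) (h0 : n ≠ 0) : orderOf (sgn n) = 2 := by
  refine orderOf_eq_prime (by rw [sq, sgn_mul_self (avMasks_spec n hn)]) fun e => ?_
  have h1 : tr (1 : K2) = tr (sgn 0) := by rw [sgn_zero]
  rw [tr_sgn (avMasks_spec 0 (by decide +kernel))] at h1
  have h2 : (24 : ZMod 13) - 2 * (pop 0 : ZMod 13) = 11 := by decide +kernel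
  rcases av_trace hn with ⟨e1, -⟩ | ⟨-, e1⟩ | ⟨-, e1⟩ | ⟨-, e1⟩
  · exact h0 e1
  all_goals rw [e, h1, h2] at e1; exact absurd e1 (by decide)

/-- The words met along a program, the stack holding the way back to the root. -/
def prog (root : ℕ) : List ℕ → List ℕ → List ℕ
  | [], _ => []
  | 0 :: t, st => prog root t st.tail
  | (k + 1) :: t, st =>
    let n := pmask (if k = 0 then Data.genP0 else Data.genP1) (st.headD root)
    n :: prog root t (n :: st)

theorem gen_ok : PermOK Data.genP0 Data.genQ0 ∧ PermOK Data.genP1 Data.genQ1 ∧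
    (∀ i < 24, Data.genP0.getD i 0 < 24) ∧ ∀ i < 24, Data.genP1.getD i 0 < 24 := by
  refine ⟨?_, ?_, ?_, ?_⟩ <;> decide +kernel

theorem av_pmask {P Q : List ℕ} (h : PermOK P Q) (hP : ∀ i < 24, P.getD i 0 < 24) {n : ℕ}
    (hn : Av n) : Av (pmask P n) := by
  have hb := bitWord_pmask h hP n
  refine ⟨(Leech.mem_iff _).1 ?_, ?_, ?_⟩
  · rw [hb]; exact Leech.comp_mem_of_M24 (inv_mem (perm_mem h)) (av_mem hn)
  all_goals
    have hu := congrFun (congrArg Subtype.val (permCo0_fix (perm_mem h) h.2.2.2))
  · have hp := hu none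
    rw [Leech.permCo0_apply] at hp
    rw [testBit_pmask P n (by norm_num)]
    have e : ptOf (P.getD 0 0) = none ∨ ptOf (P.getD 0 0) = some 0 := by
      by_contra hc
      rw [not_or] at hc
      rw [show (perm h)⁻¹ none = ptOf (P.getD 0 0) from rfl, vecU_eq_zero hc.1 hc.2] at hp
      exact absurd hp (by decide +kernel)
    rcases e with e | e <;> replace e := congrArg idx e <;>
      rw [Leech.idx_ptOf _ (hP 0 (by norm_num))] at e <;> rw [e]
    exacts [hn.2.1, hn.2.2]
  · have hp := hu (some 0)
    rw [Leech.permCo0_apply] at hp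
    rw [testBit_pmask P n (by norm_num)]
    have e : ptOf (P.getD 1 0) = none ∨ ptOf (P.getD 1 0) = some 0 := by
      by_contra hc
      rw [not_or] at hc
      rw [show (perm h)⁻¹ (some 0) = ptOf (P.getD 1 0) from rfl, vecU_eq_zero hc.1 hc.2] at hp
      exact absurd hp (by decide +kernel)
    rcases e with e | e <;> replace e := congrArg idx e <;>
      rw [Leech.idx_ptOf _ (hP 1 (by norm_num))] at e <;> rw [e]
    exacts [hn.2.1, hn.2.2]

/-- Words of a program give conjugate elements, by monomial elements. -/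
theorem isConj_prog (root : ℕ) (M : Subgroup K2) (hM0 : pm gen_ok.1 ∈ M) (hM1 : pm gen_ok.2.1 ∈ M)
    (hr : Av root) : ∀ (ops st : List ℕ),
      (∀ n ∈ st, Av n ∧ ∃ m ∈ M, m * sgn root * m⁻¹ = sgn n) →
      ∀ n ∈ prog root ops st, Av n ∧ ∃ m ∈ M, m * sgn root * m⁻¹ = sgn n
  | [], _, _ => by simp [prog]
  | 0 :: t, st, hst => fun n hn => by
    rw [prog] at hn
    exact isConj_prog root M hM0 hM1 hr t st.tail
      (fun k hk => hst k (List.mem_of_mem_tail hk)) n hn
  | (k + 1) :: t, st, hst => fun n hn => by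
    set a := st.headD root with ha
    have hhead : Av a ∧ ∃ m ∈ M, m * sgn root * m⁻¹ = sgn a := by
      cases st with
      | nil => exact ⟨hr, 1, one_mem _, by rw [ha, List.headD_nil]; group⟩
      | cons b t' => exact hst b List.mem_cons_self
    obtain ⟨hav, m, hm, hme⟩ := hhead
    have hnew : Av (pmask (if k = 0 then Data.genP0 else Data.genP1) a) ∧
        ∃ m ∈ M, m * sgn root * m⁻¹ =
          sgn (pmask (if k = 0 then Data.genP0 else Data.genP1) a) := by
      split_ifs
      · have h' := av_pmask gen_ok.1 gen_ok.2.2.1 hav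
        exact ⟨h', pm gen_ok.1 * m, mul_mem hM0 hm, by
          rw [← conj_pm gen_ok.1 gen_ok.2.2.1 hav h', ← hme]; group⟩
      · have h' := av_pmask gen_ok.2.1 gen_ok.2.2.2 hav
        exact ⟨h', pm gen_ok.2.1 * m, mul_mem hM1 hm, by
          rw [← conj_pm gen_ok.2.1 gen_ok.2.2.2 hav h', ← hme]; group⟩
    simp only [prog, List.mem_cons, ← ha] at hn
    rcases hn with rfl | hn
    · exact hnew
    · refine isConj_prog root M hM0 hM1 hr t _ (fun j hj => ?_) n hn
      rcases List.mem_cons.1 hj with rfl | hj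
      exacts [hnew, hst j hj]

/-- A word is determined by its first twelve bits. -/
theorem sgn_eq_of_mod {m n : ℕ} (hm : Av m) (hn : Av n) (h : m % 4096 = n % 4096) : sgn m = sgn n := by
  have hb : bitWord m = bitWord n := by
    rw [← hm.1, ← hn.1]
    funext p
    simp only [Leech.dec, LinearMap.coe_mk, AddHom.coe_mk]
    refine Finset.sum_congr rfl fun i _ => ?_
    have hi : ∀ i : Fin 12, idx (Leech.piv i) < 12 := by decide +kernel
    have e := congrArg (fun a => a.testBit (idx (Leech.piv i))) h
    simp only [show (4096 : ℕ) = 2 ^ 12 from rfl, Nat.testBit_mod_two_pow, hi i, decide_true,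
      Bool.true_and] at e
    simp only [Leech.bitWord, e]
  exact inc_injective (by rw [inc_sgn hm, inc_sgn hn]; exact Leech.signCo0_congr hb _ _)

/-- Equal sign changes have equal first twelve bits. -/
theorem mod_eq_of_sgn {m n : ℕ} (hm : Av m) (hn : Av n) (h : sgn m = sgn n) :
    m % 4096 = n % 4096 := by
  have h2 := congrArg inc h
  rw [inc_sgn hm, inc_sgn hn] at h2
  refine Nat.eq_of_testBit_eq fun i => ?_
  simp only [show (4096 : ℕ) = 2 ^ 12 from rfl, Nat.testBit_mod_two_pow]
  by_cases hi : i < 12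
  · have h3 := congrFun (congrArg Subtype.val
      (congrArg (fun g : ↥Co0 => g • Leech.oct (ptOf i)) h2)) (ptOf i)
    simp only [Leech.signCo0_apply, Leech.negOn, Leech.oct, Pi.single_eq_same, Leech.bitWord,
      Leech.idx_ptOf i (by omega)] at h3
    cases h1 : m.testBit i <;> cases h2' : n.testBit i <;> simp [h1, h2', hi] at h3 ⊢
  · simp [hi]

/-- The set of first twelve bits of a list, as a mask. -/
def keySet (l : List ℕ) : ℕ := l.foldl (fun acc n => acc ||| 2 ^ (n % 4096)) 0

theorem testBit_keySet {l : List ℕ} {j : ℕ} (h : (keySet l).testBit j = true) :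
    ∃ n ∈ l, n % 4096 = j := by
  have key : ∀ (l : List ℕ) (acc : ℕ),
      (l.foldl (fun acc n => acc ||| 2 ^ (n % 4096)) acc).testBit j = true →
      acc.testBit j = true ∨ ∃ n ∈ l, n % 4096 = j := by
    intro l
    induction l with
    | nil => exact fun acc h => Or.inl h
    | cons a t ih =>
      intro acc h
      rcases ih _ h with h | ⟨n, hn, e⟩
      · rw [Nat.testBit_or, Bool.or_eq_true] at h
        rcases h with h | h
        · exact Or.inl h
        · rw [Nat.testBit_two_pow, decide_eq_true_eq] at h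
          exact Or.inr ⟨a, List.mem_cons_self, h⟩
      · exact Or.inr ⟨n, List.mem_cons_of_mem _ hn, e⟩
  exact (key l 0 h).resolve_left (by simp)

end Cfsg.Agent.CoTwoUniq
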