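import Cfsg.Agent.CoTwoUniq.Defs
import Cfsg.Agent.CoTwoUniq.Cent.Match
import Cfsg.Agent.CoTwoUniq.Cent.Spin
import Cfsg.Agent.CoTwoUniq.Cent.Model
import Cfsg.Agent.CoTwoType.Invol

/-!
The centraliser of an involution in the setting of the second Conway group is that of the model:
both settings have involutions over the transvections or over the products of two commuting ones,
so the central extension comparing them splits.
-/

set_option autoImplicit false

open Cfsg Cfsg.Agent.ThreeTrans.OrthCohom Cfsg.Agent.Classical.Quad QuadraticMap Cfsg.Agent.LargeExtra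
  Cfsg.Agent.CoOneType
open Cfsg.Agent.Co3Rec (Sp C0)
open Cfsg.Agent.CoTwoType (CoT sp6)
open scoped Classical

namespace Cfsg.Agent.CoTwoUniq

open Cent

theorem centMap_ker {G : Type*} [Group G] [Finite G] {z : G} (S : CoT z) :
    (centMap S).ker = pCore 2 ↥(Subgroup.centralizer ({z} : Set G)) := by
  ext c
  have hc := Subgroup.mem_centralizer_singleton_iff.1 c.2
  have h : c ∈ pCore 2 ↥(Subgroup.centralizer ({z} : Set G)) ↔ c.1 ∈ oc z := by
    refine ⟨fun h => ⟨c, h, rfl⟩, ?_⟩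
    rintro ⟨d, hd, e⟩
    rwa [← Subtype.ext e]
  rw [h, MonoidHom.mem_ker, centMap_apply, ← map_one χ, (χ_injective S).eq_iff]
  exact ⟨fun e => S.act_ker _ hc (congrArg Subtype.val e), fun e => Subtype.ext (S.toBase.act_inner e)⟩

theorem centMap_surjective {G : Type*} [Group G] [Finite G] {z : G} (S : CoT z) :
    Function.Surjective (centMap S) := fun B => by
  obtain ⟨o, rfl⟩ := χ_surjective B
  obtain ⟨c, hc, e⟩ := S.act_surj o.1 o.2
  exact ⟨⟨c, Subgroup.mem_centralizer_singleton_iff.2 hc⟩, congrArg χ (Subtype.ext e)⟩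

/-- The model has involutions over both elements. -/
theorem model_invol (S₀ : CoT z0) {o : ↥sp6} (ho : o = tS ∨ o = cS) :
    ∃ x, x * z0 = z0 * x ∧ x * x = 1 ∧ S₀.act x = o.1 := by
  have hker : (centMap S₀).ker = lam.ker := (centMap_ker S₀).trans lam_ker.symm
  let α : Sp ≃* Sp := (QuotientGroup.quotientKerEquivOfSurjective lam lam_surjective).symm.trans
    ((QuotientGroup.quotientMulEquivOfEq hker.symm).trans
      (QuotientGroup.quotientKerEquivOfSurjective (centMap S₀) (centMap_surjective S₀)))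
  have hα : ∀ x, α (lam x) = centMap S₀ x := fun x => by
    have h : (QuotientGroup.quotientKerEquivOfSurjective lam lam_surjective).symm (lam x) =
        (QuotientGroup.mk x : ↥C1 ⧸ lam.ker) :=
      (MulEquiv.symm_apply_eq _).2 rfl
    show QuotientGroup.quotientKerEquivOfSurjective (centMap S₀) (centMap_surjective S₀)
      (QuotientGroup.quotientMulEquivOfEq hker.symm
        ((QuotientGroup.quotientKerEquivOfSurjective lam lam_surjective).symm (lam x))) = _
    rw [h]
    rfl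
  have key : ∃ x : ↥C1, x * x = 1 ∧ ∃ g, g * α (lam x) * g⁻¹ = χ o := by
    rcases ho with rfl | rfl
    · obtain ⟨x, hx, e⟩ := exists_over_tT
      exact ⟨x, hx, by rw [χ_tS, e]; exact aut_tT α⟩
    · obtain ⟨x, hx, e⟩ := exists_over_cT
      exact ⟨x, hx, by rw [χ_cS, e]; exact aut_cT α⟩
  obtain ⟨x, hx, g, hg⟩ := key
  obtain ⟨c, rfl⟩ := centMap_surjective S₀ g
  rw [hα, ← map_inv, ← map_mul, ← map_mul, centMap_apply] at hg
  refine ⟨(c * x * c⁻¹).1, Subgroup.mem_centralizer_singleton_iff.1 (c * x * c⁻¹).2, ?_,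
    congrArg Subtype.val (χ_injective S₀ hg)⟩
  have : c * x * c⁻¹ * (c * x * c⁻¹) = 1 := by
    rw [show c * x * c⁻¹ * (c * x * c⁻¹) = c * (x * x) * c⁻¹ by group, hx, mul_one, mul_inv_cancel]
  exact congrArg Subtype.val this

variable {G : Type*} [Group G] [Finite G] {z : G}

/-- The centraliser embedding, from an involution over a transvection or over a product of two
commuting ones. -/
theorem exists_centEmb_of (S₀ : CoT z0) (S : CoT z)
    (hs : ∃ s, s * z = z * s ∧ s * s = 1 ∧ (S.act s = tS.1 ∨ S.act s = cS.1)) :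
    Nonempty (CentEmb z) := by
  obtain ⟨ψ⟩ := exists_match S₀.toBase S.toBase
  obtain ⟨s, hsz, hss, hso⟩ := hs
  set o : ↥sp6 := ⟨S.act s, S.act_mem s hsz⟩
  have ho : o = tS ∨ o = cS := hso.imp (fun e => Subtype.ext e) fun e => Subtype.ext e
  obtain ⟨x, hxz, hxx, hxo⟩ := model_invol S₀ ho
  have hgood : GoodAxis o.1 := by
    rcases ho with e | e <;> rw [e]
    · exact goodAxis_tS
    · exact goodAxis_cS
  have hno : NoInv (χ o) := by
    rcases ho with e | e <;> rw [e]
    · rw [χ_tS]; exact noInv_tT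
    · rw [χ_cS]; exact noInv_cT
  have h12 : ∀ c, c * z0 = z0 * c → ∃ d, d * z = z * d ∧ S.act d = S₀.act c := fun c hc =>
    S.act_surj _ (S₀.act_mem c hc)
  have h21 : ∀ d, d * z = z * d → ∃ c, c * z0 = z0 * c ∧ S₀.act c = S.act d := fun d hd =>
    S₀.act_surj _ (S.act_mem d hd)
  have hmem : ∀ e : ψ.Ext, ψ.proj e ∈ sp6 := fun e => by
    obtain ⟨d, rfl⟩ := QuotientGroup.mk_surjective e
    rw [ψ.proj_mk]
    exact S₀.act_mem _ d.2.1
  let ρ : ψ.Ext →* Sp := χ.comp (ψ.proj.codRestrict sp6 hmem)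
  have hρ : Function.Surjective ρ := fun B => by
    obtain ⟨p, rfl⟩ := χ_surjective B
    obtain ⟨c, hc, e⟩ := S₀.act_surj p.1 p.2
    obtain ⟨d, hd, e'⟩ := h12 c hc
    obtain ⟨q, -, hq⟩ := ψ.pairs_surj hc hd e'.symm
    exact ⟨QuotientGroup.mk ⟨(c, q * d), hq⟩, congrArg χ (Subtype.ext e)⟩
  have hker : ∀ e, e ∈ ρ.ker ↔ e = 1 ∨ e = ψ.eps := fun e => by
    refine ⟨fun h => ψ.proj_ker (congrArg Subtype.val (χ_injective S₀ ((MonoidHom.mem_ker.1 h).trans (map_one χ).symm))),
      ?_⟩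
    rintro (rfl | rfl)
    · exact one_mem _
    · show χ _ = 1
      rw [show (ψ.proj.codRestrict sp6 hmem) ψ.eps = 1 from Subtype.ext ψ.proj_eps, map_one]
  have hzc : ρ.ker ≤ Subgroup.center ψ.Ext := fun e he => Subgroup.mem_center_iff.2 fun y => by
    rcases (hker e).1 he with rfl | rfl
    · rw [mul_one, one_mul]
    · exact (ψ.eps_central y).symm
  have hk : Nat.card ↥ρ.ker = 2 := by
    rw [← SetLike.coe_sort_coe, show (ρ.ker : Set ψ.Ext) = {1, ψ.eps} from Set.ext fun e => hker e,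
      Nat.card_coe_set_eq, Set.ncard_pair ψ.eps_ne.symm]
  obtain ⟨q, -, hqp, hqq⟩ := ψ.pair_involution hxz hsz hxo hxx hss
    (fun v hv => by rw [hxo] at hv ⊢; exact hgood.fix v hv)
    (fun v hv => by rw [hxo] at hv; exact hgood.ts v hv)
    (fun w hw => by rw [hxo] at hw ⊢; exact hgood.perp w hw)
  set y : ψ.Ext := QuotientGroup.mk ⟨(x, q * s), hqp⟩
  have hy : y * y = 1 :=
    congrArg QuotientGroup.mk (Subtype.ext (Prod.ext hxx hqq) :
      (⟨(x, q * s), hqp⟩ : ↥ψ.pairs) * ⟨(x, q * s), hqp⟩ = 1)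
  have hρy : ρ y = χ o := congrArg χ (Subtype.ext hxo)
  obtain ⟨T, hT⟩ := split_of_involution ρ hρ hzc hk hy fun w hw e => hno w hw (e.trans hρy)
  have hεT : ψ.eps ∉ T := fun h =>
    ψ.eps_ne (Subgroup.mem_bot.1 (hT.disjoint.le_bot ⟨(hker _).2 (Or.inr rfl), h⟩))
  have hall : ∀ e, e ∈ T ∨ ψ.eps * e ∈ T := fun e => by
    obtain ⟨⟨k, t⟩, hkt⟩ := hT.2 e
    change k.1 * t.1 = e at hkt
    rcases (hker k.1).1 k.2 with h | h
    · left; rw [← hkt, h, one_mul]; exact t.2
    · right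
      rw [← hkt, h, ← mul_assoc]
      rcases ψ.proj_ker (x := ψ.eps * ψ.eps) (by rw [map_mul, ψ.proj_eps, one_mul]) with e' | e'
      · rw [e', one_mul]; exact t.2
      · exact absurd (mul_eq_left.1 e') ψ.eps_ne
  obtain ⟨g, hg, hrange, hzz, -⟩ := ψ.exists_iso T hεT hall h12 h21
  exact ⟨⟨g, hg, hrange, hzz _⟩⟩

/-- The centraliser embedding of a setting in a simple group. -/
theorem exists_centEmb [IsSimpleGroup G] (S₀ : CoT z0) (S : CoT z) : Nonempty (CentEmb z) :=
  exists_centEmb_of S₀ S (CoTwoType.exists_invol S (CoTwoType.not_isolated S))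

end Cfsg.Agent.CoTwoUniq
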