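import Cfsg.Agent.CoTwoUniq.Octad

/-!
The image of the second Conway group is the whole group.
-/

set_option autoImplicit false
set_option linter.unusedSectionVars false

open Cfsg

namespace Cfsg.Agent.CoTwoUniq

variable {G : Type*} [Group G] [Finite G]

/-- An injective image of the model containing the centraliser of the marked involution, whose
conjugates meet it in one class, is the whole group. -/
theorem range_eq_top (θ : ↥Spor.Co2 →* G) (hθ : Function.Injective θ)
    (hC : Subgroup.centralizer ({θ z0} : Set G) ≤ θ.range)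
    (hfus : ∀ x : ↥Spor.Co2, IsConj (θ x) (θ z0) → IsConj x z0) : θ.range = ⊤ := by
  refine eq_top_iff.2 fun g _ => ?_
  by_contra hg
  set y := g * θ z0 * g⁻¹ with hy
  have hzo : orderOf (θ z0) = 2 := (orderOf_injective θ hθ _).trans orderOf_z0
  have hyR : y ∉ θ.range := fun h => hg (mem_of_move_z θ hC hfus (IsConj.refl _) h)
  have hyo : orderOf y = 2 := (Invol.orderOf_conj g (θ z0)).trans hzo
  have hdo : orderOf (θ (sgn Data.dm)) = 2 :=
    (orderOf_injective θ hθ _).trans (orderOf_sgn base_facts.2.1.1 (by decide +kernel))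
  have hnc : ¬ IsConj y (θ (sgn Data.dm)) := fun h => by
    have := tr_isConj (hfus _ (((isConj_iff.2 ⟨g, rfl⟩ : IsConj (θ z0) y).trans h).symm))
    rw [tr_base.2.1, tr_z0] at this
    exact absurd this (by decide)
  obtain ⟨c, _, hc, hcy, hcd, -⟩ := SuzRecog.exists_central_shift hyo hdo hnc
  obtain ⟨k, rfl⟩ := centralizer_dm_le θ hθ hC hfus hcd
  have hko : orderOf k = 2 := (orderOf_injective θ hθ k).symm.trans hc
  have hmove : y * θ k * y⁻¹ ∈ θ.range := ⟨k, by rw [← hcy.eq, mul_inv_cancel_right]⟩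
  rcases classes hko with ⟨h, -⟩ | ⟨h, -⟩ | ⟨-, h⟩
  · exact hyR (mem_of_move_z θ hC hfus (isConj_z0_of_tr hko h) hmove)
  · exact hyR (mem_of_move_d θ hθ hC hfus hko h hmove)
  · -- the octad class
    obtain ⟨p, rfl⟩ := isConj_iff.1 h
    have hm : (θ p)⁻¹ * y * θ p ∈ θ.range := by
      refine centralizer_bm_le θ hθ hC hfus ?_
      have e := hcy.eq
      simp only [map_mul, map_inv] at e
      show _ * _ = _ * _
      calc (θ p)⁻¹ * y * θ p * θ bO = (θ p)⁻¹ * (y * (θ p * θ bO * (θ p)⁻¹)) * θ p := by group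
        _ = (θ p)⁻¹ * (θ p * θ bO * (θ p)⁻¹ * y) * θ p := by rw [e]
        _ = _ := by group
    have := mul_mem (mul_mem (⟨p, rfl⟩ : θ p ∈ θ.range) hm) (inv_mem (⟨p, rfl⟩ : θ p ∈ θ.range))
    exact hyR (by simpa [mul_assoc] using this)

/-- Sign changes lie in the centraliser of the marked involution. -/
theorem sgn_mem_C1 {n : ℕ} (hn : n ∈ avMasks) : sgn n ∈ C1 := by
  refine Subgroup.mem_centralizer_singleton_iff.2 ?_
  show sgn n * S2136.tCo2 = S2136.tCo2 * sgn n
  rw [← sgn_zm]
  exact (sgn_comm (avMasks_spec n hn) av_zm).eq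

/-- Every involution of the model has a conjugate in the centraliser of the marked one, so fusion
there decides fusion in the model. -/
theorem fusion_of_hasFusion {z : G} (K : CentEmb z) (hF : K.HasFusion) (θ : ↥Spor.Co2 →* G)
    (hθ : Function.Injective θ) (hext : ∀ x : ↥C1, θ x = K.g x) :
    ∀ x : ↥Spor.Co2, IsConj (θ x) (θ z0) → IsConj x z0 := by
  intro x hx
  have hz : θ z0 = z := (hext ⟨z0, _⟩).trans K.map_z
  have hxo : orderOf x = 2 := by
    obtain ⟨g, hg⟩ := isConj_iff.1 hx.symm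
    rw [← orderOf_injective θ hθ x, ← hg, Invol.orderOf_conj, orderOf_injective θ hθ, orderOf_z0]
  obtain ⟨n, hn, -, h⟩ := exists_isConj_sgn hxo
  refine h.trans (hF ⟨sgn n, sgn_mem_C1 hn⟩ ?_)
  rw [← hext, ← hz]
  exact (θ.map_isConj h).symm.trans hx

end Cfsg.Agent.CoTwoUniq
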