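import Cfsg.Agent.S2136
import Cfsg.Agent.Leech.SignGroup

/-!
# Uniqueness of the second Conway group: shared notions

The marked involution of the model, its centraliser, the group of sign changes fixing the marked
vector and the monomial group `2 ^ 10 : M22 : 2` around it.
-/

set_option autoImplicit false

open Cfsg

namespace Cfsg.Agent.CoTwoUniq

/-- The marked involution, a sign change on sixteen coordinates. -/
abbrev z0 : ↥Spor.Co2 := S2136.tCo2

/-- Its centraliser. -/
abbrev C1 : Subgroup ↥Spor.Co2 := Subgroup.centralizer ({z0} : Set ↥Spor.Co2)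

/-- The sign changes fixing the marked vector. -/
def E1 : Subgroup ↥Spor.Co2 :=
  Subgroup.closure {x | ∃ c, ∃ hc : c ∈ golayCode, (x : Equiv.Perm leechLattice) = (Leech.signCo0 c hc).1}

/-- The coordinate permutations fixing the marked vector. -/
def P1 : Subgroup ↥Spor.Co2 :=
  Subgroup.closure {x | ∃ σ, ∃ hσ : σ ∈ Cfsg.M24, (x : Equiv.Perm leechLattice) = (Leech.permCo0 σ hσ).1}

/-- The monomial group `2 ^ 10 : M22 : 2`. -/
def N1 : Subgroup ↥Spor.Co2 := E1 ⊔ P1

universe u

variable {G : Type u} [Group G]

/-- Homomorphisms of the monomial group and of the centraliser agreeing where both are defined. -/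
def Agree (f : ↥N1 →* G) (g : ↥C1 →* G) : Prop :=
  ∀ (x : ↥Spor.Co2) (h1 : x ∈ N1) (h2 : x ∈ C1), f ⟨x, h1⟩ = g ⟨x, h2⟩

/-- An embedding of the centraliser of the model onto the centraliser of `z`. -/
structure CentEmb (z : G) where
  /-- the embedding -/
  g : ↥C1 →* G
  inj : Function.Injective g
  range_eq : g.range = Subgroup.centralizer ({z} : Set G)
  map_z : g ⟨z0, Subgroup.mem_centralizer_singleton_iff.mpr rfl⟩ = z

/-- Every conjugate of `z` in the centraliser comes from a conjugate of the marked involution. -/
def CentEmb.HasFusion {z : G} (K : CentEmb z) : Prop :=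
  ∀ x : ↥C1, IsConj (K.g x) z → IsConj (x : ↥Spor.Co2) z0

/-- Some element of the monomial group moving `z0` is realised in the group: the monomial group embeds
compatibly with the centraliser. -/
def CentEmb.HasMono {z : G} (K : CentEmb z) : Prop :=
  ∃ f : ↥N1 →* G, Function.Injective f ∧ Agree f K.g

end Cfsg.Agent.CoTwoUniq
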