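import Cfsg.Agent.CoTwoUniq.Gen
import Cfsg.Agent.DCoset.Steps

/-!
# Words of the letters evaluated on the twenty-four frame vectors
-/

set_option autoImplicit false
set_option maxRecDepth 100000

open Cfsg

namespace Cfsg.Agent.CoTwoUniq

open Cfsg.Agent.Leech (LGen)
open Cfsg.Agent.Leech.CentTwo (tGen)
open Cfsg.Agent.CoOneUniq (idG fcomp sameB0 eq_of_sameB0)
open Cfsg.Agent.CosetCert Cfsg.Agent.DCoset

theorem inc_u0 : inc u0 = uGen.g := Subtype.ext rfl

theorem x0_u0_check : sameB0 (fcomp uGen xGen) (fcomp xGen uGen) = true := by decide +kernel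

/-- The linking elements commute in the model. -/
theorem u0_comm_x0 : u0 * x0 = x0 * u0 := inc_injective (by
  rw [map_mul, map_mul, inc_u0, inc_x0]
  exact eq_of_sameB0 x0_u0_check)

/-- One letter pulls back a signed position `2 * i + s`. -/
noncomputable def pullC (g c : ℕ) : ℕ :=
  force ((letP g).getD (c / 2) 0) fun j => 2 * j + (c + if (letM g).testBit j then 1 else 0) % 2

/-- A word pulls back a signed position, the first letter first. -/
noncomputable def pullW (n : ℕ) : ℕ → ℕ → ℕ :=
  Nat.rec (motive := fun _ => ℕ → ℕ → ℕ) (fun _ c => c)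
    (fun _ r w c => force (pullC (w % 256) c) fun d => r (w / 256) d) n

/-- The signed entry of a list. -/
def readC (l : List ℤ) (c : ℕ) : ℤ := if c % 2 = 0 then l.getD (c / 2) 0 else -l.getD (c / 2) 0

/-- The action of a packed word body on lists. -/
noncomputable def monW (n w : ℕ) (l : List ℤ) : List ℤ :=
  (List.range 24).map fun i => readC l (pullW n w (2 * i))

theorem pullW_succ (n w c : ℕ) :
    pullW (n + 1) w c = pullW n (w / 256) (pullC (w % 256) c) := by
  show force (pullC (w % 256) c) _ = _
  rw [force_eq]
  rfl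

theorem readC_flip (l : List ℤ) : ∀ (n w j : ℕ),
    readC l (pullW n w (2 * j + 1)) = -readC l (pullW n w (2 * j))
  | 0, w, j => by
    show readC l (2 * j + 1) = -readC l (2 * j)
    simp [readC, show (2 * j + 1) / 2 = j by omega, show (2 * j + 1) % 2 = 1 by omega]
  | n + 1, w, j => by
    rw [pullW_succ, pullW_succ, pullC, pullC, force_eq, force_eq,
      show (2 * j + 1) / 2 = j by omega, show 2 * j / 2 = j by omega]
    cases (letM (w % 256)).testBit ((letP (w % 256)).getD j 0)
    · simp only [Bool.false_eq_true, if_false, show (2 * j + 1 + 0) % 2 = 1 by omega,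
        show 2 * j % 2 = 0 by omega, add_zero]
      exact readC_flip l n _ _
    · simp only [if_true, show (2 * j + 1 + 1) % 2 = 0 by omega,
        show (2 * j + 1) % 2 = 1 by omega, add_zero]
      rw [readC_flip l n, neg_neg]

theorem monF_monW (n w : ℕ) (l : List ℤ) :
    Leech.monF (letP (w % 256)) (letM (w % 256)) (monW n (w / 256) l) = monW (n + 1) w l := by
  refine List.map_congr_left fun i hi => ?_
  have hi' : i < 24 := List.mem_range.1 hi
  have hP := (letters_ok (w % 256)).2.1 i hi'
  have hget : (monW n (w / 256) l).getD ((letP (w % 256)).getD i 0) 0 =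
      readC l (pullW n (w / 256) (2 * (letP (w % 256)).getD i 0)) := by
    generalize (letP (w % 256)).getD i 0 = k at hP ⊢
    simp [monW, List.getD_eq_getElem?_getD, hP]
  rw [hget, pullW_succ, pullC, force_eq, show 2 * i / 2 = i by omega]
  cases (letM (w % 256)).testBit ((letP (w % 256)).getD i 0)
  · simp only [Bool.false_eq_true, if_false, show 2 * i % 2 = 0 by omega, add_zero]
  · simp only [if_true, show (2 * i + 1) % 2 = 1 by omega]
    rw [readC_flip]

theorem monW_zero (w : ℕ) (v : leechLattice) :
    monW 0 w (Leech.toL (v : GolayPt → ℤ)) = Leech.toL (v : GolayPt → ℤ) := by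
  refine List.map_congr_left fun i hi => ?_
  show readC _ (2 * i) = _
  rw [readC, if_pos (by omega), show 2 * i / 2 = i by omega]
  exact Leech.toL_getD _ _ (List.mem_range.1 hi)

theorem valW_spec : ∀ (n w : ℕ) (v : leechLattice),
    Leech.toL ((inc ((valW letEl n w : ↥N1) : K2) • v : leechLattice) : GolayPt → ℤ) =
      monW n w (Leech.toL (v : GolayPt → ℤ))
  | 0, w, v => by
    rw [monW_zero, valW, Subgroup.coe_one, map_one, one_smul]
  | n + 1, w, v => by
    rw [valW, Subgroup.coe_mul, map_mul, mul_smul, inc_letEl, (letG (w % 256)).spec,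
      valW_spec n (w / 256) v]
    exact monF_monW n w _

/-- The list action of a packed word body. -/
noncomputable def wordG (n w : ℕ) : LGen where
  g := inc ((valW letEl n w : ↥N1) : K2)
  f := monW n w
  spec := valW_spec n w

theorem valW_wordG (n w : ℕ) : inc ((valW letEl n w : ↥N1) : K2) = (wordG n w).g := rfl

/-- The list action of a packed word. -/
noncomputable def elG (w : ℕ) : LGen := wordG (w % 65536) (w / 65536)

theorem el_elG (w : ℕ) : inc ((val letEl w : ↥N1) : K2) = (elG w).g := valW_wordG _ _

/-- The element commutes with the marked involution. -/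
noncomputable def centB (a : LGen) : Bool := sameB0 (fcomp a tGen) (fcomp tGen a)

theorem mem_of_centB {a : LGen} {x : K2} (hx : inc x = a.g) (h : centB a = true) : x ∈ C1 := by
  rw [mem_C1_iff, hx]
  exact eq_of_sameB0 h

/-- The powers of the linking element. -/
noncomputable def tK (τ : ℕ) : K2 := if τ = 0 then 1 else if τ = 1 then x0 else x0 * x0

/-- The powers of the linking element as list actions. -/
noncomputable def tG (τ : ℕ) : LGen :=
  Bool.rec (motive := fun _ => LGen)
    (Bool.rec (motive := fun _ => LGen) (fcomp xGen xGen) xGen (Nat.beq τ 1)) idG (Nat.beq τ 0)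

theorem inc_tK (τ : ℕ) : inc (tK τ) = (tG τ).g := by
  have hb : ∀ m, Nat.beq τ m = decide (τ = m) := fun m => by
    cases h : Nat.beq τ m
    · exact (decide_eq_false fun e => by rw [e, Nat.beq_refl] at h; exact Bool.noConfusion h).symm
    · exact (decide_eq_true (Nat.eq_of_beq_eq_true h)).symm
  rw [tK, tG, hb 0, hb 1]
  by_cases h0 : τ = 0
  · simp only [h0, decide_true]
    exact map_one inc
  by_cases h1 : τ = 1
  · simp only [if_neg h0, if_pos h1, decide_eq_false h0, decide_eq_true h1]
    exact inc_x0
  · simp only [if_neg h0, if_neg h1, decide_eq_false h0, decide_eq_false h1, map_mul, inc_x0]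
    rfl

theorem tK_mem (τ : ℕ) : tK τ ∈ C1 := by
  rw [tK]
  split_ifs
  exacts [one_mem _, x0_mem, mul_mem x0_mem x0_mem]

end Cfsg.Agent.CoTwoUniq
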