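import Cfsg.Agent.CoTwoUniq.Defs
import Cfsg.Agent.Leech.CentTwoQuot

/-!
# The element linking two copies of the centraliser, and the universal property of the model

`x0` is an element of order three of the centraliser lying over a coordinate frame other than the
standard one, and `u0` a coordinate permutation of the monomial group moving `z0` and commuting with it.
-/

set_option autoImplicit false
set_option maxRecDepth 100000

open Cfsg

namespace Cfsg.Agent.CoTwoUniq

open Cfsg.Agent.Leech (LGen monGen toL toL_injective)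
open Cfsg.Agent.Leech.CentTwo (gM0 gX tGen)

/-- An element of the model from a lattice automorphism fixing the marked vector. -/
def mkCo2 (a : LGen) (h : a.f (toL Spor.vecU) = toL Spor.vecU) : ↥Spor.Co2 :=
  ⟨a.g.1, a.g.2, Subtype.ext (toL_injective ((a.spec _).trans h))⟩

theorem mkCo2_coe (a : LGen) (h : a.f (toL Spor.vecU) = toL Spor.vecU) :
    (mkCo2 a h : Equiv.Perm leechLattice) = a.g.1 := rfl

/-- Equal actions on the frame give equal elements. -/
theorem co2_ext {a b : ↥Spor.Co2}
    (h : ∀ i : GolayPt, (a : Equiv.Perm leechLattice) (Leech.oct i) = (b : Equiv.Perm leechLattice) (Leech.oct i)) :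
    a = b :=
  Subtype.ext (congrArg Subtype.val (Leech.ext_of_oct (g := ⟨a.1, a.2.1⟩) (h := ⟨b.1, b.2.1⟩) h :) :)

/-- A monomial element after the reflection. -/
def xTail : LGen := monGen [0, 1, 10, 8, 16, 2, 22, 7, 12, 6, 5, 20, 3, 13, 4, 15, 14, 19, 18, 23, 21, 11, 9, 17]
  [0, 1, 5, 12, 14, 10, 9, 7, 3, 22, 2, 21, 8, 13, 16, 15, 4, 23, 18, 17, 11, 20, 6, 19] 4120552 (by decide +kernel) (by decide +kernel) (by decide +kernel) (by decide +kernel)
  (by decide +kernel)

/-- The list action of the linking element. -/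
def xGen : LGen := (gM0.comp gX).comp xTail

/-- The linking element of the centraliser. -/
def x0 : ↥Spor.Co2 := mkCo2 xGen (by decide +kernel)

/-- The list action of the swap. -/
def uGen : LGen := monGen [0, 1, 16, 19, 4, 5, 9, 7, 8, 6, 14, 20, 17, 22, 10, 15, 2, 12, 21, 3, 11, 18, 13, 23]
  [0, 1, 16, 19, 4, 5, 9, 7, 8, 6, 14, 20, 17, 22, 10, 15, 2, 12, 21, 3, 11, 18, 13, 23] 0 (by decide +kernel) (by decide +kernel) (by decide +kernel) (by decide +kernel)
  (by decide +kernel)

/-- A permutation moving the marked involution. -/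
def u0 : ↥Spor.Co2 := mkCo2 uGen (by decide +kernel)

theorem u0_mem : u0 ∈ N1 := by
  refine Subgroup.mem_sup_right (Subgroup.subset_closure
    ⟨Leech.permOfLists [0, 1, 16, 19, 4, 5, 9, 7, 8, 6, 14, 20, 17, 22, 10, 15, 2, 12, 21, 3, 11, 18, 13, 23]
      [0, 1, 16, 19, 4, 5, 9, 7, 8, 6, 14, 20, 17, 22, 10, 15, 2, 12, 21, 3, 11, 18, 13, 23] (by decide +kernel) (by decide +kernel),
      Leech.mem_M24_of_rows (by decide +kernel), ?_⟩)
  show uGen.g.1 = _
  refine congrArg Subtype.val ?_
  show Leech.permCo0 _ _ * Leech.signCo0 _ _ = _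
  rw [Leech.signCo0_congr (Leech.bitWord_zero) _ (zero_mem _), Leech.signCo0_zero, mul_one]

theorem x0_mem : x0 ∈ C1 := by
  refine Subgroup.mem_centralizer_singleton_iff.mpr (co2_ext fun i => Subtype.ext (toL_injective ?_))
  show toL ((xGen.g • tGen.g • Leech.oct i : leechLattice) : GolayPt → ℤ) =
    toL ((tGen.g • xGen.g • Leech.oct i : leechLattice) : GolayPt → ℤ)
  rw [xGen.spec, tGen.spec, tGen.spec, xGen.spec]
  revert i
  decide +kernel

universe u

variable {G : Type u} [Group G]

/-- The two copies of the centraliser are linked. -/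
def Linked (f : ↥N1 →* G) (g : ↥C1 →* G) : Prop :=
  f ⟨u0, u0_mem⟩ * g ⟨x0, x0_mem⟩ = g ⟨x0, x0_mem⟩ * f ⟨u0, u0_mem⟩

/-- The model is the universal group of the linked amalgam. -/
def HasTheta (H : Type u) [Group H] : Prop :=
  ∀ (f : ↥N1 →* H) (g : ↥C1 →* H), Agree f g → Linked f g →
    ∃ θ : ↥Spor.Co2 →* H, (∀ x : ↥N1, θ x = f x) ∧ ∀ x : ↥C1, θ x = g x

end Cfsg.Agent.CoTwoUniq
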