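import Cfsg.Agent.CoTwoUniq.Model
import Cfsg.Agent.CoTwoUniq.Link
import Cfsg.Agent.CoOneUniq.Eval
import Cfsg.Agent.Co2Out.Model

/-!
# Generation of the model and of the centraliser by the monomial group and the linking element
-/

set_option autoImplicit false
set_option maxRecDepth 100000

open Cfsg

namespace Cfsg.Agent.CoTwoUniq

open Cfsg.Agent.Leech (LGen monGen toL toL_injective signCo0 permCo0)
open Cfsg.Agent.Leech.CentTwo (CT tGen gM0 gX gMX kGens qGens)
open Cfsg.Agent.CoOneUniq (fcomp sameB0 eq_of_sameB0)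

theorem inc_x0 : inc x0 = xGen.g := Subtype.ext rfl

theorem inc_z0 : inc z0 = tGen.g := Subtype.ext rfl

theorem mem_C1_iff {x : K2} : x ∈ C1 ↔ Commute (inc x) tGen.g := by
  rw [Subgroup.mem_centralizer_singleton_iff, ← inc_z0]
  exact ⟨fun h => (show Commute x z0 from h).map inc,
    fun h => inc_injective ((map_mul inc _ _).trans (h.eq.trans (map_mul inc _ _).symm))⟩

/-- A monomial element of the group lies in the monomial group. -/
theorem mem_N1_of_monoAut {x : K2} (h : MonoAut (inc x)) : x ∈ N1 := by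
  obtain ⟨σ, hσ, c, hc, hx⟩ := h
  have hu := inc_fix x
  rw [hx] at hu
  have hp : ∀ p, Spor.vecU (σ⁻¹ p) = Spor.vecU p ∧ (Spor.vecU p = 4 → c p = 0) := by
    intro p
    have h1 := congrFun (congrArg Subtype.val hu) p
    rw [mul_smul, Leech.signCo0_apply] at h1
    simp only [Leech.negOn, Leech.permCo0_apply] at h1
    change (if c p = 0 then Spor.vecU (σ⁻¹ p) else -Spor.vecU (σ⁻¹ p)) = Spor.vecU p at h1
    have hv : ∀ q, Spor.vecU q = 0 ∨ Spor.vecU q = 4 := fun q => by
      rw [Spor.vecU]; split_ifs <;> simp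
    split_ifs at h1 with hcp
    · exact ⟨h1, fun _ => hcp⟩
    · rcases hv (σ⁻¹ p) with e | e <;> rcases hv p with e' | e' <;> rw [e, e'] at h1 <;>
        first
          | exact absurd h1 (by decide)
          | exact ⟨by rw [e, e'], fun e4 => absurd (e'.symm.trans e4) (by decide)⟩
  have hfix : permCo0 σ hσ • Spor.leechU = Spor.leechU := Subtype.ext (funext fun p => by
    rw [Leech.permCo0_apply]; exact (hp p).1)
  have hsfix : signCo0 c hc • Spor.leechU = Spor.leechU := by
    conv_lhs => rw [← hfix, ← mul_smul]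
    exact hu
  have e : x = mk (signCo0 c hc) hsfix * mk (permCo0 σ hσ) hfix := inc_injective (by
    rw [map_mul, inc_mk, inc_mk, hx])
  rw [e]
  refine mul_mem (Subgroup.mem_sup_left (Subgroup.subset_closure ⟨c, hc, ?_⟩))
    (Subgroup.mem_sup_right (Subgroup.subset_closure ⟨σ, hσ, ?_⟩))
  · exact congrArg Subtype.val (inc_mk _ hsfix)
  · exact congrArg Subtype.val (inc_mk _ hfix)

theorem monoAut_monGen {P Q : List ℕ} {m : ℕ} {h1 h2 hP hσ hm} :
    MonoAut (monGen P Q m h1 h2 hP hσ hm).g := by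
  refine monoAut_mul ⟨_, Leech.mem_M24_of_rows hσ, 0, zero_mem _, ?_⟩
    ⟨1, one_mem _, _, (Leech.mem_iff _).2 hm, ?_⟩
  · rw [Leech.signCo0_zero, one_mul]
  · rw [show permCo0 1 (one_mem _) = 1 from Leech.ext_of_oct fun i => Subtype.ext (funext fun q => by
      rw [Leech.permCo0_apply, one_smul]; simp), mul_one]

/-- The monomial elements of the centraliser together with the linking element. -/
noncomputable def genK : Subgroup K2 :=
  Subgroup.closure (((N1 ⊓ C1 : Subgroup K2) : Set K2) ∪ {x0})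

theorem mono_mem_genK {a : LGen} (hm : MonoAut a.g) (h : a.g ∈ CT) : a.g ∈ genK.map inc := by
  have hU : a.g • Spor.leechU = Spor.leechU := h.1
  have h1 : mk a.g hU ∈ N1 := mem_N1_of_monoAut (by rw [inc_mk]; exact hm)
  have h2 : mk a.g hU ∈ C1 := by
    rw [mem_C1_iff, inc_mk]
    exact Subgroup.mem_centralizer_singleton_iff.1 h.2
  exact ⟨mk a.g hU, Subgroup.subset_closure (Or.inl ⟨h1, h2⟩), inc_mk _ hU⟩

theorem gX_mem_genK : gX.g ∈ genK.map inc := by
  have h1 : gM0.g ∈ genK.map inc :=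
    mono_mem_genK monoAut_monGen (Leech.CentTwo.qGens_mem gM0 (by simp [qGens]))
  have h2 : xTail.g ∈ genK.map inc :=
    mono_mem_genK monoAut_monGen (Leech.CentTwo.mem_CT_of_lists (a := xTail) (by decide +kernel)
      (by decide +kernel))
  have h3 : xGen.g ∈ genK.map inc := ⟨x0, Subgroup.subset_closure (Or.inr rfl), inc_x0⟩
  rw [show gX.g = gM0.g⁻¹ * xGen.g * xTail.g⁻¹ by
    show _ = gM0.g⁻¹ * (gM0.g * gX.g * xTail.g) * xTail.g⁻¹
    group]
  exact mul_mem (mul_mem (inv_mem h1) h3) (inv_mem h2)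

theorem gens_mem_genK : ∀ a ∈ kGens ++ qGens, a.g ∈ genK.map inc := by
  intro a ha
  have hCT : a.g ∈ CT := by
    rcases List.mem_append.1 ha with h | h
    exacts [Leech.CentTwo.kGens_mem a h, Leech.CentTwo.qGens_mem a h]
  simp only [kGens, qGens, List.mem_append, List.mem_cons, List.not_mem_nil, or_false] at ha
  rcases ha with (rfl | rfl | rfl | rfl | rfl | rfl | rfl | rfl | rfl) | (rfl | rfl | rfl | rfl) <;>
    first
      | exact gX_mem_genK
      | exact mono_mem_genK monoAut_monGen hCT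

section CT
open Cfsg.Agent.Leech Cfsg.Agent.Leech.CentTwo

theorem kEl_mem_of (M : Subgroup ↥Co0) (i : ℕ) :
    ∀ (l : List (↥act.ker × (List ℤ → List ℤ))) (k : ℕ),
      (∀ x ∈ l, x.1.1.1 ∈ M) → (kEl i l k).1.1 ∈ M
  | [], _, _ => by rw [kEl]; exact one_mem M
  | x :: l, k, h => by
    rw [kEl]
    have h1 := h x List.mem_cons_self
    have h2 := kEl_mem_of M i l (k + 1) fun y hy => h y (List.mem_cons_of_mem _ hy)
    split_ifs
    · exact mul_mem h1 h2
    · exact h2

/-- The thirteen generators generate the stabiliser of the involution and the vector. -/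
theorem CT_le_of_gens (M : Subgroup ↥Co0) (hM : ∀ a ∈ kGens ++ qGens, a.g ∈ M) : CT ≤ M := by
  intro g hg
  set S : Subgroup ↥CT := M.subgroupOf CT
  have hker : act.ker ≤ S := fun x hx => by
    obtain ⟨i, hi⟩ := kG_surjective ⟨x, hx⟩
    rw [show x = (kG i).1 by rw [hi]]
    refine kEl_mem_of M i kK 0 fun y hy => ?_
    obtain ⟨a, -, rfl⟩ := List.mem_map.1 hy
    exact hM _ (List.mem_append_left _ a.2)
  have hq : Model.genGroup 63 pairPerms ≤ S.map act := by
    refine (Subgroup.closure_le _).2 ?_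
    rintro β ⟨P, hP, hβ⟩
    obtain ⟨a, ha, rfl⟩ := List.getElem_of_mem hP
    have ha4 : a < qGens.length := ha
    refine ⟨⟨qGens[a].g, qGens_mem _ (List.getElem_mem ha4)⟩,
      hM _ (List.mem_append_right _ (List.getElem_mem ha4)),
      Equiv.ext fun j => actFun_eq _ _ _ ?_⟩
    have h := List.all_eq_true.1 (List.all_eq_true.1 qAct_check a (List.mem_range.2 ha)) j
      (List.mem_finRange j)
    simp only [Bool.or_eq_true] at h
    have hk : (Fin.ofNat 63 (Model.pk 10 (pairPerms.getD a 0) j)) = β j := by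
      rw [List.getD_eq_getElem?_getD, List.getElem?_eq_getElem ha, Option.getD_some, ← hβ j]
      exact Fin.ext (Nat.mod_eq_of_lt (β j).2)
    have hf : (qGens.map LGen.f).getD a id = qGens[a].f := by
      simp [List.getD_eq_getElem?_getD, ha4]
    rw [hk, hf] at h
    rcases h with e | e
    · exact Or.inl (Subtype.ext (Leech.toL_injective ((qGens[a].spec _).trans (Model.eq_of_eqZ e))))
    · exact Or.inr (Subtype.ext (Leech.toL_injective ((qGens[a].spec _).trans (Model.eq_of_eqZ e))))
  have himg : act ⟨g, hg⟩ ∈ S.map act := hq (counts.2.2.1 ▸ ⟨⟨g, hg⟩, rfl⟩)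
  obtain ⟨y, hy, hye⟩ := himg
  have hm : y⁻¹ * ⟨g, hg⟩ ∈ S :=
    hker (by rw [MonoidHom.mem_ker, map_mul, map_inv, hye, inv_mul_cancel])
  have : (⟨g, hg⟩ : ↥CT) ∈ S := by simpa using mul_mem hy hm
  exact this

end CT

/-- The centraliser is generated by its monomial part and the linking element. -/
theorem C1_gen : C1 ≤ genK := by
  intro x hx
  have h : inc x ∈ CT := ⟨inc_fix x, Subgroup.mem_centralizer_singleton_iff.2 (mem_C1_iff.1 hx)⟩
  obtain ⟨y, hy, hye⟩ := CT_le_of_gens _ gens_mem_genK h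
  rwa [← inc_injective hye]

/-- A monomial element completing a word for the last generator. -/
def nThree : LGen :=
  monGen [1, 0, 21, 14, 2, 10, 8, 20, 9, 12, 22, 5, 11, 19, 4, 15, 7, 18, 13, 17, 3, 16, 6, 23]
    [1, 0, 4, 20, 14, 11, 22, 16, 6, 8, 5, 12, 9, 18, 3, 15, 21, 19, 17, 13, 7, 2, 10, 23] 9252996
    (by decide +kernel) (by decide +kernel) (by decide +kernel) (by decide +kernel)
    (by decide +kernel)

theorem a3_eq : sameB0 McL.Model.a3 (fcomp (fcomp xGen (letG 15)) (fcomp xGen nThree)) = true := by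
  decide +kernel

/-- The model is generated by the monomial group and the linking element. -/
theorem co_gen : Subgroup.closure ((N1 : Set K2) ∪ {x0}) = ⊤ := by
  set K := Subgroup.closure ((N1 : Set K2) ∪ {x0}) with hK
  have hmono : ∀ (a : K2), MonoAut (inc a) → a ∈ K := fun a h =>
    Subgroup.subset_closure (Or.inl (mem_N1_of_monoAut h))
  have hgen : ∀ (a : LGen) (ha : a ∈ Co2Out.Data.gensL),
      (⟨_, Co2Out.gens_mem ha⟩ : K2) ∈ K := by
    intro a ha
    have hi : inc (⟨_, Co2Out.gens_mem ha⟩ : K2) = a.g := Subtype.ext rfl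
    simp only [Co2Out.Data.gensL, List.mem_cons, List.not_mem_nil, or_false] at ha
    rcases ha with rfl | rfl | rfl | rfl | rfl
    iterate 3 exact hmono _ (by rw [hi]; exact monoAut_monGen)
    · have h3 := eq_of_sameB0 a3_eq
      have hm : MonoAut (inc (x0⁻¹ * (letEl 15 : K2)⁻¹ * x0⁻¹ * ⟨_, Co2Out.gens_mem ha⟩)) := by
        rw [map_mul, map_mul, map_mul, map_inv, map_inv, inc_x0, inc_letEl, hi, h3,
          show xGen.g⁻¹ * (letG 15).g⁻¹ * xGen.g⁻¹ *
            (fcomp (fcomp xGen (letG 15)) (fcomp xGen nThree)).g = nThree.g by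
              show _ * (xGen.g * (letG 15).g * (xGen.g * nThree.g)) = _
              group]
        exact monoAut_monGen
      have hx : x0 ∈ K := Subgroup.subset_closure (Or.inr rfl)
      have hl : (letEl 15 : K2) ∈ K := Subgroup.subset_closure (Or.inl (letEl 15).2)
      have := mul_mem (mul_mem (mul_mem hx hl) hx) (hmono _ hm)
      simpa [mul_assoc] using this
    · exact hmono _ (by rw [hi]; exact monoAut_monGen)
  have hsub : Set.range Co2Out.baseGen ⊆ K := by
    rintro x ⟨s, rfl⟩
    rw [Co2Out.baseGen]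
    split_ifs with hs
    · exact hgen _ (List.getElem_mem hs)
    · exact one_mem K
  refine eq_top_iff.2 ?_
  rw [← Co2Out.generated, Subgroup.closure_le]
  intro x hx
  obtain ⟨-, h0, h1, -⟩ := Co2Out.gen_exists.choose_spec
  have hev : ∀ w : List ℕ, Cfsg.Agent.StemCert.evalW Co2Out.baseGen w ∈ K := fun w =>
    list_prod_mem fun y hy => by
      obtain ⟨s, -, rfl⟩ := List.mem_map.1 hy
      exact hsub ⟨s, rfl⟩
  rcases hx with rfl | rfl
  · rw [show Co2Out.gen 0 = Co2Out.pairGen 0 from h0]; exact hev _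
  · rw [show Co2Out.gen 1 = Co2Out.pairGen 1 from h1]; exact hev _

end Cfsg.Agent.CoTwoUniq
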