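import Cfsg.Agent.CoTwoUniq.ThetaOf
import Cfsg.Agent.CoTwoUniq.Enum.Cert

/-!
# The universal property of the second Conway group over its linked amalgam
-/

set_option autoImplicit false
set_option Elab.async false
set_option maxRecDepth 100000

open Cfsg

namespace Cfsg.Agent.CoTwoUniq

open Cfsg.Agent.CosetCert Cfsg.Agent.DCoset

theorem tab_base : Enum.tab.base = pk16 Enum.tab.k fun l => (basePt Enum.tab l).val := by
  decide +kernel

theorem act_all : (CoOneUniq.allLt Enum.tab.nL fun g => actOKRow Enum.tab g) = true := by
  decide +kernel

theorem chain_prod :
    ((List.range Enum.tab.k).map (Enum.cover.chain 0).size).prod = 908328960 := by decide +kernel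

theorem rules_ok : rulesB Enum.tab Enum.rules = true := by decide +kernel

universe u

/-- The model is the universal group of the linked amalgam. -/
theorem hasTheta (H : Type u) [Group H] [Finite H] : HasTheta H :=
  hasTheta_of Enum.tab (fun g hg => CoOneUniq.allLt_spec act_all g hg) Enum.tab_act_lt tab_base
    (by decide) chain_prod Enum.steps_ok Enum.node_src Enum.valid Enum.idx_sum rules_ok H

end Cfsg.Agent.CoTwoUniq
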