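import Cfsg.Agent.CoTwoUniq.ModelType
import Cfsg.Agent.CoTwoUniq.CentIso
import Cfsg.Agent.CoTwoUniq.Fusion.Main
import Cfsg.Agent.CoTwoUniq.Mono.Linked
import Cfsg.Agent.CoTwoUniq.Theta
import Cfsg.Agent.CoTwoUniq.Final

/-!
The second Conway group is determined by the centraliser of an involution.
-/

set_option autoImplicit false

open Cfsg

namespace Cfsg.Agent.CoTwoUniq

universe u

variable {G : Type u} [Group G] [Finite G] {z : G}

/-- The involution of a setting is weakly closed in the radical of the model centraliser. -/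
theorem weak_of_coT (K : CentEmb z) (S : CoTwoType.CoT z) : K.Weak := by
  intro x hx hc
  let e : ↥C1 ≃* ↥(Subgroup.centralizer ({z} : Set G)) :=
    (MonoidHom.ofInjective K.inj).trans (MulEquiv.subgroupCongr K.range_eq)
  have hxo : K.g x ∈ LargeExtra.oc z := by
    have h : e x ∈ (pCore 2 ↥C1).map e.toMonoidHom := ⟨x, hx, rfl⟩
    rw [Core.map_pCore e] at h
    exact ⟨e x, h, rfl⟩
  obtain ⟨g, hg⟩ := isConj_iff.1 hc.symm
  have h := S.weak g (hg ▸ hxo)
  exact congrArg Subtype.val (K.inj ((hg.symm.trans h).trans K.map_z.symm))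

/-- An involution which is not isolated has another conjugate in its centraliser. -/
theorem out_of_not_isolated (K : CentEmb z) (hz : orderOf z = 2) (hni : ¬ IsIsolatedInvolution z) :
    K.HasOut := by
  by_contra hout
  refine hni ⟨hz, fun g hg => ?_⟩
  have hm : g * z * g⁻¹ ∈ K.g.range := by
    rw [K.range_eq]
    exact Subgroup.mem_centralizer_singleton_iff.2 hg.eq.symm
  obtain ⟨x, hx⟩ := hm
  by_contra hne
  refine hout ⟨x, fun e => hne ?_, hx ▸ (isConj_iff.2 ⟨g, rfl⟩ : IsConj z (g * z * g⁻¹)).symm⟩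
  exact hx.symm.trans ((congrArg K.g (Subtype.ext e)).trans K.map_z)

/-- An involution of a group with trivial odd core and centre is not isolated. -/
theorem not_isolated (hO : oddCore G = ⊥) (hZ : Subgroup.center G = ⊥) (hz : orderOf z = 2) :
    ¬ IsIsolatedInvolution z := by
  intro h
  have hsup := Fi24Cent.centralizer_sup_oddCore h
  rw [hO, sup_bot_eq] at hsup
  have hzc : z ∈ Subgroup.center G := Subgroup.mem_center_iff.2 fun x =>
    Subgroup.mem_centralizer_singleton_iff.1 (hsup ▸ Subgroup.mem_top x)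
  rw [hZ, Subgroup.mem_bot] at hzc
  rw [hzc, orderOf_one] at hz
  exact absurd hz (by norm_num)

/-- The recognition theorem. -/
theorem iso_of (hO : oddCore G = ⊥) (hZ : Subgroup.center G = ⊥) (z : G) (hz : orderOf z = 2)
    (hcon : IsPConstrained 2 (Subgroup.centralizer ({z} : Set G)))
    (hQ : IsExtraspecial 2 (pCore 2 (Subgroup.centralizer ({z} : Set G))))
    (hcard : Nat.card (pCore 2 (Subgroup.centralizer ({z} : Set G))) = 2 ^ 9)
    (e : (Subgroup.centralizer ({z} : Set G)) ⧸ pCore 2 (Subgroup.centralizer ({z} : Set G)) ≃*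
      Matrix.symplecticGroup (Fin 3) (ZMod 2)) : Spor.IsoCo2 G := by
  obtain ⟨S⟩ := CoTwoType.exists_coT hO hZ z hz hcon hQ hcard e
  obtain ⟨S₀⟩ := ModelType.exists_coT_model
  have hni := not_isolated hO hZ hz
  obtain ⟨K⟩ := exists_centEmb_of S₀ S (CoTwoType.exists_invol S hni)
  have hweak := weak_of_coT K S
  have hout := out_of_not_isolated K hz hni
  have hF : K.HasFusion := K.hasFusion hweak hout
  obtain ⟨F, -, hag, hl⟩ :=
    Mono.exists_mono K hF (K.hasFull hweak hout) (K.hasMover hweak hout)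
  obtain ⟨θ, -, hθg⟩ := hasTheta G F K.g hag hl
  have hz0 : θ z0 = z := (hθg ⟨z0, Subgroup.mem_centralizer_singleton_iff.mpr rfl⟩).trans K.map_z
  have hsimple : IsSimpleGroup ↥Spor.Co2 := inferInstance
  have hinj : Function.Injective θ := by
    rw [← MonoidHom.ker_eq_bot_iff]
    refine (Subgroup.Normal.eq_bot_or_eq_top inferInstance).resolve_right fun htop => ?_
    have h1 : θ z0 = 1 := MonoidHom.mem_ker.1 (htop ▸ Subgroup.mem_top _)
    rw [← hz0, h1, orderOf_one] at hz
    exact absurd hz (by norm_num)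
  have hC : Subgroup.centralizer ({θ z0} : Set G) ≤ θ.range := by
    rw [hz0, ← K.range_eq]
    rintro _ ⟨x, rfl⟩
    exact ⟨x, hθg x⟩
  have htop := range_eq_top θ hinj hC (fusion_of_hasFusion K hF θ hinj hθg)
  exact ⟨(MulEquiv.ofBijective θ ⟨hinj, MonoidHom.range_eq_top.1 htop⟩).symm⟩

end Cfsg.Agent.CoTwoUniq
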