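import Cfsg.Agent.CoTwoUniq.Eval

/-!
# A bound on the groups generated by the two subgroups gives the map out of the model
-/

set_option autoImplicit false

open Cfsg

namespace Cfsg.Agent.CoTwoUniq

universe u

/-- A group generated like the model by linked copies of the monomial group and of the centraliser
has at most its order. -/
def AmalgamBound : Prop :=
  ∀ (D : Type u) [Group D] [Finite D] (a : ↥N1 →* D) (b : ↥C1 →* D), Agree a b → Linked a b →
    Subgroup.closure (Set.range a ∪ {b ⟨x0, x0_mem⟩}) = ⊤ → Nat.card D ≤ Nat.card K2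

/-- The universal property from the bound. -/
theorem hasTheta_of_bound (hB : AmalgamBound.{u}) (H : Type u) [Group H] [Finite H] :
    HasTheta H := by
  classical
  intro f g hfg hl
  let a : ↥N1 →* H × K2 := f.prod N1.subtype
  let b : ↥C1 →* H × K2 := g.prod C1.subtype
  let T : ↥C1 := ⟨x0, x0_mem⟩
  let Δ : Subgroup (H × K2) := Subgroup.closure (Set.range a ∪ {b T})
  have hab : ∀ (x : K2) (h1 : x ∈ N1) (h2 : x ∈ C1), a ⟨x, h1⟩ = b ⟨x, h2⟩ :=
    fun x h1 h2 => Prod.ext (hfg x h1 h2) rfl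
  have haΔ : ∀ x, a x ∈ Δ := fun x => Subgroup.subset_closure (Or.inl ⟨x, rfl⟩)
  have hbΔ : ∀ x, b x ∈ Δ := by
    have hle : C1 ≤ (Δ.comap b).map C1.subtype := C1_gen.trans ((Subgroup.closure_le _).2 (by
      rintro x (⟨h1, h2⟩ | rfl)
      · refine ⟨⟨x, h2⟩, ?_, rfl⟩
        show b ⟨x, h2⟩ ∈ Δ
        rw [← hab x h1 h2]
        exact haΔ _
      · exact ⟨T, Subgroup.subset_closure (Or.inr rfl), rfl⟩))
    intro x
    obtain ⟨y, hy, hye⟩ := hle x.2
    rw [show x = y from Subtype.ext hye.symm]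
    exact hy
  let a' : ↥N1 →* Δ := a.codRestrict Δ haΔ
  let b' : ↥C1 →* Δ := b.codRestrict Δ hbΔ
  have hgen : Subgroup.closure (Set.range a' ∪ {b' T}) = ⊤ := by
    apply Subgroup.map_injective Δ.subtype_injective
    rw [MonoidHom.map_closure, ← MonoidHom.range_eq_map, Subgroup.range_subtype, Set.image_union,
      Set.image_singleton, ← Set.range_comp]
    rfl
  have hle : Nat.card Δ ≤ Nat.card K2 :=
    hB Δ a' b' (fun x h1 h2 => Subtype.ext (hab x h1 h2))
      (Subtype.ext (Prod.ext hl u0_comm_x0)) hgen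
  let π₁ : Δ →* H := (MonoidHom.fst H K2).comp Δ.subtype
  let π₂ : Δ →* K2 := (MonoidHom.snd H K2).comp Δ.subtype
  have h2s : Function.Surjective π₂ := by
    rw [← MonoidHom.range_eq_top, eq_top_iff, ← co_gen, Subgroup.closure_le]
    rintro x (hx | rfl)
    · exact ⟨a' ⟨x, hx⟩, rfl⟩
    · exact ⟨b' T, rfl⟩
  have hb : Function.Bijective π₂ :=
    (Nat.bijective_iff_surjective_and_card _).mpr
      ⟨h2s, le_antisymm hle (Nat.card_le_card_of_surjective _ h2s)⟩
  let e : Δ ≃* K2 := MulEquiv.ofBijective π₂ hb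
  refine ⟨π₁.comp e.symm.toMonoidHom, fun x => ?_, fun x => ?_⟩
  · show π₁ (e.symm (x : K2)) = f x
    rw [show e.symm (x : K2) = a' x from e.symm_apply_eq.mpr rfl]
    rfl
  · show π₁ (e.symm (x : K2)) = g x
    rw [show e.symm (x : K2) = b' x from e.symm_apply_eq.mpr rfl]
    rfl

end Cfsg.Agent.CoTwoUniq
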