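import Cfsg.Agent.CoTwoUniq.Basic
import Cfsg.Agent.CoOneUniq.Final

/-!
Every involution of the second Conway group is conjugate to a sign change.

In the first group it is one of a code word, so in the lattice it becomes a sign change fixing some
short vector, and a monomial element, after one sextet reflection if the vector has eight entries
`± 2`, takes that vector to the standard one.
-/

set_option autoImplicit false

open Cfsg

namespace Cfsg.Agent.CoTwoUniq

open Cfsg.Agent.Leech (bitWord dec signCo0 permCo0 idx ptOf negOn zneg)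

/-- A pair of coordinates `± 4` and zeros. -/
def PairShape (v : leechLattice) : Prop :=
  ∃ a b : GolayPt, a ≠ b ∧ ∃ s t : ℤ, (s = 1 ∨ s = -1) ∧ (t = 1 ∨ t = -1) ∧
    (v : GolayPt → ℤ) = Pi.single a (4 * s) + Pi.single b (4 * t)

/-- A short vector with an even coordinate. -/
theorem shape32 {v : leechLattice} (hn : sqNorm (v : GolayPt → ℤ) = 32) {p : GolayPt}
    (hp : (2 : ℤ) ∣ (v : GolayPt → ℤ) p) :
    PairShape v ∨ ∃ o ∈ golayCode, hammingNorm o = 8 ∧
      ∀ q, (o q = 0 → (v : GolayPt → ℤ) q = 0) ∧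
        (o q = 1 → (v : GolayPt → ℤ) q = 2 ∨ (v : GolayPt → ℤ) q = -2) := by
  classical
  obtain ⟨m, y, hy, -, hd⟩ := Leech.mem_lattice_iff.1 v.2
  obtain ⟨k, rfl⟩ : (2 : ℤ) ∣ m := by have := hy p; omega
  set z : GolayPt → ℤ := fun q => k + y q with hz
  have hzv : ∀ q, (v : GolayPt → ℤ) q = 2 * z q := fun q => by rw [hy q, hz]; ring
  have hzc : Leech.red2 z ∈ golayCode := by
    have : Leech.red2 z = Leech.red2 y + (k : ZMod 2) • (1 : Word) := by
      funext q
      simp [Leech.red2, hz, add_comm]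
    rw [this]
    exact add_mem hd (Submodule.smul_mem _ _ Leech.one_mem)
  have hz8 : ∑ q, z q ^ 2 = 8 := by
    have h : sqNorm (v : GolayPt → ℤ) = 4 * ∑ q, z q ^ 2 := by
      rw [sqNorm, Finset.mul_sum]
      exact Finset.sum_congr rfl fun q _ => by rw [hzv q]; ring
    omega
  have hle : hammingNorm (Leech.red2 z) ≤ 8 := by
    have := Leech.weight_le_sum_sq z
    omega
  have hsq : ∀ (w : GolayPt → ℤ) q, w q ^ 2 ≤ ∑ i, w i ^ 2 := fun w q =>
    Finset.single_le_sum (fun i _ => sq_nonneg (w i)) (Finset.mem_univ q)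
  rcases Leech.weights hzc with h0 | h8 | h | h | h
  · left
    have hev : ∀ q, (2 : ℤ) ∣ z q := fun q =>
      (ZMod.intCast_zmod_eq_zero_iff_dvd _ 2).1 (congrFun (hammingNorm_eq_zero.1 h0) q)
    choose t ht using hev
    have ht2 : ∑ q, t q ^ 2 = 2 := by
      have : ∑ q, z q ^ 2 = 4 * ∑ q, t q ^ 2 := by
        rw [Finset.mul_sum]
        exact Finset.sum_congr rfl fun q _ => by rw [ht q]; ring
      omega
    have hone : ∀ q, t q = 0 ∨ t q = 1 ∨ t q = -1 := fun q => by
      have h := hsq t q
      have h1 : t q ≤ 1 := by nlinarith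
      have h2 : -1 ≤ t q := by nlinarith
      omega
    have hcard : (Finset.univ.filter fun q => t q ≠ 0).card = 2 := by
      have : ∑ q, t q ^ 2 = ((Finset.univ.filter fun q => t q ≠ 0).card : ℤ) := by
        rw [Finset.natCast_card_filter]
        refine Finset.sum_congr rfl fun q _ => ?_
        rcases hone q with h | h | h <;> simp [h]
      omega
    obtain ⟨a, b, hab, hset⟩ := Finset.card_eq_two.1 hcard
    have hmem : ∀ q, t q ≠ 0 ↔ q = a ∨ q = b := fun q => by
      have := congrArg (fun s => q ∈ s) hset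
      simpa using this
    refine ⟨a, b, hab, t a, t b, (hone a).resolve_left ((hmem a).2 (Or.inl rfl)),
      (hone b).resolve_left ((hmem b).2 (Or.inr rfl)), funext fun q => ?_⟩
    rw [hzv q, ht q, Pi.add_apply, Pi.single_apply, Pi.single_apply]
    by_cases hqa : q = a
    · subst hqa; rw [if_pos rfl, if_neg hab]; ring
    by_cases hqb : q = b
    · subst hqb; rw [if_neg hqa, if_pos rfl]; ring
    rw [if_neg hqa, if_neg hqb, show t q = 0 by by_contra h; rcases (hmem q).1 h with e | e <;>
      contradiction]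
    norm_num
  · refine Or.inr ⟨_, hzc, h8, fun q => ?_⟩
    have key : ∀ i, z i ^ 2 = ((Leech.red2 z i).val : ℤ) := by
      have hge : ∀ i, ((Leech.red2 z i).val : ℤ) ≤ z i ^ 2 := fun i => by
        rcases Leech.zmod2_cases (Leech.red2 z i) with e | e <;> rw [e]
        · simpa using sq_nonneg (z i)
        · have : z i ≠ 0 := fun h => by simp [Leech.red2, h] at e
          have := Int.one_le_abs this
          rw [← sq_abs]
          rw [show ((1 : ZMod 2)).val = 1 from rfl, Nat.cast_one]
          nlinarith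
      have htot : ∑ i, ((Leech.red2 z i).val : ℤ) = 8 := by
        rw [show (8 : ℤ) = ((hammingNorm (Leech.red2 z) : ℕ) : ℤ) by rw [h8]; rfl, hammingNorm,
          Finset.natCast_card_filter]
        refine Finset.sum_congr rfl fun i _ => ?_
        rcases Leech.zmod2_cases (Leech.red2 z i) with e | e <;> rw [e] <;> rfl
      intro i
      exact ((Finset.sum_eq_sum_iff_of_le fun j _ => hge j).1 (htot.trans hz8.symm) i
        (Finset.mem_univ i)).symm
    refine ⟨fun e => ?_, fun e => ?_⟩
    · have h := key q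
      rw [e] at h
      simp only [ZMod.val_zero, Nat.cast_zero] at h
      rw [hzv q, pow_eq_zero_iff (by norm_num) |>.1 h, mul_zero]
    · have h := key q
      rw [e] at h
      simp only [ZMod.val_one, Nat.cast_one, sq_eq_one_iff] at h
      rw [hzv q]
      rcases h with h | h <;> rw [h] <;> norm_num
  all_goals omega

/-- The marked pair is moved to any pair by the code automorphisms. -/
theorem exists_move_pair {a b : GolayPt} (hab : a ≠ b) :
    ∃ σ ∈ M24, σ a = none ∧ σ b = some 0 := by
  obtain ⟨g, hg, hgab⟩ := Compute.exists_move5 [a, b] (by simpa using hab) (by simp)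
  obtain ⟨k, hk, hkab⟩ := Compute.exists_move5 [(none : GolayPt), some 0] (by simp) (by simp)
  simp only [List.map_cons, List.map_nil, List.length_cons, List.length_nil] at hgab hkab
  rw [← hkab] at hgab
  simp only [List.cons.injEq, and_true] at hgab
  exact ⟨k⁻¹ * g, mul_mem (inv_mem hk) hg, by simp [hgab.1], by simp [hgab.2]⟩

/-- A sign pattern on the marked pair. -/
theorem exists_pair_word (x y : ZMod 2) : ∃ e ∈ golayCode, e none = x ∧ e (some 0) = y := by
  refine ⟨x • Leech.row 0 + y • Leech.row 1,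
    add_mem (Submodule.smul_mem _ _ (Leech.row_mem 0)) (Submodule.smul_mem _ _ (Leech.row_mem 1)),
    ?_, ?_⟩
  · have h0 := Leech.row_piv 0 0
    have h1 := Leech.row_piv 1 0
    simp only [show Leech.piv 0 = none from rfl] at h0 h1
    simp [h0, h1]
  · have h0 := Leech.row_piv 0 1
    have h1 := Leech.row_piv 1 1
    simp only [show Leech.piv 1 = some 0 from rfl] at h0 h1
    simp [h0, h1]

/-- A monomial element taking a pair vector to the standard one. -/
theorem exists_mono_of_pair {v : leechLattice} (hv : PairShape v) :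
    ∃ m : ↥Co0, m • v = Spor.leechU ∧ ∀ (c : Word) (hc : c ∈ golayCode),
      ∃ c', ∃ hc' : c' ∈ golayCode, m * signCo0 c hc * m⁻¹ = signCo0 c' hc' := by
  obtain ⟨a, b, hab, s, t, hs, ht, hv⟩ := hv
  obtain ⟨σ, hσ, hσa, hσb⟩ := exists_move_pair hab
  obtain ⟨e, he, he0, he1⟩ :=
    exists_pair_word (if s = 1 then 0 else 1) (if t = 1 then 0 else 1)
  refine ⟨signCo0 e he * permCo0 σ hσ, Subtype.ext (funext fun p => ?_), fun c hc => ?_⟩
  · rw [mul_smul, Leech.signCo0_apply]
    simp only [negOn, Leech.permCo0_apply, hv, Pi.add_apply, Pi.single_apply]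
    have e1 : σ⁻¹ p = a ↔ p = none := by
      rw [Equiv.Perm.inv_eq_iff_eq, hσa]
    have e2 : σ⁻¹ p = b ↔ p = some 0 := by
      rw [Equiv.Perm.inv_eq_iff_eq, hσb]
    simp only [e1, e2]
    show _ = Spor.vecU p
    by_cases h1 : p = none
    · subst h1
      rcases hs with rfl | rfl <;> simp [he0, Spor.vecU]
    by_cases h2 : p = some 0
    · subst h2
      rcases ht with rfl | rfl <;> simp [he1, Spor.vecU]
    simp [h1, h2, Spor.vecU]
  · refine ⟨_, Leech.comp_mem_of_M24 (inv_mem hσ) hc, ?_⟩
    rw [show signCo0 e he * permCo0 σ hσ * signCo0 c hc * (signCo0 e he * permCo0 σ hσ)⁻¹ =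
      signCo0 e he * (permCo0 σ hσ * signCo0 c hc * (permCo0 σ hσ)⁻¹) * (signCo0 e he)⁻¹ by group,
      Leech.conj_perm_sign, Leech.signCo0_inv, Leech.signCo0_mul, Leech.signCo0_mul]
    refine Leech.signCo0_congr ?_ _ _
    rw [add_comm e, add_assoc, CharTwo.add_self_eq_zero, add_zero]
    rfl

/-- Labels that make a sextet. -/
def LabOK (l : List ℕ) : Prop :=
  (∀ k : Fin 6, (Finset.univ.filter fun p : GolayPt => Fin.ofNat 6 (l.getD (idx p) 0) = k).card = 4) ∧
  ∀ k : Fin 6, dec (fun p => (if Fin.ofNat 6 (l.getD (idx p) 0) = k then (1 : ZMod 2) else 0) +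
      if Fin.ofNat 6 (l.getD (idx p) 0) = 0 then 1 else 0) =
    fun p => (if Fin.ofNat 6 (l.getD (idx p) 0) = k then (1 : ZMod 2) else 0) +
      if Fin.ofNat 6 (l.getD (idx p) 0) = 0 then 1 else 0

instance (l : List ℕ) : Decidable (LabOK l) := by unfold LabOK; infer_instance

/-- The sextet of a list of labels. -/
def sextOf {l : List ℕ} (h : LabOK l) : Leech.Sextet where
  lab p := Fin.ofNat 6 (l.getD (idx p) 0)
  card_fib := h.1
  pair k := (Leech.mem_iff _).2 (h.2 k)

/-- A sign change constant on the tetrads commutes with the reflection. -/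
theorem xi_sign_comm (S : Leech.Sextet) (c : Word) (hc : c ∈ golayCode)
    (h : ∀ i j, S.lab i = S.lab j → c i = c j) :
    S.xi * signCo0 c hc = signCo0 c hc * S.xi := by
  refine Leech.ext_of_oct fun i => Subtype.ext (funext fun q => ?_)
  simp only [mul_smul, Leech.Sextet.xi_apply, Leech.signCo0_apply, negOn, Leech.Sextet.xiFun,
    Leech.Sextet.tsum]
  by_cases hq : c q = 0
  · rw [if_pos hq, if_pos hq,
      Finset.sum_congr rfl fun j hj => if_pos (by rw [h j q (Finset.mem_filter.1 hj).2, hq])]
  · rw [if_neg hq, if_neg hq,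
      Finset.sum_congr rfl fun j hj => if_neg (by rw [h j q (Finset.mem_filter.1 hj).2]; exact hq),
      Finset.sum_neg_distrib]
    rw [Int.neg_ediv_of_dvd]
    · ring
    · refine Finset.dvd_sum fun j _ => ?_
      simp [Leech.oct, Pi.single_apply, apply_ite (fun x : ℤ => (2 : ℤ) ∣ x)]

/-- The certificate for one octad fixed by one of the two sign changes. -/
def sextOK (z : ℕ) (d : ℕ × List ℕ × ℕ) : Prop :=
  LabOK d.2.1 ∧ dec (bitWord d.2.2) = bitWord d.2.2 ∧
  (∀ i j : GolayPt, d.2.1.getD (idx i) 0 % 6 = d.2.1.getD (idx j) 0 % 6 →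
    z.testBit (idx i) = z.testBit (idx j)) ∧
  (∀ i, d.2.1.getD (idx i) 0 % 6 = 0 → d.1.testBit (idx i) = true) ∧
  ((List.range 24).filter fun i => d.2.1.getD i 0 % 6 = 0 && d.2.2.testBit i).length % 2 = 1

instance (z : ℕ) (d : ℕ × List ℕ × ℕ) : Decidable (sextOK z d) := by unfold sextOK; infer_instance

/-- The complement of the marked word. -/
def zc : ℕ := Data.zm ^^^ (2 ^ 24 - 1)

theorem sext_check :
    (Data.sextL.take 30).all (fun d => decide (sextOK zc d)) = true ∧
    (Data.sextL.drop 30).all (fun d => decide (sextOK Data.zm d)) = true := by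
  constructor <;> decide +kernel

theorem sext_cover : (Leech.allMasks.all fun n =>
      !(((List.range 24).filter fun i => n.testBit i).length == 8) ||
        ((!(n &&& zc == 0) || ((Data.sextL.take 30).map Prod.fst).contains n) &&
          (!(n &&& Data.zm == 0) || ((Data.sextL.drop 30).map Prod.fst).contains n))) = true := by
  decide +kernel

/-- An octad vector fixed by a sign change becomes a pair vector by an element commuting with it. -/
theorem exists_reduce {z : ℕ} (hz : z = zc ∨ z = Data.zm) {hzm : bitWord z ∈ golayCode}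
    {v : leechLattice} (hv : signCo0 (bitWord z) hzm • v = v)
    (hn : sqNorm (v : GolayPt → ℤ) = 32) {o : Word} (ho : o ∈ golayCode) (h8 : hammingNorm o = 8)
    (ho' : ∀ q, (o q = 0 → (v : GolayPt → ℤ) q = 0) ∧
      (o q = 1 → (v : GolayPt → ℤ) q = 2 ∨ (v : GolayPt → ℤ) q = -2)) :
    ∃ k : ↥Co0, Commute k (signCo0 (bitWord z) hzm) ∧ PairShape (k • v) := by
  classical
  obtain ⟨n, hn', rfl⟩ := Leech.exists_mask ho
  have hdis : n &&& z = 0 := by
    refine Nat.eq_of_testBit_eq fun i => ?_
    rw [Nat.testBit_and, Nat.zero_testBit]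
    rcases Nat.lt_or_ge i 24 with hi | hi
    · by_contra hb
      simp only [Bool.not_eq_false, Bool.and_eq_true] at hb
      have h1 : bitWord n (ptOf i) = 1 := by simp [Leech.bitWord, Leech.idx_ptOf i hi, hb.1]
      have h2 : bitWord z (ptOf i) ≠ 0 := by simp [Leech.bitWord, Leech.idx_ptOf i hi, hb.2]
      have := congrFun (congrArg Subtype.val hv) (ptOf i)
      rw [Leech.signCo0_apply] at this
      simp only [negOn, if_neg h2] at this
      rcases (ho' (ptOf i)).2 h1 with e | e <;> omega
    · have hlt : z < 2 ^ 24 := by rcases hz with rfl | rfl <;> decide +kernel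
      rw [Nat.testBit_lt_two_pow (lt_of_lt_of_le hlt (Nat.pow_le_pow_right (by norm_num) hi)),
        Bool.and_false]
  have hcov := List.all_eq_true.1 sext_cover n hn'
  rw [← Leech.hammingNorm_bitWord, h8] at hcov
  simp only [beq_self_eq_true, Bool.not_true, Bool.false_or, Bool.and_eq_true] at hcov
  obtain ⟨d, hd, hdn⟩ : ∃ d, sextOK z d ∧ d.1 = n := by
    rcases hz with rfl | rfl
    · have := hcov.1
      simp only [hdis, beq_self_eq_true, Bool.not_true, Bool.false_or, List.contains_iff_mem,
        List.mem_map] at this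
      obtain ⟨d, hd, e⟩ := this
      exact ⟨d, of_decide_eq_true (List.all_eq_true.1 sext_check.1 d hd), e⟩
    · have := hcov.2
      simp only [hdis, beq_self_eq_true, Bool.not_true, Bool.false_or, List.contains_iff_mem,
        List.mem_map] at this
      obtain ⟨d, hd, e⟩ := this
      exact ⟨d, of_decide_eq_true (List.all_eq_true.1 sext_check.2 d hd), e⟩
  obtain ⟨hlab, he, hconst, hsub, hodd⟩ := hd
  set S := sextOf hlab
  have hlabv : ∀ p, S.lab p = Fin.ofNat 6 (d.2.1.getD (idx p) 0) := fun p => rfl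
  have hcz : ∀ i j, S.lab i = S.lab j → bitWord z i = bitWord z j := fun i j h => by
    rw [hlabv, hlabv, Fin.ext_iff] at h
    simp only [Leech.bitWord, hconst i j (by simpa [Fin.val_ofNat] using h)]
  set T : Finset GolayPt := Finset.univ.filter fun p => S.lab p = 0 with hT
  have hTo : ∀ p ∈ T, bitWord n p = 1 := fun p hp => by
    rw [hT, Finset.mem_filter, hlabv, Fin.ext_iff] at hp
    simp [Leech.bitWord, ← hdn, hsub p (by simpa [Fin.val_ofNat] using hp.2)]
  -- the sum over the first tetrad is made `4` modulo `8` by the word of the certificate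
  obtain ⟨x, hx, hxq⟩ : ∃ x : ↥Co0, Commute x (signCo0 (bitWord z) hzm) ∧
      (∀ q, (bitWord n q = 0 → ((x • v : leechLattice) : GolayPt → ℤ) q = 0) ∧
        (bitWord n q = 1 → ((x • v : leechLattice) : GolayPt → ℤ) q = 2 ∨
          ((x • v : leechLattice) : GolayPt → ℤ) q = -2)) ∧
      ¬ (8 : ℤ) ∣ ∑ p ∈ T, ((x • v : leechLattice) : GolayPt → ℤ) p := by
    by_cases hgood : (8 : ℤ) ∣ ∑ p ∈ T, (v : GolayPt → ℤ) p
    · refine ⟨signCo0 (bitWord d.2.2) ((Leech.mem_iff _).2 he), ?_, fun q => ?_, ?_⟩
      · show _ * _ = _ * _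
        rw [Leech.signCo0_mul, Leech.signCo0_mul]
        exact Leech.signCo0_congr (add_comm _ _) _ _
      · rw [Leech.signCo0_apply]
        simp only [negOn]
        refine ⟨fun h => ?_, fun h => ?_⟩
        · rw [(ho' q).1 h, neg_zero, ite_self]
        · rcases (ho' q).2 h with e | e <;> rw [e] <;> split_ifs <;> simp
      · intro hbad
        simp only [Leech.signCo0_apply, negOn] at hbad
        have e1 := dvd_sub hgood hbad
        rw [← Finset.sum_sub_distrib] at e1
        have e2 : ∀ p ∈ T, (8 : ℤ) ∣ ((v : GolayPt → ℤ) p -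
            if bitWord d.2.2 p = 0 then (v : GolayPt → ℤ) p else -(v : GolayPt → ℤ) p) -
            (if bitWord d.2.2 p = 0 then 0 else 4) := fun p hp => by
          rcases (ho' p).2 (hTo p hp) with e | e <;> rw [e] <;> split_ifs <;> norm_num
        have e3 := dvd_sub e1 (Finset.dvd_sum e2)
        rw [← Finset.sum_sub_distrib, Finset.sum_congr rfl fun p _ => sub_sub_cancel _ _,
          Finset.sum_ite, Finset.sum_const_zero, zero_add, Finset.sum_const, nsmul_eq_mul] at e3
        have hcard : (T.filter fun p => ¬ bitWord d.2.2 p = 0).card % 2 = 1 := by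
          rw [← hodd]
          congr 1
          rw [← List.toFinset_card_of_nodup ((List.nodup_range).filter _)]
          refine Finset.card_bij (fun p _ => idx p) (fun p hp => ?_)
            (fun p _ q _ e => by rw [← Leech.ptOf_idx p, e, Leech.ptOf_idx q]) (fun j hj => ?_)
          · simp only [hT, Finset.mem_filter, Finset.mem_univ, true_and, hlabv, Fin.ext_iff,
              Fin.val_ofNat, Leech.bitWord] at hp
            simp only [List.mem_toFinset, List.mem_filter, List.mem_range, Bool.and_eq_true,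
              decide_eq_true_eq]
            refine ⟨Leech.idx_lt p, by simpa using hp.1, ?_⟩
            by_contra hb
            simp [hb] at hp
          · simp only [List.mem_toFinset, List.mem_filter, List.mem_range, Bool.and_eq_true,
              decide_eq_true_eq] at hj
            refine ⟨ptOf j, Finset.mem_filter.2 ⟨Finset.mem_filter.2 ⟨Finset.mem_univ _, ?_⟩, ?_⟩,
              Leech.idx_ptOf j hj.1⟩
            · rw [hlabv, Leech.idx_ptOf j hj.1, Fin.ext_iff, Fin.val_ofNat]
              exact hj.2.1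
            · simp [Leech.bitWord, Leech.idx_ptOf j hj.1, hj.2.2]
        omega
    · exact ⟨1, Commute.one_left _, fun q => by simpa using ho' q, by simpa using hgood⟩
  obtain ⟨hxq, hxT⟩ := hxq
  have hxi : Commute S.xi (signCo0 (bitWord z) hzm) := xi_sign_comm S _ _ hcz
  refine ⟨S.xi * x, hxi.mul_left hx, ?_⟩
  rw [mul_smul]
  have hn2 : sqNorm ((S.xi • x • v : leechLattice) : GolayPt → ℤ) = 32 := by
    rw [Leech.sqNorm_smul, Leech.sqNorm_smul, hn]
  obtain ⟨p, hp⟩ : T.Nonempty := Finset.card_pos.1 (by rw [hT, S.card_fib 0]; norm_num)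
  have hTlab : ∀ j ∈ T, S.lab j = 0 := fun j hj => (Finset.mem_filter.1 hj).2
  have hsum : S.tsum ((x • v : leechLattice) : GolayPt → ℤ) 0 =
      ∑ j ∈ T, ((x • v : leechLattice) : GolayPt → ℤ) j := rfl
  -- four terms `± 2` with sum `± 4`
  have hs4 : ∑ j ∈ T, ((x • v : leechLattice) : GolayPt → ℤ) j = 4 ∨
      ∑ j ∈ T, ((x • v : leechLattice) : GolayPt → ℤ) j = -4 := by
    obtain ⟨f, hf⟩ : ∃ f : GolayPt → ℤ, ∀ j ∈ T, ((x • v : leechLattice) : GolayPt → ℤ) j = 4 * f j - 2 ∧
        (f j = 0 ∨ f j = 1) :=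
      ⟨fun j => if ((x • v : leechLattice) : GolayPt → ℤ) j = 2 then 1 else 0, fun j hj => by
        rcases (hxq j).2 (hTo j hj) with e | e <;> simp [e]⟩
    have h1 : ∑ j ∈ T, ((x • v : leechLattice) : GolayPt → ℤ) j = 4 * (∑ j ∈ T, f j) - 8 := by
      rw [Finset.sum_congr rfl fun j hj => (hf j hj).1, Finset.sum_sub_distrib, ← Finset.mul_sum,
        Finset.sum_const, hT, S.card_fib 0]
      rfl
    have h2 : 0 ≤ ∑ j ∈ T, f j := Finset.sum_nonneg fun j hj => by
      rcases (hf j hj).2 with e | e <;> rw [e] <;> norm_num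
    have h3 : ∑ j ∈ T, f j ≤ (T.card : ℤ) := by
      rw [Finset.cast_card]
      exact Finset.sum_le_sum fun j hj => by rcases (hf j hj).2 with e | e <;> rw [e] <;> norm_num
    rw [hT, S.card_fib 0, ← hT] at h3
    rw [h1] at hxT ⊢
    omega
  have hval : ∀ j ∈ T, ((S.xi • x • v : leechLattice) : GolayPt → ℤ) j = 0 ∨
      ((S.xi • x • v : leechLattice) : GolayPt → ℤ) j = 4 ∨
        ((S.xi • x • v : leechLattice) : GolayPt → ℤ) j = -4 := fun j hj => by
    rw [Leech.Sextet.xi_apply, Leech.Sextet.xiFun, hTlab j hj, hsum, Leech.Sextet.eps, if_pos rfl]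
    rcases (hxq j).2 (hTo j hj) with e | e <;> rcases hs4 with e' | e' <;> rw [e, e'] <;> norm_num
  rcases shape32 hn2 (p := p) (by rcases hval p hp with e | e | e <;> rw [e] <;> norm_num) with
    h | ⟨o', -, ho'8, ho''⟩
  · exact h
  exfalso
  -- the octad alternative would vanish on the tetrad
  have hz0 : ∀ j ∈ T, ((S.xi • x • v : leechLattice) : GolayPt → ℤ) j = 0 := fun j hj => by
    rcases Leech.zmod2_cases (o' j) with e | e
    · exact (ho'' j).1 e
    · rcases (ho'' j).2 e with e' | e' <;> rcases hval j hj with e'' | e'' | e'' <;> omega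
  have := hz0 p hp
  rw [Leech.Sextet.xi_apply, Leech.Sextet.xiFun, hTlab p hp, hsum, Leech.Sextet.eps, if_pos rfl]
    at this
  rcases (hxq p).2 (hTo p hp) with e | e <;> rcases hs4 with e' | e' <;> rw [e, e'] at this <;>
    norm_num at this
  all_goals
    have hall : ∀ j ∈ T, ((x • v : leechLattice) : GolayPt → ℤ) j =
        ((x • v : leechLattice) : GolayPt → ℤ) p := fun j hj => by
      have h0 := hz0 j hj
      rw [Leech.Sextet.xi_apply, Leech.Sextet.xiFun, hTlab j hj, hsum, Leech.Sextet.eps, if_pos rfl,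
        e'] at h0
      omega
    rw [Finset.sum_congr rfl hall, Finset.sum_const, hT, S.card_fib 0, e] at e'
    norm_num at e'

/-- The mask of the dodecad word of the first group. -/
def dd0 : ℕ := 681662

/-- Every involution is conjugate to a sign change. -/
theorem exists_isConj_sgn {x : K2} (hx : orderOf x = 2) :
    ∃ n ∈ avMasks, n ≠ 0 ∧ IsConj x (sgn n) := by
  classical
  obtain ⟨hx1, hxx⟩ := Invol.orderOf_eq_two_iff.1 hx
  have hXX : inc x * inc x = 1 := by rw [← map_mul, hxx, map_one]
  have hX1 : inc x ≠ 1 := fun h => hx1 (inc_injective (h.trans (map_one inc).symm))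
  have hzz : zneg * zneg = (1 : ↥Co0) := by rw [← sq]; exact Leech.zneg_sq
  have hXn : inc x ≠ zneg := fun h => by
    have hu := inc_fix x
    rw [h, Leech.zneg_smul] at hu
    have := congrFun (congrArg Subtype.val hu) none
    simp [Spor.leechU, Spor.vecU] at this
  set X := Leech.CentOne.toCo (inc x) with hXdef
  have hXo : orderOf X = 2 := Invol.orderOf_eq_two_iff.2
    ⟨fun h => (Leech.CentOne.toCo_one_iff.1 h).elim hX1 hXn, by rw [hXdef, ← map_mul, hXX, map_one]⟩
  obtain ⟨z, hz, k, w₀, e, hew, hk⟩ : ∃ z : ℕ, (z = zc ∨ z = Data.zm ∨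
      z = dd0 ∨ z = dd0 ^^^ (2 ^ 24 - 1)) ∧
      ∃ k : ↥Co0, ∃ e : Word, ∃ he : e ∈ golayCode, bitWord z = e ∧
        k * inc x * k⁻¹ = signCo0 e he := by
    have key : ∀ (w : Word) (hw : w ∈ golayCode), IsConj (CoOneUniq.Endgame.sg w) X →
        ∃ k : ↥Co0, k * inc x * k⁻¹ = signCo0 w hw ∨
          k * inc x * k⁻¹ = signCo0 (w + 1) (add_mem hw Leech.one_mem) := by
      intro w hw h
      obtain ⟨g, hg⟩ := isConj_iff.1 h.symm
      obtain ⟨k, rfl⟩ := QuotientGroup.mk'_surjective _ g
      change Leech.CentOne.toCo k * Leech.CentOne.toCo (inc x) * (Leech.CentOne.toCo k)⁻¹ = _ at hg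
      rw [CoOneUniq.Endgame.sg_eq hw, ← map_inv, ← map_mul, ← map_mul,
        Leech.CentOne.toCo_eq_iff] at hg
      refine ⟨k, hg.imp Eq.symm fun e => ?_⟩
      rw [← Leech.signCo0_mul w 1 hw Leech.one_mem, e]
      show _ = k * inc x * k⁻¹ * zneg * zneg
      rw [mul_assoc (k * inc x * k⁻¹) zneg zneg, hzz, mul_one]
    have hcompl : ∀ n, n < 2 ^ 24 → bitWord (n ^^^ (2 ^ 24 - 1)) = bitWord n + 1 := fun n _ => by
      rw [Leech.bitWord_xor]
      congr 1
      funext p
      revert p; decide +kernel
    rcases CoOneUniq.Endgame.class_cases hXo with h | h | h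
    · rw [CoOneUniq.Endgame.zC_eq] at h
      obtain ⟨k, hk | hk⟩ := key _ ((Leech.mem_iff _).2 CoOneUniq.Endgame.octW_facts.1) h
      · exact ⟨Data.zm, Or.inr (Or.inl rfl), k, _, _, rfl, hk⟩
      · exact ⟨zc, Or.inl rfl, k, _, _, hcompl _ (by decide +kernel), hk⟩
    · obtain ⟨k, hk | hk⟩ := key _ CoOneUniq.Endgame.dW_mem h
      · exact ⟨dd0, Or.inr (Or.inr (Or.inl rfl)), k, _, _, rfl, hk⟩
      · exact ⟨_, Or.inr (Or.inr (Or.inr rfl)), k, _, _, hcompl _ (by decide +kernel), hk⟩
    · obtain ⟨Y, hY, hYY⟩ := h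
      exfalso
      refine Leech.zneg_ne_one (hYY.symm.trans ?_)
      rcases Leech.CentOne.toCo_eq_iff.1 hY.symm with rfl | rfl
      · exact hXX
      · rw [show inc x * zneg * (inc x * zneg) = inc x * (zneg * inc x) * zneg by group,
          ← Leech.zneg_comm, ← mul_assoc, hXX, one_mul, hzz]
  subst hew
  set v := k • Spor.leechU with hv
  have hn : sqNorm (v : GolayPt → ℤ) = 32 := by
    rw [hv, Leech.sqNorm_smul]; decide +kernel
  have hfix : signCo0 (bitWord z) e • v = v := by
    rw [← hk, hv, mul_smul, mul_smul, inv_smul_smul, inc_fix]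
  obtain ⟨p, hp⟩ : ∃ p, bitWord z p ≠ 0 := by
    by_contra hall
    push Not at hall
    refine hX1 ?_
    have : k * inc x * k⁻¹ = 1 := by
      rw [hk, ← Leech.signCo0_zero]; exact Leech.signCo0_congr (funext hall) _ _
    simpa using this
  have hp0 : (v : GolayPt → ℤ) p = 0 := by
    have := congrFun (congrArg Subtype.val hfix) p
    rw [Leech.signCo0_apply] at this
    simp only [negOn, if_neg hp] at this
    omega
  obtain ⟨k', hk', hpair⟩ : ∃ k' : ↥Co0, Commute k' (signCo0 (bitWord z) e) ∧ PairShape (k' • v) := by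
    rcases shape32 hn (p := p) (by rw [hp0]; exact dvd_zero _) with h | ⟨o, ho, h8, ho'⟩
    · exact ⟨1, Commute.one_left _, by rwa [one_smul]⟩
    · have hz' : z = zc ∨ z = Data.zm := by
        refine hz.imp_right fun h => h.resolve_right fun hd => ?_
        -- no octad lies inside a dodecad
        have hd12 : hammingNorm (bitWord z) = 12 := by
          rw [Leech.hammingNorm_bitWord]
          rcases hd with rfl | rfl <;> decide +kernel
        have hdis : support₂ o ∩ support₂ (bitWord z) = ∅ := by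
          refine Finset.eq_empty_of_forall_notMem fun q hq => ?_
          rw [Finset.mem_inter, Leech.mem_support₂, Leech.mem_support₂] at hq
          have := congrFun (congrArg Subtype.val hfix) q
          rw [Leech.signCo0_apply] at this
          simp only [negOn, hq.2] at this
          rcases (ho' q).2 hq.1 with e' | e' <;> simp [e'] at this
        have hw := Leech.weight_add o (bitWord z)
        rw [hdis, Finset.card_empty, h8, hd12] at hw
        rcases Leech.weights (add_mem ho e) with e' | e' | e' | e' | e' <;> omega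
      exact exists_reduce hz' hfix hn ho h8 ho'
  obtain ⟨m, hm, hmc⟩ := exists_mono_of_pair hpair
  obtain ⟨c', hc', hmc'⟩ := hmc _ e
  have hg : (m * k' * k) • Spor.leechU = Spor.leechU := by
    rw [mul_smul, mul_smul]; exact hm
  set g := mk (m * k' * k) hg
  have hgx : inc (g * x * g⁻¹) = signCo0 c' hc' := by
    rw [map_mul, map_mul, map_inv, inc_mk, ← hmc', ← hk,
      show m * k' * k * inc x * (m * k' * k)⁻¹ = m * (k' * (k * inc x * k⁻¹) * k'⁻¹) * m⁻¹ by group]
    congr 2
    rw [hk, hk'.eq, mul_inv_cancel_right]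
  obtain ⟨n, hn', -, hn''⟩ := exists_sgn _ hgx
  refine ⟨n, hn', fun h0 => ?_, isConj_iff.2 ⟨g, hn''⟩⟩
  rw [h0, sgn_zero, conj_eq_one_iff] at hn''
  exact hx1 hn''

end Cfsg.Agent.CoTwoUniq
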