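import Mathlib

/-!
Numbers for the endgame in the second Conway group, all checked where they are used: masks of code
words, two permutations fixing the marked pair, orbit programs, separating octads and sextets.
-/

set_option autoImplicit false

namespace Cfsg.Agent.CoTwoUniq.Data

/-- the octad word -/
def bm : ℕ := 3227948

/-- the dodecad word -/
def dm : ℕ := 114548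

/-- the word of the marked involution -/
def zm : ℕ := 7430140

/-- the two words of weight sixteen that stay so when the dodecad word is added -/
def pm1 : ℕ := 16710808

/-- the second of them -/
def pm2 : ℕ := 16729068

/-- a permutation fixing the pair: preimages -/
def genP0 : List ℕ := [0, 1, 20, 10, 22, 18, 13, 7, 4, 8, 15, 2, 5, 11, 3, 19, 9, 17, 21, 14, 6, 23, 16, 12]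

/-- its images -/
def genQ0 : List ℕ := [0, 1, 11, 14, 8, 12, 20, 7, 9, 16, 3, 13, 23, 6, 19, 10, 22, 17, 5, 15, 2, 18, 4, 21]

/-- a permutation fixing the pair: preimages -/
def genP1 : List ℕ := [0, 1, 15, 7, 10, 16, 14, 5, 23, 6, 20, 21, 22, 13, 17, 19, 11, 2, 3, 9, 8, 18, 4, 12]

/-- its images -/
def genQ1 : List ℕ := [0, 1, 17, 18, 22, 7, 9, 3, 20, 19, 4, 16, 23, 13, 6, 2, 5, 14, 21, 15, 10, 11, 12, 8]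

/-- the translation fixing the octad pointwise: preimages and images -/
def tauL : List ℕ := [1, 0, 2, 3, 12, 5, 9, 22, 8, 6, 11, 10, 4, 15, 14, 13, 16, 23, 19, 18, 20, 21, 7, 17]

/-- a spanning tree of an orbit: zero goes back, a positive entry applies a generator -/
def zProg : List ℕ := [
  1, 1, 1, 1, 2, 1, 1, 1, 1, 0, 2, 1, 1, 1, 1, 0, 2, 1, 1, 1, 1, 2, 1, 1, 1, 1, 2, 1, 1, 1, 1, 0,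
  2, 1, 1, 1, 1, 0, 2, 1, 1, 1, 1, 0, 2, 1, 1, 1, 1, 2, 1, 1, 1, 1, 0, 0, 2, 1, 1, 1, 1, 0, 0, 0,
  2, 1, 1, 1, 1, 0, 0, 2, 1, 1, 1, 1, 2, 1, 1, 1, 1, 0, 0, 0, 0, 0, 0, 0, 0, 0, 2, 0, 0, 0, 0, 0,
  0, 0, 0, 0, 0, 0, 0, 0, 2, 1, 1, 1, 1, 0, 0, 0, 0, 0, 0, 0, 0, 0, 0, 0, 0, 0, 0, 0, 0, 0, 0, 0,
  0, 0, 0, 0, 0, 0, 2, 0, 0, 0, 0, 0, 0, 0, 0, 0, 0, 0, 0, 0, 0, 0, 0, 0]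

/-- a spanning tree of an orbit: zero goes back, a positive entry applies a generator -/
def dProg : List ℕ := [
  1, 1, 1, 1, 2, 1, 1, 1, 1, 2, 1, 1, 1, 1, 2, 1, 1, 1, 1, 0, 2, 1, 1, 1, 1, 0, 2, 1, 1, 1, 1, 2,
  1, 1, 1, 1, 2, 1, 1, 1, 1, 0, 2, 1, 1, 1, 1, 2, 1, 1, 1, 1, 2, 1, 1, 1, 1, 0, 2, 1, 1, 1, 1, 2,
  1, 1, 1, 1, 2, 1, 1, 1, 1, 0, 2, 1, 1, 1, 1, 2, 1, 1, 1, 1, 0, 2, 1, 1, 1, 1, 0, 0, 2, 1, 1, 1,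
  1, 2, 1, 1, 1, 1, 2, 1, 1, 1, 1, 0, 0, 2, 1, 1, 1, 1, 2, 1, 1, 1, 1, 2, 1, 1, 1, 1, 0, 2, 1, 1,
  1, 1, 2, 1, 1, 1, 1, 2, 1, 1, 1, 1, 0, 2, 1, 1, 1, 1, 0, 2, 1, 1, 1, 1, 2, 1, 1, 1, 1, 2, 1, 1,
  1, 1, 0, 0, 0, 2, 1, 1, 1, 1, 2, 1, 1, 1, 1, 2, 1, 1, 1, 1, 0, 2, 1, 1, 1, 1, 2, 1, 1, 1, 1, 2,
  1, 1, 1, 1, 0, 2, 1, 1, 1, 1, 2, 1, 1, 1, 1, 0, 2, 1, 1, 1, 1, 0, 2, 1, 1, 1, 1, 0, 0, 2, 1, 1,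
  1, 1, 2, 1, 1, 1, 1, 2, 1, 1, 1, 1, 0, 0, 2, 1, 1, 1, 1, 0, 2, 1, 1, 1, 1, 2, 1, 1, 1, 1, 2, 1,
  1, 1, 1, 0, 2, 1, 1, 1, 1, 2, 1, 1, 1, 1, 2, 1, 1, 1, 1, 0, 0, 0, 2, 1, 1, 1, 1, 2, 1, 1, 1, 1,
  2, 1, 1, 1, 1, 0, 2, 1, 1, 1, 1, 0, 2, 1, 1, 1, 1, 2, 1, 1, 1, 1, 2, 1, 1, 1, 1, 0, 2, 1, 1, 1,
  1, 2, 1, 1, 1, 1, 0, 2, 1, 1, 1, 1, 2, 1, 1, 1, 1, 0, 2, 1, 1, 1, 1, 0, 2, 1, 1, 1, 1, 0, 2, 1,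
  1, 1, 1, 2, 1, 1, 1, 1, 0, 0, 2, 1, 1, 1, 1, 0, 2, 1, 1, 1, 1, 0, 0, 2, 1, 1, 1, 1, 0, 2, 1, 1,
  1, 1, 2, 1, 1, 1, 1, 0, 2, 1, 1, 1, 1, 2, 1, 1, 1, 1, 2, 1, 1, 1, 1, 0, 2, 2, 1, 1, 1, 1, 2, 1,
  1, 1, 1, 0, 2, 1, 1, 1, 1, 2, 1, 1, 1, 1, 2, 1, 1, 1, 1, 0, 0, 0, 2, 1, 1, 1, 1, 2, 1, 1, 1, 1,
  0, 2, 1, 1, 1, 1, 0, 2, 1, 1, 1, 1, 0, 2, 1, 1, 1, 1, 2, 1, 1, 1, 1, 0, 2, 1, 1, 1, 1, 2, 1, 1,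
  1, 1, 0, 0, 2, 1, 1, 1, 1, 2, 1, 1, 1, 1, 0, 0, 2, 1, 1, 1, 1, 0, 0, 2, 1, 1, 1, 1, 0, 0, 0, 2,
  1, 1, 1, 1, 0, 0, 0, 2, 1, 1, 1, 1, 0, 0, 2, 1, 1, 1, 1, 2, 1, 1, 1, 1, 2, 1, 1, 1, 1, 0, 0, 0,
  0, 2, 1, 1, 1, 1, 2, 1, 1, 1, 1, 2, 1, 1, 1, 1, 0, 2, 1, 1, 1, 1, 0, 2, 1, 1, 1, 1, 2, 1, 1, 1,
  1, 0, 2, 1, 1, 1, 1, 0, 0, 2, 1, 1, 1, 1, 0, 0, 0, 2, 1, 1, 1, 1, 0, 0, 0, 0, 0, 0, 0, 0, 0, 0,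
  0, 0, 0, 2, 1, 1, 1, 1, 0, 0, 2, 1, 1, 1, 1, 0, 0, 0, 2, 1, 1, 1, 1, 0, 2, 1, 1, 1, 1, 0, 0, 0,
  0, 0, 0, 0, 0, 0, 0, 0, 0, 0, 0, 0, 0, 0, 2, 1, 1, 1, 1, 0, 2, 1, 1, 1, 1, 0, 0, 0, 2, 1, 1, 1,
  1, 0, 0, 0, 0, 0, 0, 0, 0, 0, 2, 1, 1, 1, 1, 0, 0, 0, 0, 0, 0, 0, 0, 0, 0, 0, 0, 0, 0, 0, 0, 0,
  0, 0, 0, 0, 0, 2, 1, 1, 1, 1, 2, 1, 1, 1, 1, 0, 0, 0, 0, 0, 0, 0, 2, 1, 1, 1, 1, 0, 0, 0, 0, 0,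
  0, 0, 0, 0, 0, 0, 0, 0, 0, 0, 0, 0, 0, 0, 0, 0, 0, 0, 0, 0, 0, 0, 0, 0, 0, 0, 0, 0, 0, 0, 0, 0,
  0, 0, 2, 1, 1, 1, 1, 0, 0, 2, 1, 1, 1, 1, 0, 0, 0, 0, 0, 0, 0, 0, 0, 0, 0, 0, 0, 2, 1, 1, 1, 1,
  0, 0, 0, 0, 0, 0, 0, 0, 0, 0, 0, 0, 0, 0, 0, 0, 0, 0, 0, 0, 0, 0, 0, 0, 0, 0, 0, 0, 0, 0, 0, 0,
  0, 0, 0, 0, 0, 0, 0, 0, 0, 0, 2, 1, 1, 1, 1, 0, 0, 0, 0, 0, 0, 0, 0, 0, 0, 0, 0, 0, 0, 0, 0, 0,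
  0, 0, 0, 0, 0, 0, 0, 0, 0, 0, 0, 0, 0, 0, 0, 0, 0, 2, 1, 1, 1, 1, 0, 0, 0, 0, 0, 0, 0, 0, 0, 0,
  0, 0, 0, 0, 0, 0, 0, 0, 0, 0, 0, 0, 0, 0, 0, 0, 0, 0, 0, 0, 0, 0, 0, 0, 0, 0, 0, 2, 1, 1, 1, 1,
  0, 0, 0, 0, 0, 0, 0, 0, 0, 0, 0, 0, 0, 0, 0, 0, 0, 0, 0, 0, 0, 0, 0, 0, 0, 0, 0, 0, 0, 0, 0, 0,
  0, 0, 0, 0, 0, 0, 0, 0, 0, 0, 0, 0, 0, 0, 0, 0, 0, 0, 0, 0, 0, 0, 0, 0, 0, 0, 0, 0, 0, 0, 0, 0,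
  0, 0, 0, 0, 0, 0, 0, 0, 0, 0, 0, 0, 0, 0, 0, 0, 0, 0, 0, 0, 0, 0, 0, 0, 0, 0, 0, 0, 0, 2, 1, 1,
  1, 1, 0, 0, 0, 0, 0, 0, 0, 0, 0, 0, 0, 0, 0, 0, 0, 0, 0, 0, 0, 0, 0, 0, 0, 0, 0, 0, 0, 0, 0, 0,
  0, 0, 0, 0, 0, 0, 0, 0, 0, 0, 0, 0, 0, 0, 0, 0, 0, 0, 0, 0, 0, 0, 0, 0, 0, 0, 0, 0, 0, 0, 0, 0,
  0, 0, 2, 1, 1, 1, 1, 0, 0, 0, 0, 0, 0, 0, 0, 0, 0, 0, 0, 0, 0, 0, 0, 0, 0, 0, 0, 0, 0, 0, 0, 0,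
  0, 0, 0, 0, 0, 0, 0, 0, 0, 0, 0, 0, 0, 0, 0, 0, 0, 0, 0, 0, 0, 0, 0, 0, 0, 0, 0, 0, 0, 0, 0, 0,
  0, 0, 0, 0, 0, 0, 0, 0, 0, 0, 0, 0, 0, 0, 0, 0, 0, 0, 0, 0, 0, 0, 0, 0, 0, 0, 0, 0, 0, 0, 0, 0,
  0, 0, 0, 0, 0, 0, 0, 0, 0, 0, 0, 0, 0, 0, 0, 0, 0, 0, 0, 0, 0, 0, 0, 0, 0, 0, 0, 0, 0, 0, 0, 0,
  0, 0, 0, 0, 0, 0, 0, 0, 0, 0, 0, 0, 0, 0]

/-- a spanning tree of an orbit: zero goes back, a positive entry applies a generator -/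
def bProg : List ℕ := [
  1, 1, 1, 1, 2, 1, 1, 1, 1, 2, 1, 1, 1, 1, 2, 1, 1, 1, 1, 0, 2, 1, 1, 1, 1, 2, 1, 1, 1, 1, 2, 1,
  1, 1, 1, 0, 2, 1, 1, 1, 1, 2, 1, 1, 1, 1, 2, 1, 1, 1, 1, 0, 2, 1, 1, 1, 1, 2, 1, 1, 1, 1, 2, 1,
  1, 1, 1, 0, 2, 1, 1, 1, 1, 2, 1, 1, 1, 1, 2, 1, 1, 1, 1, 0, 2, 1, 1, 1, 1, 2, 1, 1, 1, 1, 2, 1,
  1, 1, 1, 0, 2, 1, 1, 1, 1, 0, 2, 1, 1, 1, 1, 0, 0, 2, 1, 1, 1, 1, 2, 1, 1, 1, 1, 2, 1, 1, 1, 1,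
  0, 2, 1, 1, 1, 1, 0, 0, 2, 1, 1, 1, 1, 2, 1, 1, 1, 1, 0, 0, 2, 1, 1, 1, 1, 2, 1, 1, 1, 1, 2, 1,
  1, 1, 1, 0, 0, 2, 1, 1, 1, 1, 2, 1, 1, 1, 1, 0, 2, 1, 1, 1, 1, 0, 0, 0, 0, 0, 0, 2, 1, 1, 1, 1,
  0, 2, 1, 1, 1, 1, 2, 1, 1, 1, 1, 2, 1, 1, 1, 1, 0, 2, 1, 1, 1, 1, 2, 1, 1, 1, 1, 0, 0, 0, 2, 1,
  1, 1, 1, 0, 0, 2, 1, 1, 1, 1, 0, 0, 0, 0, 2, 1, 1, 1, 1, 0, 2, 1, 1, 1, 1, 2, 1, 1, 1, 1, 2, 1,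
  1, 1, 1, 0, 2, 1, 1, 1, 1, 0, 2, 1, 1, 1, 1, 2, 1, 1, 1, 1, 2, 1, 1, 1, 1, 0, 0, 2, 1, 1, 1, 1,
  0, 0, 0, 0, 0, 0, 0, 0, 0, 2, 1, 1, 1, 1, 0, 2, 1, 1, 1, 1, 0, 0, 0, 0, 0, 0, 2, 1, 1, 1, 1, 0,
  0, 0, 2, 1, 1, 1, 1, 0, 0, 0, 0, 0, 0, 0, 0, 0, 0, 0, 0, 0, 2, 1, 1, 1, 1, 0, 2, 1, 1, 1, 1, 0,
  0, 0, 0, 2, 1, 1, 1, 1, 0, 2, 1, 1, 1, 1, 2, 1, 1, 1, 1, 0, 0, 0, 0, 2, 1, 1, 1, 1, 0, 0, 0, 0,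
  0, 0, 0, 2, 1, 1, 1, 1, 0, 0, 0, 0, 0, 0, 2, 1, 1, 1, 1, 0, 0, 0, 0, 0, 0, 0, 0, 0, 0, 0, 0, 0,
  0, 0, 2, 1, 1, 1, 1, 0, 0, 0, 0, 0, 0, 0, 0, 0, 2, 1, 1, 1, 1, 0, 0, 0, 0, 0, 0, 2, 1, 1, 1, 1,
  0, 0, 0, 0, 0, 0, 0, 0, 0, 0, 0, 0, 0, 0, 2, 1, 1, 1, 1, 0, 0, 0, 0, 0, 0, 0, 0, 0, 0, 0, 0, 0,
  0, 0, 0, 0, 0, 0, 0, 0, 0, 0, 0, 0, 0, 0, 0, 0, 0, 0, 0, 0, 0, 0, 0, 0, 0, 0, 0, 0, 0, 0, 0, 0,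
  0, 0, 0, 0, 0, 0, 0, 0, 0, 0, 0, 0, 0, 0, 0, 0, 0, 0, 0, 0, 0, 0, 0, 0, 0, 0, 0, 0, 0, 0, 0, 0,
  0, 0, 0, 0, 0, 0, 0, 0, 0, 0, 0, 0, 0, 0, 0, 0, 0, 0, 0, 0, 0, 0, 0, 0, 0, 0, 0, 0, 0, 0, 0, 0,
  0, 0, 0, 0, 0, 0, 0, 0, 0, 0, 0, 0, 0, 0, 0, 0, 0, 0, 0, 0, 0, 0, 0, 0, 0, 0, 0, 0, 0, 0, 0, 0,
  0, 0, 0, 0, 0, 0, 0, 0, 0, 0, 0, 0, 0, 0, 0, 0, 0, 0, 0, 0, 0, 0, 0, 0, 0, 0, 0, 0, 0, 0, 0, 0,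
  0, 0, 0, 0, 0, 0, 0, 0, 0, 0, 0, 0, 0, 0, 0, 0, 0, 0]

/-- generators of the words fixed by the translation -/
def perBasis : List ℕ := [21116, 114548, 832080, 1090380, 2101096, 4202192, 8564288]

/-- three words whose classes modulo the small group are independent -/
def eW : List ℕ := [5046012, 10403676, 13614516]

/-- two octads through the extra point for each point off the octad -/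
def sepL : List (ℕ × ℕ) := [
  (0, 0), (1916935, 1155115), (0, 0), (0, 0), (7667737, 2310229), (0, 0), (2310229, 6299757),
  (6373539, 590013), (0, 0), (4309517, 9519665), (1074205, 5440549), (15747077, 2148409),
  (5787689, 3149879), (11100169, 3563553), (0, 0), (3833869, 10846245), (0, 0),
  (3833869, 3563553), (1916935, 7667737), (1916935, 11100169), (0, 0), (0, 0),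
  (7667737, 6299757), (11100169, 10846245)]

/-- two octads meeting the octad in a pair at each of its points -/
def sepInL : List (ℕ × ℕ) := [
  (0, 0), (0, 0), (5210132, 9052252), (12951624, 9052252), (0, 0), (15335473, 5939296), (0, 0),
  (0, 0), (4759833, 12747077), (0, 0), (0, 0), (0, 0), (0, 0), (0, 0), (14442512, 7127105),
  (0, 0), (5210132, 12951624), (0, 0), (0, 0), (0, 0), (14442512, 11575377), (15335473, 7127105),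
  (0, 0), (0, 0)]

/-- four words of weight sixteen with sum of weight sixteen -/
def fourL : List ℕ := [2060276, 2883484, 3652860, 4060028]

/-- a word of weight sixteen containing the octad and fixed by the translation -/
def vn : ℕ := 4060028

/-- for each octad fixed by the marked involutions: its mask, a sextet, a word -/
def sextL : List (ℕ × List ℕ × ℕ) := [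
  (21116, [2, 2, 0, 0, 0, 5, 0, 4, 3, 5, 3, 4, 5, 1, 5, 2, 3, 1, 2, 1, 4, 4, 3, 1],
    10558),
  (72588, [1, 2, 0, 0, 3, 4, 3, 0, 5, 5, 4, 0, 5, 1, 4, 1, 5, 2, 2, 2, 3, 3, 4, 1],
    6379),
  (84464, [2, 2, 5, 5, 0, 0, 0, 4, 4, 5, 3, 4, 5, 2, 0, 1, 4, 1, 1, 2, 3, 3, 3, 1],
    36294),
  (1050548, [1, 2, 0, 5, 0, 0, 5, 3, 3, 0, 3, 4, 5, 1, 5, 1, 4, 1, 2, 2, 3, 4, 4, 2],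
    6379),
  (1070536, [1, 2, 4, 0, 4, 3, 0, 0, 5, 3, 5, 4, 5, 1, 5, 2, 3, 2, 1, 1, 0, 4, 3, 2],
    6379),
  (1121336, [1, 2, 4, 0, 0, 0, 4, 3, 3, 4, 5, 5, 0, 1, 4, 2, 5, 2, 1, 2, 5, 3, 3, 1],
    6379),
  (1134148, [1, 2, 0, 5, 5, 5, 0, 3, 3, 0, 4, 4, 5, 1, 0, 2, 4, 2, 1, 2, 4, 3, 3, 1],
    6379),
  (2101096, [1, 2, 5, 0, 5, 0, 0, 3, 4, 0, 4, 4, 5, 2, 5, 1, 3, 2, 2, 1, 3, 4, 3, 1],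
    6379),
  (2120980, [2, 2, 0, 3, 0, 4, 3, 4, 0, 4, 0, 5, 5, 1, 5, 1, 3, 2, 1, 2, 4, 5, 3, 1],
    10558),
  (2168036, [1, 2, 0, 3, 3, 0, 0, 4, 5, 3, 4, 5, 0, 2, 3, 2, 4, 1, 1, 1, 5, 4, 5, 2],
    6379),
  (2180760, [2, 2, 4, 0, 0, 5, 4, 0, 5, 3, 3, 4, 5, 2, 3, 1, 3, 2, 1, 1, 4, 0, 5, 1],
    36294),
  (3147996, [2, 2, 0, 0, 0, 5, 0, 4, 3, 5, 3, 4, 5, 1, 5, 2, 3, 1, 2, 1, 4, 4, 3, 1],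
    10558),
  (3168928, [2, 2, 4, 3, 4, 0, 3, 0, 4, 0, 4, 5, 5, 1, 5, 1, 3, 2, 1, 2, 0, 5, 3, 1],
    10558),
  (3216208, [1, 2, 3, 3, 0, 4, 0, 4, 0, 5, 3, 4, 5, 2, 4, 2, 0, 2, 1, 1, 5, 5, 3, 1],
    6379),
  (3227948, [2, 2, 0, 0, 5, 0, 5, 4, 3, 5, 4, 4, 5, 1, 0, 1, 3, 2, 1, 1, 3, 3, 4, 2],
    10558),
  (4202192, [1, 2, 3, 3, 0, 4, 0, 0, 4, 5, 5, 0, 5, 2, 4, 1, 4, 1, 2, 1, 3, 3, 5, 2],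
    6379),
  (4213932, [2, 2, 0, 0, 5, 0, 5, 4, 3, 5, 4, 4, 5, 1, 0, 1, 3, 2, 1, 1, 3, 3, 4, 2],
    10558),
  (4261212, [2, 2, 0, 0, 0, 5, 0, 4, 3, 5, 3, 4, 5, 1, 5, 2, 3, 1, 2, 1, 4, 4, 3, 1],
    10558),
  (4282144, [1, 2, 3, 4, 3, 0, 4, 3, 0, 0, 0, 4, 5, 2, 5, 2, 5, 1, 1, 2, 3, 4, 5, 1],
    6379),
  (5249380, [1, 2, 0, 3, 3, 0, 0, 4, 5, 3, 4, 5, 0, 2, 3, 2, 4, 1, 1, 1, 5, 4, 5, 2],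
    6379),
  (5262104, [1, 2, 3, 0, 0, 5, 3, 5, 0, 4, 3, 4, 5, 1, 4, 1, 3, 2, 2, 1, 4, 5, 0, 2],
    6379),
  (5309160, [1, 2, 5, 0, 5, 0, 0, 3, 4, 0, 4, 4, 5, 2, 5, 1, 3, 2, 2, 1, 3, 4, 3, 1],
    6379),
  (5329044, [1, 2, 0, 4, 0, 3, 4, 0, 3, 3, 3, 4, 5, 2, 5, 2, 5, 1, 1, 2, 0, 4, 5, 1],
    6379),
  (6295992, [1, 2, 4, 0, 0, 0, 4, 3, 3, 4, 5, 5, 0, 1, 4, 2, 5, 2, 1, 2, 5, 3, 3, 1],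
    6379),
  (6308804, [2, 2, 0, 4, 4, 5, 0, 0, 3, 3, 5, 4, 5, 1, 3, 1, 5, 1, 1, 2, 4, 0, 3, 2],
    10558),
  (6359604, [1, 2, 0, 5, 0, 0, 5, 3, 3, 0, 3, 4, 5, 1, 5, 1, 4, 1, 2, 2, 3, 4, 4, 2],
    6379),
  (6379592, [1, 2, 3, 0, 3, 4, 0, 3, 4, 4, 4, 0, 5, 2, 5, 2, 5, 1, 1, 2, 3, 0, 5, 1],
    6379),
  (7345676, [2, 2, 0, 0, 3, 3, 3, 5, 5, 0, 4, 5, 0, 2, 3, 1, 5, 1, 1, 2, 4, 4, 4, 1],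
    36294),
  (7357552, [2, 2, 5, 5, 0, 0, 0, 4, 4, 5, 3, 4, 5, 2, 0, 1, 4, 1, 1, 2, 3, 3, 3, 1],
    36294),
  (7409024, [1, 2, 3, 5, 3, 3, 5, 0, 0, 3, 0, 4, 5, 1, 5, 1, 4, 1, 2, 2, 0, 4, 4, 2],
    6379),
  (9347075, [0, 0, 3, 2, 5, 2, 4, 4, 3, 4, 5, 5, 5, 0, 3, 0, 2, 1, 1, 1, 2, 3, 4, 1],
    132813)]

end Cfsg.Agent.CoTwoUniq.Data
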