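import Cfsg.Agent.SuzRecog.Final

/-!
A subgroup absorbing a centraliser.

Let `A` be a subgroup of `H` and `S` a set of involutions in `A` such that only elements of `H` move
one of them into `H`.  If `g` centralises an abelian subgroup `W` of `A` and lies outside `H`, a
conjugate `g v g⁻¹` and a second element `e` of `S` give, through the dihedral group they generate
modulo `W`, a larger such subgroup normalised by `g v g⁻¹`.  So the centraliser lies in `H`.
-/

set_option autoImplicit false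

open Cfsg

namespace Cfsg.Agent.CoTwoUniq

variable {G : Type*} [Group G] [Finite G]

/-- The centraliser of `W` lies in `H`, once two suitable marked involutions exist over each larger
group avoiding the marked set. -/
theorem centralizer_le_of_shift (H A : Subgroup G) (S : Set G) (hAH : A ≤ H) (hSA : S ⊆ A)
    (hS2 : ∀ s ∈ S, orderOf s = 2)
    (hS : ∀ s ∈ S, ∀ g, g * s * g⁻¹ ∈ H → g ∈ H)
    (W₀ : Subgroup G)
    (hAn : ∀ h ∈ H, (∀ w ∈ W₀, Commute h w) → ∀ a ∈ A, h * a * h⁻¹ ∈ A)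
    (hpick : ∀ W : Subgroup G, W ≤ A → W₀ ≤ W → (∀ w ∈ W, w ∉ S) →
      ∃ v ∈ S, ∃ e ∈ S, (∀ a ∈ A, Commute v a) ∧ (∀ w ∈ W, Commute e w) ∧
        ∀ h ∈ H, (∀ w ∈ W, Commute h w) → ∀ w ∈ W, h * e * h⁻¹ ≠ v * w)
    (W : Subgroup G) (hWA : W ≤ A) (hW₀ : W₀ ≤ W) (hWc : ∀ a ∈ W, ∀ b ∈ W, Commute a b)
    (hWS : ∀ w ∈ W, w ∉ S) {g : G} (hg : ∀ w ∈ W, Commute g w) : g ∈ H := by
  induction hn : Nat.card A - Nat.card W using Nat.strong_induction_on generalizing W g with
  | _ n ih =>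
  by_contra hgH
  obtain ⟨v, hv, e, he, hva, hew, hne⟩ := hpick W hWA hW₀ hWS
  set x := g * v * g⁻¹ with hx
  have hxH : x ∉ H := fun h => hgH (hS v hv g h)
  have hxW : ∀ w ∈ W, Commute x w := fun w hw =>
    ((hg w hw).mul_left (hva w (hWA hw))).mul_left (hg w hw).inv_left
  have hWH : W ≤ H := hWA.trans hAH
  have heH : e ∈ H := hAH (hSA he)
  have hxx : x * x = 1 := by
    have h2 : orderOf x = 2 := (Invol.orderOf_conj g v).trans (hS2 v hv)
    rw [← sq, ← h2, pow_orderOf_eq_one]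
  set Y : Subgroup G := Subgroup.centralizer (W : Set G) with hY
  have memY : ∀ y : G, y ∈ Y ↔ ∀ w ∈ W, Commute y w := fun y =>
    ⟨fun h w hw => (Subgroup.mem_centralizer_iff.1 h w hw).symm,
      fun h => Subgroup.mem_centralizer_iff.2 fun w hw => (h w hw).symm.eq⟩
  let N : Subgroup ↥Y := W.subgroupOf Y
  have hN : N.Normal := ⟨fun w hw y => by
    have hw' : (w : G) ∈ W := hw
    show (y : G) * w * (y : G)⁻¹ ∈ W
    rw [((memY _).1 y.2 _ hw').eq, mul_inv_cancel_right]; exact hw'⟩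
  let π : ↥Y →* ↥Y ⧸ N := QuotientGroup.mk' N
  have hcoset : ∀ a b : ↥Y, π a = π b → ∃ w ∈ W, (b : G) = a * w := fun a b h =>
    ⟨(a : G)⁻¹ * b, (QuotientGroup.eq (s := N) (a := a) (b := b)).1 h, by group⟩
  have hker : ∀ a : ↥Y, π a = 1 → (a : G) ∈ W := fun a h => (QuotientGroup.eq_one_iff (N := N) a).1 h
  let eY : ↥Y := ⟨e, (memY _).2 hew⟩
  let xY : ↥Y := ⟨x, (memY _).2 hxW⟩
  have heo : orderOf (π eY) = 2 := Invol.orderOf_eq_two_iff.2 ⟨fun h =>
      hWS e (hker eY h) he, by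
      rw [← map_mul, show eY * eY = 1 from Subtype.ext (by
        rw [Subgroup.coe_mul]; show e * e = 1
        rw [← sq, ← hS2 e he, pow_orderOf_eq_one]), map_one]⟩
  have hxo : orderOf (π xY) = 2 := Invol.orderOf_eq_two_iff.2 ⟨fun h =>
      hxH (hWH (hker xY h)), by
      rw [← map_mul, show xY * xY = 1 from Subtype.ext hxx, map_one]⟩
  have hnc : ¬ IsConj (π eY) (π xY) := fun h => by
    obtain ⟨c, hc⟩ := isConj_iff.1 h
    obtain ⟨k, rfl⟩ := QuotientGroup.mk'_surjective N c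
    rw [← map_inv, ← map_mul, ← map_mul] at hc
    obtain ⟨w, hw, h'⟩ := hcoset _ _ hc.symm
    change (k : G) * e * (k : G)⁻¹ = x * w at h'
    have hm : g⁻¹ * (k : G) * e * (g⁻¹ * (k : G))⁻¹ = v * w := by
      rw [show g⁻¹ * (k : G) * e * (g⁻¹ * (k : G))⁻¹ = g⁻¹ * ((k : G) * e * (k : G)⁻¹) * g by group,
        h', hx, show g⁻¹ * (g * v * g⁻¹ * w) * g = v * (g⁻¹ * (w * g)) by group, ← (hg w hw).eq,
        inv_mul_cancel_left]
    have hkH : g⁻¹ * (k : G) ∈ H :=
      hS e he _ (by rw [hm]; exact mul_mem (hAH (hSA hv)) (hWH hw))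
    exact hne _ hkH (fun u hu => (hg u hu).inv_left.mul_left ((memY _).1 k.2 u hu)) w hw hm
  obtain ⟨c, d, hc, hce, hcx, hd⟩ := SuzRecog.exists_central_shift heo hxo hnc
  obtain ⟨C, rfl⟩ := QuotientGroup.mk'_surjective N c
  obtain ⟨D, rfl⟩ := QuotientGroup.mk'_surjective N d
  have hCY := (memY _).1 C.2
  have hDY := (memY _).1 D.2
  -- the central involution comes from `A`
  have hCH : (C : G) ∈ H := by
    obtain ⟨w, hw, h'⟩ := hcoset eY (C * eY * C⁻¹)
      (by rw [map_mul, map_mul, map_inv, hce.eq, mul_inv_cancel_right])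
    change (C : G) * e * (C : G)⁻¹ = e * w at h'
    exact hS e he _ (by rw [h']; exact mul_mem heH (hWH hw))
  have hA : ∀ k s, s ∈ A → (k ∈ H → k * s * k⁻¹ ∈ A) → k ∈ H →
      ∀ w ∈ W, k * s * k⁻¹ = e * C * w → (C : G) ∈ A := fun k s _ hk hkH w hw h' => by
    have := hk hkH
    rw [h'] at this
    have h2 := mul_mem (mul_mem (inv_mem (hSA he)) this) (inv_mem (hWA hw))
    rwa [show e⁻¹ * (e * (C : G) * w) * w⁻¹ = C by group] at h2
  have hCA : (C : G) ∈ A := by
    rcases hd with h | h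
    · rw [← map_inv, ← map_mul, ← map_mul, ← map_mul] at h
      obtain ⟨w, hw, h'⟩ := hcoset _ _ h.symm
      change (D : G) * e * (D : G)⁻¹ = e * C * w at h'
      refine hA D e (hSA he) (fun hD => hAn _ hD (fun u hu => hDY u (hW₀ hu)) _ (hSA he))
        (hS e he _ ?_) w hw h'
      rw [h']; exact mul_mem (mul_mem heH hCH) (hWH hw)
    · rw [← map_inv, ← map_mul, ← map_mul, ← map_mul] at h
      obtain ⟨w, hw, h'⟩ := hcoset _ _ h.symm
      change (D : G) * x * (D : G)⁻¹ = e * C * w at h'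
      have h'' : (D : G) * g * v * ((D : G) * g)⁻¹ = e * C * w := by rw [← h', hx]; group
      refine hA ((D : G) * g) v (hSA hv)
        (fun hD => hAn _ hD (fun u hu => (hDY u (hW₀ hu)).mul_left (hg u (hW₀ hu))) _ (hSA hv))
        (hS v hv _ ?_) w hw h''
      rw [h'']; exact mul_mem (mul_mem heH hCH) (hWH hw)
  have hCW : (C : G) ∉ W := fun h => Invol.ne_one hc ((QuotientGroup.eq_one_iff C).2 h)
  have hCC : (C : G) * C ∈ W := by
    have h : π (C * C) = 1 := by rw [map_mul, ← sq, ← hc, pow_orderOf_eq_one]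
    exact hker (C * C) h
  obtain ⟨w₂, hw₂, hxC⟩ : ∃ w ∈ W, x * C * x⁻¹ = C * w :=
    hcoset C (xY * C * xY⁻¹) (by rw [map_mul, map_mul, map_inv, ← hcx.eq, mul_inv_cancel_right])
  -- the larger group
  let W' : Subgroup G :=
    { carrier := {y | y ∈ W ∨ (C : G)⁻¹ * y ∈ W}
      one_mem' := Or.inl (one_mem W)
      mul_mem' := fun {a b} ha hb => by
        rcases ha with ha | ha <;> rcases hb with hb | hb
        · exact Or.inl (mul_mem ha hb)
        · refine Or.inr ?_
          rw [← mul_assoc, show (C : G)⁻¹ * a = a * (C : G)⁻¹ from (hCY a ha).inv_left.eq,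
            mul_assoc]
          exact mul_mem ha hb
        · exact Or.inr (by rw [← mul_assoc]; exact mul_mem ha hb)
        · refine Or.inl ?_
          have h := mul_mem hCC (mul_mem ha hb)
          have e2 : (C : G) * C * ((C : G)⁻¹ * a * ((C : G)⁻¹ * b)) = a * b := by
            have := (hCY _ ha).eq
            calc (C : G) * C * ((C : G)⁻¹ * a * ((C : G)⁻¹ * b))
                = (C : G) * (C * ((C : G)⁻¹ * a)) * (C : G)⁻¹ * b := by group
              _ = (C : G) * ((C : G)⁻¹ * a * C) * (C : G)⁻¹ * b := by rw [this]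
              _ = a * b := by group
          rwa [e2] at h
      inv_mem' := fun {a} ha => by
        rcases ha with ha | ha
        · exact Or.inl (inv_mem ha)
        · refine Or.inr ?_
          have h := mul_mem (inv_mem ha) (inv_mem hCC)
          have e2 : ((C : G)⁻¹ * a)⁻¹ * ((C : G) * C)⁻¹ = (C : G)⁻¹ * a⁻¹ := by
            have := ((hCY _ (inv_mem ha)).inv_left).eq
            calc ((C : G)⁻¹ * a)⁻¹ * ((C : G) * C)⁻¹
                = ((C : G)⁻¹ * a)⁻¹ * (C : G)⁻¹ * (C : G)⁻¹ := by group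
              _ = (C : G)⁻¹ * ((C : G)⁻¹ * a)⁻¹ * (C : G)⁻¹ := by rw [this]
              _ = (C : G)⁻¹ * a⁻¹ := by group
          rwa [e2] at h }
  have hW'mem : ∀ y ∈ W', ∃ w ∈ W, y = w ∨ y = C * w := by
    rintro y (h | h)
    exacts [⟨y, h, Or.inl rfl⟩, ⟨_, h, Or.inr (by group)⟩]
  have hle : W ≤ W' := fun y hy => Or.inl hy
  have hW'A : W' ≤ A := fun y hy => by
    obtain ⟨w, hw, rfl | rfl⟩ := hW'mem y hy
    exacts [hWA hw, mul_mem hCA (hWA hw)]
  have hxn : ∀ y ∈ W', x * y * x⁻¹ ∈ W' := fun y hy => by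
    obtain ⟨w, hw, rfl | rfl⟩ := hW'mem y hy
    · rw [(hxW _ hw).eq, mul_inv_cancel_right]; exact hle hw
    · refine Or.inr ?_
      rw [show (C : G)⁻¹ * (x * (C * w) * x⁻¹) =
        (C : G)⁻¹ * (x * C * x⁻¹) * (x * w * x⁻¹) by group, hxC, inv_mul_cancel_left, (hxW w hw).eq,
        mul_inv_cancel_right]
      exact mul_mem hw₂ hw
  have hW'S : ∀ y ∈ W', y ∉ S := fun y hy hyS =>
    hxH (hS y hyS x (hAH (hW'A (hxn y hy))))
  have hW'c : ∀ a ∈ W', ∀ b ∈ W', Commute a b := fun a ha b hb => by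
    obtain ⟨u, hu, rfl | rfl⟩ := hW'mem a ha <;> obtain ⟨w, hw, rfl | rfl⟩ := hW'mem b hb
    · exact hWc _ hu _ hw
    · exact (hCY _ hu).symm.mul_right (hWc _ hu _ hw)
    · exact (hCY _ hw).mul_left (hWc _ hu _ hw)
    · exact ((Commute.refl _).mul_right (hCY _ hw)).mul_left
        ((hCY _ hu).symm.mul_right (hWc _ hu _ hw))
  have hlt : Nat.card W < Nat.card W' := by
    have hl : W < W' := lt_of_le_of_ne hle fun h =>
      hCW (h ▸ Or.inr (by rw [inv_mul_cancel]; exact one_mem W))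
    have h := Set.ncard_lt_ncard (SetLike.coe_ssubset_coe.2 hl) (Set.toFinite _)
    rw [← Nat.card_coe_set_eq, ← Nat.card_coe_set_eq] at h
    exact h
  have hle' : Nat.card W' ≤ Nat.card A := Subgroup.card_le_of_le hW'A
  refine hxH (hS v hv x (ih (Nat.card A - Nat.card W') (by omega) W' hW'A (hW₀.trans hle) hW'c hW'S
    (g := x * v * x⁻¹) (fun y hy => ?_) rfl))
  -- `x v x⁻¹` centralises the larger group
  have hy' := hxn y hy
  have hinv : x⁻¹ = x := inv_eq_of_mul_eq_one_right hxx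
  show x * v * x⁻¹ * y = y * (x * v * x⁻¹)
  have := (hva _ (hW'A hy')).eq
  rw [hinv] at this ⊢
  calc x * v * x * y = x * (v * (x * y * x)) * x := by
        rw [show x * (v * (x * y * x)) * x = x * v * x * y * (x * x) by group, hxx, mul_one]
    _ = x * (x * y * x * v) * x := by rw [this]
    _ = y * (x * v * x) := by
        rw [show x * (x * y * x * v) * x = x * x * y * (x * v * x) by group, hxx, one_mul]

end Cfsg.Agent.CoTwoUniq
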