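import Cfsg.Agent.CoTwoUniq.Orbits
import Cfsg.Agent.CoTwoUniq.Shift

/-!
The centraliser of the dodecad involution lies in the image, and that involution is not fused with
the octad one.
-/

set_option autoImplicit false
set_option linter.unusedSectionVars false

open Cfsg

namespace Cfsg.Agent.CoTwoUniq

open Cfsg.Agent.Leech (bitWord signCo0 permCo0)

variable {G : Type*} [Group G] [Finite G] (θ : K2 →* G) (hθ : Function.Injective θ)
  (hC : Subgroup.centralizer ({θ z0} : Set G) ≤ θ.range)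
  (hfus : ∀ x : K2, IsConj (θ x) (θ z0) → IsConj x z0)

/-- The sign changes of the group. -/
def signGrp : Subgroup K2 :=
  let _ : Finite K2 := co2_finite
  { carrier := {x | ∃ n ∈ avMasks, x = sgn n}
    one_mem' := ⟨0, by decide +kernel, sgn_zero.symm⟩
    mul_mem' := by
      rintro _ _ ⟨m, hm, rfl⟩ ⟨n, hn, rfl⟩
      have h : inc (sgn m * sgn n) = signCo0 _ (av_mem (av_add (avMasks_spec m hm) (avMasks_spec n hn))) := by
        rw [← sgn_xor (avMasks_spec m hm) (avMasks_spec n hn),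
          inc_sgn (av_add (avMasks_spec m hm) (avMasks_spec n hn))]
      obtain ⟨k, hk, -, he⟩ := exists_sgn _ h
      exact ⟨k, hk, he⟩
    inv_mem' := by
      rintro _ ⟨n, hn, rfl⟩
      exact ⟨n, hn, inv_eq_of_mul_eq_one_right (sgn_mul_self (avMasks_spec n hn))⟩ }

theorem mem_signGrp {x : K2} : x ∈ signGrp ↔ ∃ n ∈ avMasks, x = sgn n := Iff.rfl

include hC hfus in
/-- An element moving a conjugate of the marked involution into the image lies in the image. -/
theorem mem_of_move_z {x : K2} (hx : IsConj x z0) {g : G}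
    (hg : g * θ x * g⁻¹ ∈ θ.range) : g ∈ θ.range := by
  obtain ⟨y, hy⟩ := hg
  have hy' : IsConj y z0 := hfus y ((isConj_iff.2 ⟨g⁻¹, by rw [hy]; group⟩).trans (θ.map_isConj hx))
  obtain ⟨p, hp⟩ := isConj_iff.1 hx.symm
  obtain ⟨q, hq⟩ := isConj_iff.1 hy'.symm
  rw [← hp, ← hq] at hy
  simp only [map_mul, map_inv] at hy
  have hm : (θ q)⁻¹ * g * θ p ∈ θ.range := by
    refine hC (Subgroup.mem_centralizer_singleton_iff.2 ?_)
    calc (θ q)⁻¹ * g * θ p * θ z0
        = (θ q)⁻¹ * (g * (θ p * θ z0 * (θ p)⁻¹) * g⁻¹) * g * θ p := by group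
      _ = (θ q)⁻¹ * (θ q * θ z0 * (θ q)⁻¹) * g * θ p := by rw [← hy]
      _ = θ z0 * ((θ q)⁻¹ * g * θ p) := by group
  have := mul_mem (mul_mem (⟨q, rfl⟩ : θ q ∈ θ.range) hm) (inv_mem (⟨p, rfl⟩ : θ p ∈ θ.range))
  simpa [mul_assoc] using this

theorem isConj_z0_of_tr {x : K2} (hx : orderOf x = 2) (h : tr x = 5) : IsConj x z0 := by
  rcases classes hx with ⟨-, e⟩ | ⟨e, -⟩ | ⟨e, -⟩
  · rw [sgn_zm] at e; exact e.symm
  all_goals rw [h] at e; exact absurd e (by decide)

theorem tr_z0 : tr z0 = 5 := (congrArg tr sgn_zm).symm.trans tr_base.1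

theorem orderOf_z0 : orderOf (z0 : K2) = 2 := by
  show orderOf S2136.tCo2 = 2
  rw [← sgn_zm]
  exact orderOf_sgn base_facts.1.1 (by decide +kernel)

theorem pm_pair :
    (avMasks.all fun n => !(pop n == 16 && pop (n ^^^ Data.dm) == 16) ||
      (n == Data.pm1 || n == Data.pm2)) = true ∧
    (Data.fourL.all fun n => avMasks.contains n && pop n == 16) = true ∧
    pop (Data.fourL.getD 0 0 ^^^ Data.fourL.getD 1 0 ^^^ Data.fourL.getD 2 0 ^^^
      Data.fourL.getD 3 0) = 16 ∧ pop (Data.pm1 ^^^ Data.dm) = 16 := by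
  refine ⟨?_, ?_, ?_, ?_⟩ <;> decide +kernel

include hθ hC hfus in
/-- The centraliser of the dodecad involution lies in the image. -/
theorem centralizer_dm_le {g : G} (hg : Commute g (θ (sgn Data.dm))) : g ∈ θ.range := by
  set A : Subgroup G := signGrp.map θ with hA
  set S : Set G := θ '' {x | ∃ n ∈ avMasks, pop n = 16 ∧ x = sgn n} with hS
  have hSo : ∀ n ∈ avMasks, pop n = 16 → orderOf (sgn n) = 2 ∧ IsConj (sgn n) z0 := fun n hn h => by
    have ho := orderOf_sgn hn (fun e => by rw [e] at h; exact absurd h (by decide +kernel))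
    exact ⟨ho, isConj_z0_of_tr ho (by rw [tr_sgn (avMasks_spec n hn), h]; decide)⟩
  have hAmem : ∀ n ∈ avMasks, θ (sgn n) ∈ A := fun n hn => ⟨_, ⟨n, hn, rfl⟩, rfl⟩
  have hzp : ∀ a ∈ Subgroup.zpowers (θ (sgn Data.dm)), a = 1 ∨ a = θ (sgn Data.dm) := by
    intro a ha
    rw [Subgroup.mem_zpowers_iff] at ha
    obtain ⟨k, rfl⟩ := ha
    have h2 : θ (sgn Data.dm) ^ (2 : ℤ) = 1 := by
      rw [zpow_two, ← map_mul, sgn_mul_self av_dm, map_one]
    rcases Int.even_or_odd' k with ⟨m, rfl | rfl⟩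
    · left; rw [zpow_mul, h2, one_zpow]
    · right; rw [zpow_add, zpow_mul, h2, one_zpow, one_mul, zpow_one]
  have hW₀ : Subgroup.zpowers (θ (sgn Data.dm)) ≤ A :=
    Subgroup.zpowers_le.2 (hAmem _ base_facts.2.1.1)
  refine centralizer_le_of_shift θ.range A S ?_ ?_ ?_ ?_ (Subgroup.zpowers (θ (sgn Data.dm))) ?_ ?_
    _ hW₀ le_rfl ?_ ?_ (g := g) ?_
  · rintro _ ⟨x, -, rfl⟩; exact ⟨x, rfl⟩
  · rintro _ ⟨x, ⟨n, hn, -, rfl⟩, rfl⟩; exact hAmem n hn
  · rintro _ ⟨x, ⟨n, hn, h, rfl⟩, rfl⟩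
    rw [orderOf_injective θ hθ]; exact (hSo n hn h).1
  · rintro _ ⟨x, ⟨n, hn, h, rfl⟩, rfl⟩ k hk
    exact mem_of_move_z θ hC hfus (hSo n hn h).2 hk
  · rintro _ ⟨k, rfl⟩ hk _ ⟨x, ⟨n, hn, rfl⟩, rfl⟩
    have hc : Commute k (sgn Data.dm) :=
      hθ (by rw [map_mul, map_mul]; exact (hk _ (Subgroup.mem_zpowers _)).eq)
    obtain ⟨m, hm, -, he⟩ := mono_conj_sgn (comm_dm_mono hc) hn
    rw [← map_inv, ← map_mul, ← map_mul, he]
    exact hAmem m hm
  · intro W hWA hW₀W hWS
    have hmemS : ∀ n ∈ avMasks, pop n = 16 → θ (sgn n) ∈ S := fun n hn h =>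
      ⟨_, ⟨n, hn, h, rfl⟩, rfl⟩
    have hcomm : ∀ n ∈ avMasks, ∀ a ∈ A, Commute (θ (sgn n)) a := by
      rintro n hn _ ⟨x, ⟨m, hm, rfl⟩, rfl⟩
      exact (sgn_comm (avMasks_spec n hn) (avMasks_spec m hm)).map θ
    obtain ⟨hp1, hp1w⟩ := base_facts.2.2.2.1
    have hd : θ (sgn Data.dm) ∈ W := hW₀W (Subgroup.mem_zpowers _)
    obtain ⟨n, hn, hnW⟩ : ∃ n ∈ Data.fourL, (θ (sgn Data.pm1))⁻¹ * θ (sgn n) ∉ W := by
      by_contra hall
      push Not at hall
      have hav : ∀ i < 4, Data.fourL.getD i 0 ∈ Data.fourL := by decide +kernel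
      have hav' : ∀ i < 4, Av (Data.fourL.getD i 0) := fun i hi => by
        have h := List.all_eq_true.1 pm_pair.2.1 _ (hav i hi)
        rw [Bool.and_eq_true, List.contains_iff_mem] at h
        exact avMasks_spec _ h.1
      have key : ∀ i < 4, ∀ j < 4,
          θ (sgn (Data.fourL.getD i 0 ^^^ Data.fourL.getD j 0)) ∈ W := fun i hi j hj => by
        have h := mul_mem (inv_mem (hall _ (hav i hi))) (hall _ (hav j hj))
        rw [sgn_xor (hav' i hi) (hav' j hj), map_mul]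
        have hinv : (θ (sgn (Data.fourL.getD i 0)))⁻¹ = θ (sgn (Data.fourL.getD i 0)) :=
          inv_eq_of_mul_eq_one_right (by rw [← map_mul, sgn_mul_self (hav' i hi), map_one])
        rwa [mul_inv_rev, inv_inv, hinv, mul_assoc, mul_inv_cancel_left] at h
      have hm1 := av_add (hav' 0 (by norm_num)) (hav' 1 (by norm_num))
      have hm2 := av_add hm1 (hav' 2 (by norm_num))
      have hm3 := av_add hm2 (hav' 3 (by norm_num))
      have h4 := mul_mem (key 0 (by norm_num) 1 (by norm_num)) (key 2 (by norm_num) 3 (by norm_num))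
      rw [← map_mul, ← sgn_xor hm1 (av_add (hav' 2 (by norm_num)) (hav' 3 (by norm_num))),
        ← Nat.xor_assoc] at h4
      obtain ⟨k, hk, hkw, hke⟩ := exists_sgn _ (inc_sgn hm3)
      refine hWS _ h4 ⟨_, ⟨k, hk, ?_, hke⟩, rfl⟩
      rw [pop, ← Leech.hammingNorm_bitWord, hkw, Leech.hammingNorm_bitWord, ← pop, pm_pair.2.2.1]
    have hn' := List.all_eq_true.1 pm_pair.2.1 n hn
    rw [Bool.and_eq_true, List.contains_iff_mem, beq_iff_eq] at hn'
    refine ⟨θ (sgn n), hmemS n hn'.1 hn'.2, θ (sgn Data.pm1), hmemS _ hp1 hp1w,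
      hcomm n hn'.1, fun w hw => hcomm _ hp1 w (hWA hw), ?_⟩
    rintro _ ⟨k, rfl⟩ hk w hw he
    have hc : Commute k (sgn Data.dm) :=
      hθ (by rw [map_mul, map_mul]; exact (hk _ hd).eq)
    obtain ⟨m, hm, hmp, hme⟩ := mono_conj_sgn (comm_dm_mono hc) hp1
    rw [← map_inv, ← map_mul, ← map_mul, hme] at he
    -- the conjugate has weight sixteen and keeps it when the dodecad word is added
    obtain ⟨q, hq, hqw, hqe⟩ := exists_sgn _ (inc_sgn (av_add (avMasks_spec _ hp1) av_dm))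
    obtain ⟨m', hm', hm'p, hm'e⟩ := mono_conj_sgn (comm_dm_mono hc) hq
    have hmd : sgn m' = sgn (m ^^^ Data.dm) := by
      rw [← hm'e, ← hqe, sgn_xor (avMasks_spec _ hp1) av_dm, sgn_xor (avMasks_spec m hm) av_dm,
        ← hme, show k * (sgn Data.pm1 * sgn Data.dm) * k⁻¹ =
          k * sgn Data.pm1 * k⁻¹ * (k * sgn Data.dm * k⁻¹) by group, hc.eq, mul_inv_cancel_right]
    have hw16 : pop (m ^^^ Data.dm) = 16 := by
      have hb : bitWord m' = bitWord (m ^^^ Data.dm) := by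
        have h2 := congrArg inc hmd
        rw [inc_sgn (avMasks_spec m' hm'), inc_sgn (av_add (avMasks_spec m hm) av_dm)] at h2
        exact CoOneUniq.Endgame.signCo0_inj h2
      rw [pop, ← Leech.hammingNorm_bitWord, ← hb, Leech.hammingNorm_bitWord, ← pop, hm'p, pop,
        ← Leech.hammingNorm_bitWord, hqw, Leech.hammingNorm_bitWord, ← pop, pm_pair.2.2.2]
    have h12 := List.all_eq_true.1 pm_pair.1 m hm
    simp only [hmp, hp1w, hw16, beq_self_eq_true, Bool.and_self, Bool.not_true, Bool.false_or,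
      Bool.or_eq_true, beq_iff_eq] at h12
    apply hnW
    have hinv : ∀ l, Av l → (θ (sgn l))⁻¹ = θ (sgn l) := fun l hl =>
      inv_eq_of_mul_eq_one_right (by rw [← map_mul, sgn_mul_self hl, map_one])
    have hnm : θ (sgn n) = θ (sgn m) * w⁻¹ := by rw [he, mul_inv_cancel_right]
    rw [hnm]
    rcases h12 with rfl | rfl
    · rw [inv_mul_cancel_left]; exact inv_mem hw
    · rw [base_facts.2.2.2.2, sgn_xor (avMasks_spec _ hp1) av_dm, map_mul, mul_assoc,
        inv_mul_cancel_left]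
      exact mul_mem hd (inv_mem hw)
  · intro a ha b hb
    obtain rfl | rfl := hzp a ha <;> obtain rfl | rfl := hzp b hb <;>
      first | exact Commute.one_left _ | exact Commute.one_right _ | exact Commute.refl _
  · rintro a ha ⟨x, ⟨n, hn, h, rfl⟩, he⟩
    rcases hzp a ha with rfl | rfl
    · have := (hSo n hn h).1
      rw [hθ (he.trans (map_one θ).symm), orderOf_one] at this
      omega
    · have h1 := tr_isConj (hSo n hn h).2
      rw [hθ he, tr_base.2.1, tr_z0] at h1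
      exact absurd h1 (by decide)
  · intro a ha
    rcases hzp a ha with rfl | rfl
    exacts [Commute.one_right _, hg]

include hθ hC hfus in
/-- An element moving the dodecad involution into the image lies in the image. -/
theorem mem_of_move_d {x : K2} (hx : orderOf x = 2) (ht : tr x = 0) {g : G}
    (hg : g * θ x * g⁻¹ ∈ θ.range) : g ∈ θ.range := by
  obtain ⟨y, hy⟩ := hg
  have hd : IsConj (sgn Data.dm) x := by
    rcases classes hx with ⟨e, -⟩ | ⟨-, h⟩ | ⟨e, -⟩
    · rw [ht] at e; exact absurd e (by decide)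
    · exact h
    · rw [ht] at e; exact absurd e (by decide)
  obtain ⟨p, hp⟩ := isConj_iff.1 hd
  have hyo : orderOf y = 2 := by
    rw [← orderOf_injective θ hθ, hy, Invol.orderOf_conj, orderOf_injective θ hθ, hx]
  rcases classes hyo with ⟨e, h⟩ | ⟨-, h⟩ | ⟨e, h⟩
  · -- not the marked class
    rw [sgn_zm] at h
    have h' : IsConj (θ x) (θ z0) :=
      (isConj_iff.2 ⟨g, hy.symm⟩).trans (θ.map_isConj h).symm
    have := tr_isConj (hfus x h')
    rw [ht, tr_z0] at this
    exact absurd this (by decide)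
  · obtain ⟨q, hq⟩ := isConj_iff.1 h
    rw [← hp, ← hq] at hy
    simp only [map_mul, map_inv] at hy
    have hm : (θ q)⁻¹ * g * θ p ∈ θ.range := by
      refine centralizer_dm_le θ hθ hC hfus ?_
      show _ * _ = _ * _
      calc (θ q)⁻¹ * g * θ p * θ (sgn Data.dm)
          = (θ q)⁻¹ * (g * (θ p * θ (sgn Data.dm) * (θ p)⁻¹) * g⁻¹) * g * θ p := by group
        _ = (θ q)⁻¹ * (θ q * θ (sgn Data.dm) * (θ q)⁻¹) * g * θ p := by rw [← hy]
        _ = θ (sgn Data.dm) * ((θ q)⁻¹ * g * θ p) := by group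
    have := mul_mem (mul_mem (⟨q, rfl⟩ : θ q ∈ θ.range) hm) (inv_mem (⟨p, rfl⟩ : θ p ∈ θ.range))
    simpa [mul_assoc] using this
  · -- not the octad class: its centraliser is too large
    exfalso
    have hc : IsConj (θ (sgn Data.bm)) (θ (sgn Data.dm)) :=
      ((θ.map_isConj h).trans (isConj_iff.2 ⟨g⁻¹, by rw [hy]; group⟩)).trans (θ.map_isConj hd).symm
    obtain ⟨k, hk⟩ := isConj_iff.1 hc
    have hmap : ∀ u : ↥(monoK ⊓ Subgroup.centralizer {sgn Data.bm}),
        ∃ u' : ↥(monoK ⊓ Subgroup.centralizer {sgn Data.dm}), θ u'.1 = k * θ u.1 * k⁻¹ := by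
      intro u
      have hu : Commute (θ u.1) (θ (sgn Data.bm)) :=
        (show Commute u.1 (sgn Data.bm) from Subgroup.mem_centralizer_singleton_iff.1 u.2.2).map θ
      have hc' : Commute (k * θ u.1 * k⁻¹) (θ (sgn Data.dm)) := by
        show _ * _ = _ * _
        rw [← hk]
        calc k * θ u.1 * k⁻¹ * (k * θ (sgn Data.bm) * k⁻¹)
            = k * (θ u.1 * θ (sgn Data.bm)) * k⁻¹ := by group
          _ = k * (θ (sgn Data.bm) * θ u.1) * k⁻¹ := by rw [hu.eq]
          _ = _ := by group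
      obtain ⟨v, hv⟩ := centralizer_dm_le θ hθ hC hfus hc'
      have hvc : Commute v (sgn Data.dm) := hθ (by rw [map_mul, map_mul, hv]; exact hc'.eq)
      exact ⟨⟨v, comm_dm_mono hvc, Subgroup.mem_centralizer_singleton_iff.2 hvc.eq⟩, hv⟩
    choose f hf using hmap
    refine absurd card_cent_lt (not_lt.2 (Nat.card_le_card_of_injective f fun u v e => ?_))
    have h1 := hf u
    rw [e, hf v] at h1
    exact Subtype.ext (hθ (mul_left_cancel (mul_right_cancel h1))).symm

end Cfsg.Agent.CoTwoUniq
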