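import Cfsg.Agent.CoTwoUniq.MonoGroup
import Cfsg.Agent.CoTwoUniq.Enum.Letters
import Cfsg.Agent.DCoset.PermModel
import Cfsg.Agent.CoOneUniq.Model

/-!
# The monomial group as permutations of the cosets of the coordinate permutations

The cosets are numbered by the ten coordinates of the coded sign changes; a letter is checked
against its permutation on masks.
-/

set_option autoImplicit false
set_option maxRecDepth 100000

open Cfsg

namespace Cfsg.Agent.CoTwoUniq

open Cfsg.Agent.Leech (LGen monGen bitWord ptOf idx)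
open Cfsg.Agent.CoOneUniq (allLt allLt_spec)
open Cfsg.Agent.CosetCert Cfsg.Agent.DCoset

/-- The mask of a coded vector. -/
def wordM (v : ℕ) : ℕ :=
  (List.range 10).foldr (fun k m => m ^^^ (if v.testBit k then Enum.wordTab.getD k 0 else 0)) 0

theorem wordTab_av : ∀ k : Fin 10, Av (Enum.wordTab.getD k.val 0) := by decide +kernel

theorem av_zero : Av 0 := by decide +kernel

theorem wordM_av (v : ℕ) : Av (wordM v) := by
  rw [wordM]
  suffices ∀ l : List ℕ, (∀ k ∈ l, k < 10) → Av (l.foldr
      (fun k m => m ^^^ (if v.testBit k then Enum.wordTab.getD k 0 else 0)) 0) from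
    this _ fun k hk => List.mem_range.1 hk
  intro l hl
  induction l with
  | nil => exact av_zero
  | cons k l ih =>
    rw [List.foldr_cons]
    refine av_add (ih fun j hj => hl j (List.mem_cons_of_mem _ hj)) ?_
    split_ifs
    · exact wordTab_av ⟨k, hl k List.mem_cons_self⟩
    · exact av_zero

theorem keys_nodup :
    Leech.Model.noRep 0 ((List.range 1024).map fun v => wordM v % 4096) = true := by decide +kernel

theorem keys_cover : (avMasks.all fun n =>
    (keySet ((List.range 1024).map wordM)).testBit (n % 4096)) = true := by decide +kernel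

/-- The coordinate permutations inside the monomial group. -/
abbrev PN : Subgroup ↥N1 := P1.subgroupOf N1

/-- The coded sign change in the monomial group. -/
noncomputable def vEl (v : ℕ) : ↥N1 := ⟨sgn (wordM v), sgn_mem_N1 (wordM_av v)⟩

/-- The coset of a coordinate vector. -/
noncomputable def cosetV (v : Fin 1024) : ↥N1 ⧸ PN := QuotientGroup.mk (vEl v.val)

theorem cosetV_injective : Function.Injective cosetV := by
  intro v w h
  rw [cosetV, cosetV, QuotientGroup.eq, Subgroup.mem_subgroupOf] at h
  change (sgn (wordM v.val))⁻¹ * sgn (wordM w.val) ∈ P1 at h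
  rw [inv_eq_of_mul_eq_one_right (sgn_mul_self (wordM_av v.val)),
    ← sgn_xor (wordM_av v.val) (wordM_av w.val)] at h
  have h0 := sgn_mem_P1 (av_add (wordM_av v.val) (wordM_av w.val)) h
  rw [show (4096 : ℕ) = 2 ^ 12 from rfl, Nat.xor_mod_two_pow] at h0
  have h' : wordM v.val % 2 ^ 12 = wordM w.val % 2 ^ 12 := Nat.xor_eq_zero_iff.1 h0
  refine Fin.ext ?_
  exact List.inj_on_of_nodup_map (Leech.Model.noRep_spec _ 0 keys_nodup).1
    (List.mem_range.2 v.2) (List.mem_range.2 w.2) h'

theorem cosetV_surjective : Function.Surjective cosetV := by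
  intro x
  induction x using QuotientGroup.induction_on with
  | _ y =>
    obtain ⟨n, hn, σ, hy⟩ := mem_N1_iff.1 y.2
    obtain ⟨m, hm, e⟩ := testBit_keySet (List.all_eq_true.1 keys_cover n hn)
    obtain ⟨v, hv, rfl⟩ := List.mem_map.1 hm
    refine ⟨⟨v, List.mem_range.1 hv⟩, ?_⟩
    rw [cosetV, QuotientGroup.eq, Subgroup.mem_subgroupOf]
    show (sgn (wordM v))⁻¹ * (y : K2) ∈ P1
    rw [sgn_eq_of_mod (wordM_av v) (avMasks_spec n hn) e, hy, inv_mul_cancel_left]
    exact P1_eq ▸ ⟨σ, rfl⟩

theorem coset_bijective : Function.Bijective cosetV := ⟨cosetV_injective, cosetV_surjective⟩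

theorem card_N1_le : Nat.card ↥N1 ≤ 908328960 := by
  rw [Subgroup.card_eq_card_quotient_mul_card_subgroup PN,
    Nat.card_congr (Equiv.ofBijective _ coset_bijective).symm, Nat.card_fin,
    Nat.card_congr (Subgroup.subgroupOfEquivOfLe (show P1 ≤ N1 from le_sup_right)).toEquiv]
  exact le_trans (Nat.mul_le_mul_left _ card_P1_le) (by norm_num)

/-- The action on the coordinate vectors. -/
noncomputable def rho : ↥N1 →* Equiv.Perm (Fin 1024) :=
  (Equiv.ofBijective _ coset_bijective).symm.permCongrHom.toMonoidHom.comp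
    (MulAction.toPermHom ↥N1 (↥N1 ⧸ PN))

theorem cosetV_rho (x : ↥N1) (v : Fin 1024) : cosetV (rho x v) = x • cosetV v := by
  show cosetV ((Equiv.ofBijective _ coset_bijective).symm
    (x • (Equiv.ofBijective _ coset_bijective) v)) = _
  exact (Equiv.ofBijective _ coset_bijective).apply_symm_apply _

/-- The identity as monomial data. -/
def idData : List ℕ × List ℕ × ℕ := (List.range 24, List.range 24, 0)

/-- The preimages of a letter. -/
def letP (g : ℕ) : List ℕ := (Enum.letterData.getD g idData).1

/-- The images of a letter. -/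
def letQ (g : ℕ) : List ℕ := (Enum.letterData.getD g idData).2.1

/-- The signs of a letter. -/
def letM (g : ℕ) : ℕ := (Enum.letterData.getD g idData).2.2

/-- Checks for a letter. -/
def LetOK (d : List ℕ × List ℕ × ℕ) : Prop :=
  PermOK d.1 d.2.1 ∧ (∀ i < 24, d.1.getD i 0 < 24) ∧ Av d.2.2

instance : DecidablePred LetOK := fun d => by unfold LetOK; infer_instance

theorem letters_ok_data (g : ℕ) : LetOK (Enum.letterData.getD g idData) := by
  by_cases h : g < Enum.letterData.length
  · have key : ∀ j : Fin Enum.letterData.length, LetOK (Enum.letterData.getD j.val idData) := by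
      decide +kernel
    exact key ⟨g, h⟩
  · rw [List.getD_eq_default _ _ (not_lt.1 h)]
    decide +kernel

/-- Every letter passes the checks. -/
theorem letters_ok (g : ℕ) :
    PermOK (letP g) (letQ g) ∧ (∀ i < 24, (letP g).getD i 0 < 24) ∧ Av (letM g) :=
  letters_ok_data g

theorem perm_pm_mem_N1 {P Q : List ℕ} (h : PermOK P Q) : pm h ∈ N1 :=
  Subgroup.mem_sup_right (Subgroup.subset_closure
    ⟨perm h, perm_mem h, congrArg Subtype.val (inc_mk _ (permCo0_fix (perm_mem h) h.2.2.2))⟩)

/-- The letter in the monomial group. -/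
noncomputable def letEl (g : ℕ) : ↥N1 :=
  ⟨pm (letters_ok g).1 * sgn (letM g),
    mul_mem (perm_pm_mem_N1 (letters_ok g).1) (sgn_mem_N1 (letters_ok g).2.2)⟩

/-- The letter with its action on coordinate lists. -/
def letG (g : ℕ) : LGen :=
  monGen (letP g) (letQ g) (letM g) (letters_ok g).1.1 (letters_ok g).1.2.1 (letters_ok g).2.1
    (fun i => (letters_ok g).1.2.2.1 i) (letters_ok g).2.2.1

theorem inc_letEl (g : ℕ) : inc (letEl g : K2) = (letG g).g := by
  show inc (pm (letters_ok g).1 * sgn (letM g)) = _
  rw [map_mul, inc_sgn (letters_ok g).2.2]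
  rfl

/-- The letter sends the vector `v` to the vector `p`, compared in the first twelve bits. -/
noncomputable def stepB (g v p : ℕ) : Bool :=
  force (letM g ^^^ wordM v) fun x => force (wordM p) fun y =>
    allLt 12 fun i => x.testBit ((letP g).getD i 0) == y.testBit i

theorem stepB_spec {g v p : ℕ} (h : stepB g v p = true) :
    (letEl g : K2) * sgn (wordM v) = sgn (wordM p) * pm (letters_ok g).1 := by
  show pm (letters_ok g).1 * sgn (letM g) * _ = _
  simp only [stepB, force_eq] at h
  have hav := av_add (letters_ok g).2.2 (wordM_av v)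
  have hav' := av_pmask (letters_ok g).1 (letters_ok g).2.1 hav
  have hmod : pmask (letP g) (letM g ^^^ wordM v) % 4096 = wordM p % 4096 := by
    refine Nat.eq_of_testBit_eq fun i => ?_
    simp only [show (4096 : ℕ) = 2 ^ 12 from rfl, Nat.testBit_mod_two_pow]
    by_cases hi : i < 12
    · rw [testBit_pmask _ _ (by omega), beq_iff_eq.1 (allLt_spec h i hi)]
    · simp [hi]
  rw [mul_assoc, ← sgn_xor (letters_ok g).2.2 (wordM_av v), ← mul_inv_eq_iff_eq_mul,
    conj_pm (letters_ok g).1 (letters_ok g).2.1 hav hav']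
  exact sgn_eq_of_mod hav' (wordM_av p) hmod

/-- The table entries of one letter. -/
noncomputable def actOKRow (T : Tab) (g : ℕ) : Bool :=
  allLt 1024 fun p => force (T.act g p) fun v => Nat.blt v 1024 && stepB g v p

theorem act_eq_of {T : Tab} {g : ℕ} (h : actOKRow T g = true) (p : Fin 1024) :
    T.act g p.val = ((rho (letEl g))⁻¹ p).val := by
  have h' := allLt_spec h p.val p.isLt
  simp only [force_eq, Bool.and_eq_true, Nat.blt_eq] at h'
  have hσ := stepB_spec h'.2
  have e : rho (letEl g) ⟨T.act g p.val, h'.1⟩ = p := by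
    apply coset_bijective.1
    rw [cosetV_rho]
    show (QuotientGroup.mk (letEl g * vEl _) : ↥N1 ⧸ PN) = QuotientGroup.mk _
    rw [QuotientGroup.eq, Subgroup.mem_subgroupOf]
    show ((letEl g : K2) * sgn (wordM (T.act g p.val)))⁻¹ * sgn (wordM p.val) ∈ P1
    rw [hσ, mul_inv_rev, inv_mul_cancel_right]
    exact inv_mem (Subgroup.subset_closure ⟨perm (letters_ok g).1, perm_mem (letters_ok g).1,
      congrArg Subtype.val (inc_mk _ (permCo0_fix (perm_mem (letters_ok g).1)
        (letters_ok g).1.2.2.2))⟩)
  conv_rhs => rw [← e]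
  rw [Equiv.Perm.inv_def, Equiv.symm_apply_apply]

/-- The base points of a table. -/
noncomputable def basePt (T : Tab) (l : ℕ) : Fin 1024 := Fin.ofNat 1024 (fld T.base l)

/-- Checked letters give an action. -/
theorem acts_of {T : Tab} (hact : ∀ g, g < T.nL → actOKRow T g = true)
    (hlt : ∀ g p, T.act g p < 65536) (hb : T.base = pk16 T.k fun l => (basePt T l).val) :
    Acts rho T letEl (basePt T) :=
  ⟨by norm_num, fun g hg p => act_eq_of (hact g hg) p, hlt, hb⟩

end Cfsg.Agent.CoTwoUniq
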