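import Cfsg.Agent.CoTwoUniq.Cent.Model
import Cfsg.Agent.CoTwoUniq.Mono.Perm
import Cfsg.Agent.CoTwoType.Build
import Cfsg.Agent.Co2Out.Model

/-!
The model satisfies the hypotheses of its recognition theorem.
-/

set_option autoImplicit false
set_option maxRecDepth 100000

open Cfsg Matrix
open scoped commutatorElement

namespace Cfsg.Agent.CoTwoUniq.ModelType

open Cfsg.Agent.Co3Rec (Sp)
open Cfsg.Agent.SympMult.SpSix (decode)

theorem ap_one (x : ℕ) (hx : x < 64) : Cent.ap (1 : Sp) x = x :=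
  Cent.ap_eq hx (Matrix.one_mulVec _)

/-- A sign change fixing every pair lies in the core. -/
theorem mem_pCore {n : ℕ} (h : Av n) (ha : Cent.MaskActs n id) :
    (⟨sgn n, Cent.sgn_mem_C1 h⟩ : ↥C1) ∈ pCore 2 ↥C1 := by
  rw [← Cent.lam_ker, MonoidHom.mem_ker]
  exact Cent.lam_sgn h ap_one ha

theorem acts_ok : Cent.MaskActs Data.zm id ∧ Cent.MaskActs 21116 id ∧
    Cent.MaskActs (pmask Mono.Data.pA 21116) id := by
  unfold Cent.MaskActs
  decide +kernel

theorem mask_ok : 21116 ∈ avMasks ∧ pmask Mono.Data.pA Data.zm = Data.zm ∧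
    (pmask Mono.Data.pA 21116 ^^^ 21116 != 0) = true ∧
    (pmask Mono.Data.pA 21116 ^^^ 21116 != Data.zm) = true := by
  refine ⟨List.contains_iff_mem.1 (by decide +kernel), by decide +kernel, by decide +kernel, by decide +kernel⟩

theorem z0_mem_pCore :
    (⟨z0, Subgroup.mem_centralizer_singleton_iff.mpr rfl⟩ : ↥C1) ∈ pCore 2 ↥C1 := by
  have h := mem_pCore av_zm acts_ok.1
  rwa [show (⟨sgn Data.zm, Cent.sgn_mem_C1 av_zm⟩ : ↥C1) =
    ⟨z0, Subgroup.mem_centralizer_singleton_iff.mpr rfl⟩ from Subtype.ext sgn_zm] at h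

theorem orderOf_z0' : orderOf (z0 : K2) = 2 := by
  have h := orderOf_sgn Mono.zm_av (by decide +kernel)
  rwa [sgn_zm] at h

theorem z0_ne : (z0 : K2) ≠ 1 := fun e => by
  have h := orderOf_z0'
  rw [e, orderOf_one] at h
  exact absurd h (by norm_num)

/-- The core of the centraliser contains its centraliser. -/
theorem selfCentral : Layer.PCoreSelfCentral 2 ↥C1 := by
  have := Leech.finite_co0
  have hes : IsExtraspecial 2 ↥(pCore 2 ↥C1) := LargeExtra.extraspecial_congr (((S2136.centEquiv.subgroupMap _).trans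
      (MulEquiv.subgroupCongr ((Core.map_pCore S2136.centEquiv).trans Leech.CentTwo.pCore_CT))).symm)
      Leech.CentTwo.isExtraspecial_ker
  have hN : ((Subgroup.centralizer (pCore 2 ↥C1 : Set ↥C1)).map Cent.lam).Normal :=
    Subgroup.Normal.map inferInstance Cent.lam Cent.lam_surjective
  have hsimp : IsSimpleGroup Sp := Leech.CentTwo.simple_Sp
  rcases hsimp.eq_bot_or_eq_top_of_normal _ hN with h | h
  · show Subgroup.centralizer (pCore 2 ↥C1 : Set ↥C1) ≤ pCore 2 ↥C1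
    intro x hx
    rw [← Cent.lam_ker, MonoidHom.mem_ker]
    exact Subgroup.mem_bot.1 (h ▸ Subgroup.mem_map_of_mem _ hx)
  · exfalso
    obtain ⟨hn, hfix, hd0, hdz⟩ := mask_ok
    have hσ : Mono.mv (Mono.gen 0) Data.zm = Data.zm := (Mono.mv_gen 0 Mono.zm_av).trans hfix
    obtain ⟨hm, -, hm'⟩ := Mono.mv_spec (Mono.gen 0) hn
    have hme : Mono.mv (Mono.gen 0) 21116 = pmask Mono.Data.pA 21116 := Mono.mv_gen 0 hn
    rw [hme] at hm hm'
    have hgC : Mono.pHom (Mono.gen 0) ∈ C1 := by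
      have e := (Mono.mv_spec (Mono.gen 0) Mono.zm_av).2.2
      rw [hσ, sgn_zm, mul_inv_eq_iff_eq_mul] at e
      exact Subgroup.mem_centralizer_singleton_iff.2 e
    obtain ⟨c, hc, hce⟩ := (h ▸ Subgroup.mem_top (Cent.lam ⟨_, hgC⟩) :
      Cent.lam ⟨_, hgC⟩ ∈ (Subgroup.centralizer (pCore 2 ↥C1 : Set ↥C1)).map Cent.lam)
    set s : ↥C1 := ⟨sgn 21116, Cent.sgn_mem_C1 (avMasks_spec _ hn)⟩
    set t : ↥C1 := ⟨sgn (pmask Mono.Data.pA 21116), Cent.sgn_mem_C1 (avMasks_spec _ hm)⟩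
    set q : ↥C1 := c⁻¹ * ⟨_, hgC⟩
    have hs : s ∈ pCore 2 ↥C1 := mem_pCore (avMasks_spec _ hn) acts_ok.2.1
    have ht : t ∈ pCore 2 ↥C1 := mem_pCore (avMasks_spec _ hm) acts_ok.2.2
    have hq : q ∈ pCore 2 ↥C1 := by
      rw [← Cent.lam_ker, MonoidHom.mem_ker, map_mul, map_inv, hce, inv_mul_cancel]
    have hqs : q * s * q⁻¹ = t := by
      have hgs : (⟨_, hgC⟩ : ↥C1) * s * (⟨_, hgC⟩ : ↥C1)⁻¹ = t := Subtype.ext hm'
      have hct : t * c = c * t := Subgroup.mem_centralizer_iff.1 hc t ht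
      calc q * s * q⁻¹ = c⁻¹ * ((⟨_, hgC⟩ : ↥C1) * s * (⟨_, hgC⟩ : ↥C1)⁻¹) * c := by
            simp only [q]; group
        _ = c⁻¹ * (t * c) := by rw [hgs, mul_assoc]
        _ = t := by rw [hct, inv_mul_cancel_left]
    set d : ↥(pCore 2 ↥C1) := ⟨t, ht⟩ * (⟨s, hs⟩ : ↥(pCore 2 ↥C1))⁻¹
    have hdc : d ∈ Subgroup.center ↥(pCore 2 ↥C1) := by
      rw [← hes.1.2.2]
      have : d = ⁅(⟨q, hq⟩ : ↥(pCore 2 ↥C1)), ⟨s, hs⟩⁆ := Subtype.ext (by
        show t * s⁻¹ = q * s * q⁻¹ * s⁻¹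
        rw [hqs])
      rw [this]
      exact Subgroup.commutator_mem_commutator (Subgroup.mem_top _) (Subgroup.mem_top _)
    have hzc : (⟨_, z0_mem_pCore⟩ : ↥(pCore 2 ↥C1)) ∈ Subgroup.center ↥(pCore 2 ↥C1) :=
      Subgroup.mem_center_iff.2 fun x => Subtype.ext (Subtype.ext
        (Subgroup.mem_centralizer_singleton_iff.1 x.1.2))
    obtain ⟨w, -, hw⟩ := (Nat.card_eq_two_iff' (1 : ↥(Subgroup.center ↥(pCore 2 ↥C1)))).1 hes.2
    have hz1 : (⟨_, hzc⟩ : ↥(Subgroup.center ↥(pCore 2 ↥C1))) ≠ 1 := fun e => z0_ne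
      (congrArg (fun x => x.1.1.1) e)
    have hd1 : (⟨_, hdc⟩ : ↥(Subgroup.center ↥(pCore 2 ↥C1))) ≠ 1 := fun e => by
      have e' : sgn (pmask Mono.Data.pA 21116) * (sgn 21116)⁻¹ = 1 := congrArg (fun x => x.1.1.1) e
      have := Mono.sgn_inj hm hn (mul_inv_eq_one.1 e')
      rw [this, Nat.xor_self] at hd0
      exact absurd hd0 (by decide)
    have e := congrArg (fun x => x.1.1.1) ((hw _ hd1).trans (hw _ hz1).symm)
    change sgn (pmask Mono.Data.pA 21116) * (sgn 21116)⁻¹ = z0 at e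
    rw [inv_eq_of_mul_eq_one_right (sgn_mul_self (avMasks_spec _ hn)),
      ← sgn_xor (avMasks_spec _ hm) (avMasks_spec _ hn)] at e
    have := Mono.sgn_inj (Mono.xor_av hm hn) Mono.zm_av (e.trans sgn_zm.symm)
    rw [this] at hdz
    simp at hdz

/-- The model has the centraliser structure. -/
theorem exists_coT_model : Nonempty (CoTwoType.CoT z0) := by
  have := Leech.finite_co0
  have : Fact (Nat.Prime 2) := ⟨Nat.prime_two⟩
  have hord : orderOf z0 = 2 := orderOf_z0'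
  have hsimple : IsSimpleGroup ↥Spor.Co2 := inferInstance
  have hO : oddCore ↥Spor.Co2 = ⊥ := by
    refine (Subgroup.Normal.eq_bot_or_eq_top inferInstance).resolve_right fun e => ?_
    have hc := Core.coprime_card_pPrimeCore (p := 2) (G := ↥Spor.Co2)
    rw [show pPrimeCore 2 ↥Spor.Co2 = ⊤ from e, Subgroup.card_top] at hc
    have h2 : orderOf z0 ∣ Nat.card ↥Spor.Co2 := orderOf_dvd_natCard z0
    rw [hord] at h2
    exact absurd (Nat.dvd_gcd h2 (dvd_refl 2)) (by rw [hc.gcd_eq_one]; norm_num)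
  have hZ : Subgroup.center ↥Spor.Co2 = ⊥ := by
    refine (Subgroup.Normal.eq_bot_or_eq_top inferInstance).resolve_right fun e => ?_
    have hn := mask_ok.1
    have hc : Commute (Mono.pHom (Mono.gen 0)) (sgn 21116) :=
      Subgroup.mem_center_iff.1 (e ▸ Subgroup.mem_top (sgn 21116)) _
    have h := Mono.mv_unique (Mono.gen 0) hn hn (mul_inv_eq_iff_eq_mul.2 hc.eq)
    rw [Mono.mv_gen 0 hn, show Mono.genP 0 = Mono.Data.pA from rfl] at h
    have h0 := mask_ok.2.2.1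
    rw [h, Nat.xor_self] at h0
    simp at h0
  obtain ⟨q⟩ := Leech.CentTwo.quot_iso
  have hmap : (pCore 2 ↥C1).map S2136.centEquiv.toMonoidHom = Leech.CentTwo.act.ker :=
    (Core.map_pCore S2136.centEquiv).trans Leech.CentTwo.pCore_CT
  let e' := (S2136.centEquiv.subgroupMap (pCore 2 ↥C1)).trans (MulEquiv.subgroupCongr hmap)
  have hcon : IsPConstrained 2 ↥C1 := by
    rw [Layer.isPConstrained_iff_selfCentral]
    exact Layer.pCoreSelfCentral_congr ((QuotientGroup.quotientMulEquivOfEq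
      (Layer.pPrimeCore_eq_bot_of_selfCentral selfCentral)).trans QuotientGroup.quotientBot).symm selfCentral
  exact CoTwoType.exists_coT hO hZ z0 hord hcon
    (LargeExtra.extraspecial_congr e'.symm Leech.CentTwo.isExtraspecial_ker)
    (by rw [Nat.card_congr e'.toEquiv, Leech.CentTwo.counts.1]; norm_num)
    ((QuotientGroup.congr _ _ S2136.centEquiv hmap).trans q)

end Cfsg.Agent.CoTwoUniq.ModelType
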