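import Cfsg.Agent.CoTwoUniq.Orbits
import Cfsg.Agent.Compute.M22Outer

/-!
# The monomial group of the second Conway group as sign changes times coordinate permutations

An element of the monomial group is a sign change by a word vanishing on the marked pair times a
permutation of the code preserving the pair.  This bounds the order of the group.
-/

set_option autoImplicit false

open Cfsg

namespace Cfsg.Agent.CoTwoUniq

open Cfsg.Agent.Leech (bitWord signCo0 permCo0)
open scoped Pointwise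

/-- The marked pair. -/
def uPair : Finset GolayPt := {none, some 0}

/-- The code automorphisms preserving the marked pair. -/
def pairStab : Subgroup (Equiv.Perm GolayPt) :=
  Cfsg.M24 ⊓ MulAction.stabilizer (Equiv.Perm GolayPt) ({none, some 0} : Finset GolayPt)

theorem pairStab_mem_m24 {σ : Equiv.Perm GolayPt} (h : σ ∈ pairStab) : σ ∈ Cfsg.M24 := h.1

theorem mem_uPair {p : GolayPt} : p ∈ uPair ↔ p = none ∨ p = some 0 := by simp [uPair]

theorem pairStab_inv_iff {σ : Equiv.Perm GolayPt} (h : σ ∈ pairStab) (p : GolayPt) :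
    σ⁻¹ p ∈ uPair ↔ p ∈ uPair := by
  have e : σ • uPair = uPair := h.2
  conv_rhs => rw [← e, ← Finset.inv_smul_mem_iff]
  rfl

theorem pairStab_fix {σ : Equiv.Perm GolayPt} (h : σ ∈ pairStab) :
    permCo0 σ h.1 • Spor.leechU = Spor.leechU :=
  permCo0_fix h.1 fun p h1 h2 => by
    have := (pairStab_inv_iff h p).not.2 (by rw [mem_uPair, not_or]; exact ⟨h1, h2⟩)
    rwa [mem_uPair, not_or] at this

/-- The coordinate permutations in the group. -/
noncomputable def pHom : ↥pairStab →* K2 :=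
  MonoidHom.mk' (fun σ : ↥pairStab => mk (permCo0 σ.1 σ.2.1) (pairStab_fix (σ := σ.1) σ.2)) fun a b => inc_injective (by
    rw [map_mul, inc_mk, inc_mk, inc_mk]
    refine Leech.ext_of_oct fun i => Subtype.ext (funext fun q => ?_)
    rw [mul_smul, Leech.permCo0_apply, Leech.permCo0_apply, Leech.permCo0_apply]
    simp [mul_inv_rev])

theorem inc_pHom (σ : ↥pairStab) : inc (pHom σ) = permCo0 σ.1 σ.2.1 :=
  inc_mk (permCo0 σ.1 σ.2.1) (pairStab_fix σ.2)

theorem P1_eq : P1 = pHom.range := by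
  refine le_antisymm ((Subgroup.closure_le _).2 ?_) ?_
  · rintro x ⟨σ, hσ, hx⟩
    have hi : inc x = permCo0 σ hσ := Subtype.ext hx
    have hu := inc_fix x
    rw [hi] at hu
    have key : ∀ p, σ⁻¹ p ∈ uPair ↔ p ∈ uPair := fun p => by
      have h1 := congrFun (congrArg Subtype.val hu) p
      rw [Leech.permCo0_apply] at h1
      change Spor.vecU (σ⁻¹ p) = Spor.vecU p at h1
      have h4 : ∀ q, Spor.vecU q = 4 ↔ q ∈ uPair := by decide +kernel
      rw [← h4, ← h4, h1]
    have hmem : σ ∈ pairStab := ⟨hσ, Finset.ext fun p => by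
      rw [← Finset.inv_smul_mem_iff]
      exact key p⟩
    exact ⟨⟨σ, hmem⟩, inc_injective ((inc_pHom _).trans hi.symm)⟩
  · rintro x ⟨σ, rfl⟩
    exact Subgroup.subset_closure ⟨σ.1, σ.2.1, congrArg Subtype.val (inc_pHom σ)⟩

theorem pHom_mem (σ : ↥pairStab) : pHom σ ∈ N1 :=
  Subgroup.mem_sup_right (P1_eq ▸ ⟨σ, rfl⟩)

theorem sgn_mem_N1 {n : ℕ} (h : Av n) : sgn n ∈ N1 :=
  Subgroup.mem_sup_left (Subgroup.subset_closure ⟨_, av_mem h, congrArg Subtype.val (inc_sgn h)⟩)

/-- The sign changes seen through a coordinate permutation. -/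
theorem perm_conj_sgn (σ : ↥pairStab) {n : ℕ} (hn : n ∈ avMasks) :
    ∃ m ∈ avMasks, pHom σ * sgn n = sgn m * pHom σ := by
  have h : inc (pHom σ * sgn n * (pHom σ)⁻¹) = signCo0 (fun p => bitWord n (σ.1⁻¹ p))
      (Leech.comp_mem_of_M24 (inv_mem σ.2.1) (av_mem (avMasks_spec n hn))) := by
    rw [map_mul, map_mul, map_inv, inc_pHom, inc_sgn (avMasks_spec n hn), Leech.conj_perm_sign]
  obtain ⟨m, hm, -, hme⟩ := exists_sgn _ h
  exact ⟨m, hm, mul_inv_eq_iff_eq_mul.1 hme⟩

theorem sgn_mul_avMasks {m n : ℕ} (hm : m ∈ avMasks) (hn : n ∈ avMasks) :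
    ∃ k ∈ avMasks, sgn m * sgn n = sgn k := by
  have hA := av_add (avMasks_spec m hm) (avMasks_spec n hn)
  have h : inc (sgn m * sgn n) = signCo0 (bitWord (m ^^^ n)) (av_mem hA) := by
    rw [← sgn_xor (avMasks_spec m hm) (avMasks_spec n hn), inc_sgn hA]
  obtain ⟨k, hk, -, hke⟩ := exists_sgn (sgn m * sgn n) h
  exact ⟨k, hk, hke⟩

theorem zero_mem_avMasks : 0 ∈ avMasks := by decide +kernel

/-- A product of a sign change and a coordinate permutation. -/
def MonoProd (x : K2) : Prop := ∃ n, n ∈ avMasks ∧ ∃ σ, x = sgn n * pHom σ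

theorem monoProd_mk {n : ℕ} (hn : n ∈ avMasks) (σ : ↥pairStab) : MonoProd (sgn n * pHom σ) :=
  Exists.intro n ⟨hn, σ, rfl⟩

theorem monoProd_one : MonoProd 1 := by
  have h := monoProd_mk zero_mem_avMasks 1
  rwa [sgn_zero, map_one, one_mul] at h

theorem monoProd_mul {a b : K2} (ha : MonoProd a) (hb : MonoProd b) : MonoProd (a * b) := by
  obtain ⟨m, hm, σ, ea⟩ := ha
  obtain ⟨n, hn, τ, eb⟩ := hb
  obtain ⟨n', hn', e⟩ := perm_conj_sgn σ hn
  obtain ⟨k, hk, ek⟩ := sgn_mul_avMasks hm hn'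
  have h := monoProd_mk hk (σ * τ)
  rw [map_mul, ← ek] at h
  rw [ea, eb, show sgn m * pHom σ * (sgn n * pHom τ) =
    sgn m * (pHom σ * sgn n) * pHom τ by group, e]
  simpa only [mul_assoc] using h

theorem monoProd_inv {a : K2} (ha : MonoProd a) : MonoProd a⁻¹ := by
  obtain ⟨n, hn, σ, ea⟩ := ha
  obtain ⟨m, hm, e⟩ := perm_conj_sgn σ⁻¹ hn
  have h := monoProd_mk hm σ⁻¹
  rw [← e, map_inv] at h
  rw [ea, mul_inv_rev, inv_eq_of_mul_eq_one_right (sgn_mul_self (avMasks_spec n hn))]
  exact h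

/-- The products form a subgroup. -/
noncomputable def monoProdGroup : Subgroup K2 where
  carrier := {x | MonoProd x}
  one_mem' := monoProd_one
  mul_mem' := monoProd_mul
  inv_mem' := monoProd_inv

theorem monoProd_sign {x : K2} {c : Word} {hc : c ∈ golayCode} (h : inc x = signCo0 c hc) :
    MonoProd x := by
  obtain ⟨n, hn, -, e⟩ := exists_sgn x h
  have h' := monoProd_mk hn 1
  rwa [map_one, mul_one, ← e] at h'

theorem E1_le : E1 ≤ monoProdGroup := by
  refine (Subgroup.closure_le _).2 fun x hx => ?_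
  obtain ⟨c, hc, e⟩ := hx
  exact monoProd_sign (hc := hc) (Subtype.ext e)

theorem P1_le : P1 ≤ monoProdGroup := by
  rw [P1_eq]
  intro x hx
  obtain ⟨σ, e⟩ := hx
  have h := monoProd_mk zero_mem_avMasks σ
  rw [sgn_zero, one_mul, e] at h
  exact h

/-- The elements of the monomial group are products. -/
theorem mem_N1_iff {x : K2} : x ∈ N1 ↔ MonoProd x := by
  refine ⟨fun h => (sup_le E1_le P1_le) h, fun h => ?_⟩
  obtain ⟨n, hn, σ, e⟩ := h
  rw [e]
  exact mul_mem (sgn_mem_N1 (avMasks_spec n hn)) (pHom_mem σ)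

theorem oct_apply (i q : GolayPt) :
    (Leech.oct i : GolayPt → ℤ) q = if q = i then 8 else 0 := by
  show (Pi.single i 8 : GolayPt → ℤ) q = _
  rw [Pi.single_apply]

/-- Only the trivial sign change is a coordinate permutation. -/
theorem sgn_mem_P1 {n : ℕ} (hn : Av n) (h : sgn n ∈ P1) : n % 4096 = 0 := by
  rw [P1_eq] at h
  obtain ⟨σ, hσ⟩ := h
  have e := congrArg inc hσ
  rw [inc_pHom, inc_sgn hn] at e
  refine Nat.eq_of_testBit_eq fun i => ?_
  simp only [show (4096 : ℕ) = 2 ^ 12 from rfl, Nat.testBit_mod_two_pow, Nat.zero_testBit]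
  by_cases hi : i < 12
  · have h3 := congrFun (congrArg Subtype.val
      (congrArg (fun g : ↥Co0 => g • Leech.oct (Leech.ptOf i)) e)) (Leech.ptOf i)
    simp only [Leech.signCo0_apply, Leech.permCo0_apply, Leech.negOn, oct_apply, if_pos,
      Leech.bitWord, Leech.idx_ptOf i (by omega)] at h3
    cases hb : n.testBit i
    · simp
    · simp [hb] at h3
      split_ifs at h3
  · simp [hi]

/-- The order of the group of coordinate permutations is at most the order of `M22 : 2`. -/
theorem card_P1_le : Nat.card ↥P1 ≤ 887040 := by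
  rw [P1_eq, ← Compute.card_stab_pairRoot]
  exact Nat.card_le_card_of_surjective _ (MonoidHom.rangeRestrict_surjective pHom)

end Cfsg.Agent.CoTwoUniq
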