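import Cfsg.Agent.CoTwoUniq.OctadModel
import Cfsg.Agent.CoTwoUniq.Dodecad

/-!
The centraliser of the octad involution lies in the image.

Modulo that involution the elements centralising the small group form an abelian normal subgroup.
If three sign changes of weight sixteen all lay in the product of the small group with a subgroup
free of controlled involutions, that subgroup would contain one of the elements excluded by a finite
check.
-/

set_option autoImplicit false
set_option linter.unusedSectionVars false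

open Cfsg

namespace Cfsg.Agent.CoTwoUniq

/-- The codes of the small group. -/
def z1Codes : List (Bool × ℕ) :=
  ((perList.filter fun n => n &&& Data.bm == 0 || n &&& Data.bm == Data.bm).map fun n => (false, n)) ++
    ((perList.filter fun n => n &&& Data.bm == 0 || n &&& Data.bm == Data.bm).map fun n => (true, n))

theorem mem_z1Codes {c : Bool × ℕ} : c ∈ z1Codes ↔
    c.2 ∈ perList ∧ (c.2 &&& Data.bm = 0 ∨ c.2 &&& Data.bm = Data.bm) := by
  obtain ⟨t, n⟩ := c
  cases t <;> simp [z1Codes]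

/-- A code of a controlled involution. -/
def bad (c : Bool × ℕ) : Bool := !(trC c == 8) && !(trC c == 11)

theorem triple_check :
    (z1Codes.all fun a =>
      let u := cadd a (false, Data.eW.getD 0 0)
      bad u || z1Codes.all fun b =>
        let v := cadd b (false, Data.eW.getD 1 0)
        bad v || bad (cadd u v) || z1Codes.all fun c =>
          let w := cadd c (false, Data.eW.getD 2 0)
          bad w || bad (cadd u w) || bad (cadd v w) || bad (cadd (cadd u v) w)) = true := by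
  decide +kernel

theorem tr_one : tr (1 : K2) = 11 := by
  rw [← sgn_zero, tr_sgn (avMasks_spec 0 (by decide +kernel))]
  decide +kernel

/-- The controlled involutions centralising the small group. -/
def SO : Set K2 := {x | x ∈ EO ∧ orderOf x = 2 ∧ tr x ≠ 8}

theorem bad_mem_SO {c : Bool × ℕ} (hc : c.2 ∈ perList) (hb : bad c = true) : el c ∈ SO := by
  simp only [bad, Bool.and_eq_true, Bool.not_eq_true', beq_eq_false_iff_ne] at hb
  refine ⟨el_mem_EO hc, Invol.orderOf_eq_two_iff.2 ⟨fun h => ?_, el_mul_self hc⟩,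
    by rw [tr_el hc]; exact hb.1⟩
  have := tr_el hc
  rw [h, tr_one] at this
  exact hb.2 this.symm

theorem bO_mem_EO : bO ∈ EO := by
  rw [← el_bm]
  exact el_mem_EO (List.contains_iff_mem.1 perList_check.2.2.1)

theorem tr_bO : tr bO = 8 := tr_base.2.2

variable {G : Type*} [Group G] [Finite G] (θ : K2 →* G) (hθ : Function.Injective θ)
  (hC : Subgroup.centralizer ({θ z0} : Set G) ≤ θ.range)
  (hfus : ∀ x : K2, IsConj (θ x) (θ z0) → IsConj x z0)

include hθ hC hfus in
/-- An element moving a controlled involution into the image lies in the image. -/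
theorem mem_of_move_ctl {x : K2} (hx : orderOf x = 2) (ht : tr x ≠ 8) {g : G}
    (hg : g * θ x * g⁻¹ ∈ θ.range) : g ∈ θ.range := by
  rcases classes hx with ⟨h, -⟩ | ⟨h, -⟩ | ⟨h, -⟩
  · exact mem_of_move_z θ hC hfus (isConj_z0_of_tr hx h) hg
  · exact mem_of_move_d θ hθ hC hfus hx h hg
  · exact absurd h ht

include hθ hC hfus in
/-- The centraliser of the octad involution lies in the image. -/
theorem centralizer_bm_le {g : G} (hg : Commute g (θ bO)) : g ∈ θ.range := by
  classical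
  set Y : Subgroup G := Subgroup.centralizer ({θ bO} : Set G) with hY
  have memY : ∀ {y : G}, y ∈ Y ↔ Commute y (θ bO) := fun {y} =>
    Subgroup.mem_centralizer_singleton_iff
  let N : Subgroup ↥Y := (Subgroup.zpowers (θ bO)).subgroupOf Y
  have : N.Normal := ⟨fun w hw y => by
    have hw' : (w : G) ∈ Subgroup.zpowers (θ bO) := hw
    show (y : G) * w * (y : G)⁻¹ ∈ Subgroup.zpowers (θ bO)
    obtain ⟨k, hk⟩ := Subgroup.mem_zpowers_iff.1 hw'
    rw [← hk, ((memY.1 y.2).zpow_right k).eq, mul_inv_cancel_right]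
    exact Subgroup.zpow_mem_zpowers _ k⟩
  let π : ↥Y →* ↥Y ⧸ N := QuotientGroup.mk' N
  have hN : ∀ y : ↥Y, π y = 1 → (y : G) = 1 ∨ (y : G) = θ bO := by
    intro y hy
    have hy' : (y : G) ∈ Subgroup.zpowers (θ bO) := (QuotientGroup.eq_one_iff (N := N) y).1 hy
    obtain ⟨k, hk⟩ := Subgroup.mem_zpowers_iff.1 hy'
    have h2 : θ bO ^ (2 : ℤ) = 1 := by rw [zpow_two, ← map_mul, sgn_mul_self av_bm, map_one]
    rcases Int.even_or_odd' k with ⟨m, rfl | rfl⟩
    · left; rw [← hk, zpow_mul, h2, one_zpow]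
    · right; rw [← hk, zpow_add, zpow_mul, h2, one_zpow, one_mul, zpow_one]
  have hNr : ∀ {y : ↥Y} {k : ↥Y}, π y = π k → (k : G) ∈ θ.range → (y : G) ∈ θ.range := by
    intro y k h hk
    have h' : π (k⁻¹ * y) = 1 := by rw [map_mul, map_inv, h, inv_mul_cancel]
    have : (y : G) = (k : G) * ((k⁻¹ * y : ↥Y) : G) := by
      rw [Subgroup.coe_mul, InvMemClass.coe_inv, mul_inv_cancel_left]
    rw [this]
    rcases hN _ h' with e | e <;> rw [e]
    · exact mul_mem hk (one_mem _)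
    · exact mul_mem hk ⟨_, rfl⟩
  -- the small group and the others seen in the centraliser
  have hcY : ∀ {x : K2}, Commute x bO → θ x ∈ Y := fun h => memY.2 (h.map θ)
  let EY : Subgroup ↥Y := (EO.map θ).subgroupOf Y
  have hEY : ∀ y : ↥Y, y ∈ EY ↔ ∃ x ∈ EO, θ x = y := fun y => Iff.rfl
  let H' : Subgroup (↥Y ⧸ N) := ((θ.range).subgroupOf Y).map π
  let A' : Subgroup (↥Y ⧸ N) := EY.map π
  let S' : Set (↥Y ⧸ N) := {q | ∃ x ∈ SO, ∃ h : θ x ∈ Y, q = π ⟨θ x, h⟩}
  have hSO : ∀ {x : K2}, x ∈ SO → θ x ∈ Y := fun h => hcY (mem_EO.1 h.1).1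
  have memA : ∀ {x : K2}, x ∈ EO → ∀ h : θ x ∈ Y, π ⟨θ x, h⟩ ∈ A' := fun {x} hx h =>
    ⟨⟨θ x, h⟩, (hEY _).2 ⟨x, hx, rfl⟩, rfl⟩
  have liftA : ∀ {q}, q ∈ A' → ∃ x ∈ EO, ∃ h : θ x ∈ Y, q = π ⟨θ x, h⟩ := by
    rintro _ ⟨y, hy, rfl⟩
    obtain ⟨x, hx, he⟩ := (hEY y).1 hy
    exact ⟨x, hx, hcY (mem_EO.1 hx).1, congrArg π (Subtype.ext he.symm)⟩
  have hA'c : ∀ p ∈ A', ∀ q ∈ A', Commute p q := by
    intro p hp q hq
    obtain ⟨x, hx, h1, rfl⟩ := liftA hp
    obtain ⟨y, hy, h2, rfl⟩ := liftA hq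
    show π _ * π _ = π _ * π _
    rw [← map_mul, ← map_mul]
    refine QuotientGroup.eq.2 (show (_ : ↥Y) ∈ N from ?_)
    show ((⟨θ x, h1⟩ * ⟨θ y, h2⟩ : ↥Y)⁻¹ * (⟨θ y, h2⟩ * ⟨θ x, h1⟩) : ↥Y).1 ∈
      Subgroup.zpowers (θ bO)
    simp only [Subgroup.coe_mul, InvMemClass.coe_inv, ← map_mul, ← map_inv]
    rcases EO_commutator hy hx with e | e <;> rw [e]
    · rw [inv_mul_cancel, map_one]; exact one_mem _
    · rw [inv_mul_cancel_left]; exact Subgroup.mem_zpowers _
  have hel : ∀ {c : Bool × ℕ}, c.2 ∈ perList → θ (el c) ∈ Y := fun hc => hcY (el_comm_bO hc)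
  obtain ⟨-, -, -, hvn, heW, hvn16, hvnO⟩ := perList_check
  have hvc : (false, Data.vn).2 ∈ perList ∧ ((false, Data.vn).2 &&& Data.bm = 0 ∨
      (false, Data.vn).2 &&& Data.bm = Data.bm) := ⟨List.contains_iff_mem.1 hvn, Or.inr hvnO⟩
  have hve : el (false, Data.vn) = sgn Data.vn := by simp [el]
  have hvS : el (false, Data.vn) ∈ SO := by
    refine ⟨el_mem_EO hvc.1, ?_, ?_⟩ <;> rw [hve]
    · exact orderOf_sgn (per_av hvc.1).1 (by decide +kernel)
    · rw [tr_sgn (avMasks_spec _ (per_av hvc.1).1), hvn16]; decide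
  have hYmem : g ∈ Y := memY.2 hg
  suffices h : π ⟨g, hYmem⟩ ∈ H' by
    obtain ⟨k, hk, he⟩ := h
    exact hNr (y := ⟨g, hYmem⟩) he.symm hk
  refine centralizer_le_of_shift H' A' S' ?_ ?_ ?_ ?_ ⊥ ?_ ?_ ⊥ bot_le le_rfl ?_ ?_
    (g := π ⟨g, hYmem⟩) ?_
  · rintro _ ⟨y, hy, rfl⟩
    obtain ⟨x, -, he⟩ := (hEY y).1 hy
    exact ⟨y, ⟨x, he⟩, rfl⟩
  · rintro _ ⟨x, hx, h, rfl⟩; exact memA hx.1 h
  · rintro _ ⟨x, hx, h, rfl⟩
    refine Invol.orderOf_eq_two_iff.2 ⟨fun e => ?_, ?_⟩
    · rcases hN _ e with e' | e'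
      · exact absurd (hθ (e'.trans (map_one θ).symm)) (Invol.ne_one hx.2.1)
      · exact hx.2.2 (by rw [hθ e', tr_bO])
    · rw [← map_mul, show (⟨θ x, h⟩ * ⟨θ x, h⟩ : ↥Y) = 1 from Subtype.ext (by
        rw [Subgroup.coe_mul]
        show θ x * θ x = 1
        rw [← map_mul, ← sq, ← hx.2.1, pow_orderOf_eq_one, map_one]), map_one]
  · rintro _ ⟨x, hx, h, rfl⟩ q hq
    obtain ⟨y, rfl⟩ := QuotientGroup.mk'_surjective N q
    rw [← map_inv, ← map_mul, ← map_mul] at hq
    obtain ⟨k, hk, he⟩ := hq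
    have := hNr he.symm hk
    exact ⟨y, mem_of_move_ctl θ hθ hC hfus hx.2.1 hx.2.2 this, rfl⟩
  · rintro _ ⟨y, ⟨k, hk⟩, rfl⟩ - q hq
    obtain ⟨x, hx, h, rfl⟩ := liftA hq
    have hkb : Commute k bO := hθ (by rw [map_mul, map_mul, hk]; exact (memY.1 y.2).eq)
    have hx' := conj_mem_EO hkb hx
    rw [← map_inv, ← map_mul, ← map_mul]
    refine ⟨_, (hEY _).2 ⟨_, hx', ?_⟩, rfl⟩
    simp only [Subgroup.coe_mul, InvMemClass.coe_inv, map_mul, map_inv, hk]
    rfl
  · intro W hWA _ hWS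
    have hpure : ∀ c : Bool × ℕ, (hc : c.2 ∈ perList) → π ⟨θ (el c), hel hc⟩ ∈ W → bad c = false := by
      intro c hc hW
      by_contra hb
      exact hWS _ hW ⟨el c, bad_mem_SO hc (by simpa using hb), hel hc, rfl⟩
    -- one of the three words avoids the product of the small group with `W`
    obtain ⟨n, hn, hnW⟩ : ∃ n ∈ Data.eW, ∀ a ∈ z1Codes, ∀ h : θ (el (cadd a (false, n))) ∈ Y,
        π ⟨θ (el (cadd a (false, n))), h⟩ ∉ W := by
      by_contra hall
      push Not at hall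
      have hi : ∀ i < 3, Data.eW.getD i 0 ∈ Data.eW := by decide +kernel
      have hper : ∀ i < 3, Data.eW.getD i 0 ∈ perList := fun i h => by
        have := List.all_eq_true.1 heW _ (hi i h)
        rw [Bool.and_eq_true, List.contains_iff_mem] at this
        exact this.1
      obtain ⟨a, ha, ha', hau⟩ := hall _ (hi 0 (by norm_num))
      obtain ⟨b, hb, hb', hbv⟩ := hall _ (hi 1 (by norm_num))
      obtain ⟨c, hc, hc', hcw⟩ := hall _ (hi 2 (by norm_num))
      have hu : (cadd a (false, Data.eW.getD 0 0)).2 ∈ perList :=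
        per_xor (mem_z1Codes.1 ha).1 (hper 0 (by norm_num))
      have hv : (cadd b (false, Data.eW.getD 1 0)).2 ∈ perList :=
        per_xor (mem_z1Codes.1 hb).1 (hper 1 (by norm_num))
      have hw : (cadd c (false, Data.eW.getD 2 0)).2 ∈ perList :=
        per_xor (mem_z1Codes.1 hc).1 (hper 2 (by norm_num))
      have hmul : ∀ {p q : Bool × ℕ} (hp : p.2 ∈ perList) (hq : q.2 ∈ perList)
          (_ : π ⟨θ (el p), hel hp⟩ ∈ W) (_ : π ⟨θ (el q), hel hq⟩ ∈ W),
          π ⟨θ (el (cadd p q)), hel (per_xor hp hq)⟩ ∈ W := by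
        intro p q hp hq h1 h2
        have h := mul_mem h1 h2
        rw [← map_mul] at h
        rwa [show (⟨θ (el (cadd p q)), hel (per_xor hp hq)⟩ : ↥Y) =
          ⟨θ (el p), hel hp⟩ * ⟨θ (el q), hel hq⟩ from Subtype.ext (by
            show θ (el (cadd p q)) = θ (el p) * θ (el q)
            rw [el_cadd hp hq, map_mul])]
      have h := List.all_eq_true.1 triple_check a ha
      simp only [hpure _ hu hau, Bool.false_or] at h
      have h := List.all_eq_true.1 h b hb
      simp only [hpure _ hv hbv, hpure _ (per_xor hu hv) (hmul hu hv hau hbv), Bool.false_or] at h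
      have h := List.all_eq_true.1 h c hc
      simp only [hpure _ hw hcw, hpure _ (per_xor hu hw) (hmul hu hw hau hcw),
        hpure _ (per_xor hv hw) (hmul hv hw hbv hcw),
        hpure _ (per_xor (per_xor hu hv) hw) (hmul (per_xor hu hv) hw (hmul hu hv hau hbv) hcw),
        Bool.false_or] at h
      exact Bool.false_ne_true h
    have hn' := List.all_eq_true.1 heW n hn
    rw [Bool.and_eq_true, List.contains_iff_mem, beq_iff_eq] at hn'
    have heS : el (false, n) ∈ SO := by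
      have he : el (false, n) = sgn n := by simp [el]
      refine ⟨el_mem_EO hn'.1, ?_, ?_⟩ <;> rw [he]
      · refine orderOf_sgn (per_av hn'.1).1 fun e => ?_
        rw [e] at hn'; exact absurd hn'.2 (by decide +kernel)
      · rw [tr_sgn (avMasks_spec _ (per_av hn'.1).1), hn'.2]; decide
    refine ⟨π ⟨θ (el (false, Data.vn)), hSO hvS⟩, ⟨_, hvS, _, rfl⟩,
      π ⟨θ (el (false, n)), hSO heS⟩, ⟨_, heS, _, rfl⟩,
      fun q hq => hA'c _ (memA hvS.1 _) q hq, fun q hq => hA'c _ (memA heS.1 _) q (hWA hq), ?_⟩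
    rintro _ ⟨y, ⟨k, hk⟩, rfl⟩ hyW w hw he
    -- `k⁻¹ v k` is in the small group, and `y` centralises `w`
    have hkb : Commute k bO := hθ (by rw [map_mul, map_mul, hk]; exact (memY.1 y.2).eq)
    obtain ⟨a, ha, haO, hae⟩ :=
      Z1_codes (conj_mem_Z1 hkb.inv_left (el_mem_Z1 hvc.1 hvc.2))
    refine hnW a (mem_z1Codes.2 ⟨ha, haO⟩) (hel (per_xor ha hn'.1)) ?_
    have hy : (⟨θ (el a), hel ha⟩ : ↥Y) = y⁻¹ * ⟨θ (el (false, Data.vn)), hSO hvS⟩ * y :=
      Subtype.ext (by
        simp only [Subgroup.coe_mul, InvMemClass.coe_inv, ← hae, inv_inv]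
        rw [map_mul, map_mul, map_inv, hk]
        rfl)
    have key : π ⟨θ (el a), hel ha⟩ * w = π ⟨θ (el (false, n)), hSO heS⟩ := by
      rw [hy, map_mul, map_mul, map_inv, mul_assoc, (hyW w hw).eq, ← mul_assoc, mul_assoc _ _ w,
        ← he]
      group
    have hw2 : w = (π ⟨θ (el a), hel ha⟩)⁻¹ * π ⟨θ (el (false, n)), hSO heS⟩ := by
      rw [← key, inv_mul_cancel_left]
    rw [hw2, ← map_inv, ← map_mul] at hw
    rwa [show (⟨θ (el (cadd a (false, n))), hel (per_xor ha hn'.1)⟩ : ↥Y) =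
      (⟨θ (el a), hel ha⟩ : ↥Y)⁻¹ * ⟨θ (el (false, n)), hSO heS⟩ from Subtype.ext (by
        show θ (el (cadd a (false, n))) = (θ (el a))⁻¹ * θ (el (false, n))
        rw [el_cadd ha hn'.1, map_mul, ← map_inv, inv_eq_of_mul_eq_one_right (el_mul_self ha)])]
  · intro p hp q _
    rw [Subgroup.mem_bot] at hp
    rw [hp]; exact Commute.one_left _
  · intro p hp hpS
    rw [Subgroup.mem_bot] at hp
    obtain ⟨x, hx, h, he⟩ := hpS
    rcases hN _ (he.symm.trans hp) with e' | e'
    · exact absurd (hθ (e'.trans (map_one θ).symm)) (Invol.ne_one hx.2.1)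
    · exact hx.2.2 (by rw [hθ e', tr_bO])
  · intro p hp
    rw [Subgroup.mem_bot] at hp
    rw [hp]; exact Commute.one_right _

end Cfsg.Agent.CoTwoUniq
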