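import Cfsg.Agent.CoTwoUniq.Orbits

/-!
The small group at the octad involution.

The elements commuting with the octad sign change and acting as `± 1` on the vectors it negates are
32 monomial ones, and two elements centralising all of them commute up to that sign change.
-/

set_option autoImplicit false

open Cfsg
open scoped Pointwise

namespace Cfsg.Agent.CoTwoUniq

open Cfsg.Agent.Leech (bitWord dec signCo0 permCo0 idx ptOf negOn)

/-- The octad involution. -/
noncomputable abbrev bO : K2 := sgn Data.bm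

/-- The action of the group on the lattice. -/
abbrev act (x : K2) (v : leechLattice) : leechLattice := inc x • v

/-- The elements at the octad involution acting as a scalar on the vectors it negates. -/
def Z1 : Set K2 :=
  {x | Commute x bO ∧ ((∀ v, act bO v = -v → act x v = v) ∨ ∀ v, act bO v = -v → act x v = -v)}

theorem conj_mem_Z1 {x k : K2} (hk : Commute k bO) (hx : x ∈ Z1) : k * x * k⁻¹ ∈ Z1 := by
  refine ⟨(hk.mul_left hx.1).mul_left hk.inv_left, ?_⟩
  have hneg : ∀ v, act bO v = -v → act bO (act k⁻¹ v) = -act k⁻¹ v := fun v hv => by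
    show inc bO • inc k⁻¹ • v = -(inc k⁻¹ • v)
    rw [← mul_smul, ← map_mul, hk.inv_left.symm.eq, map_mul, mul_smul,
      show inc bO • v = -v from hv, Leech.smul_neg']
  refine hx.2.imp (fun h v hv => ?_) fun h v hv => ?_
  · show inc (k * x * k⁻¹) • v = v
    rw [map_mul, map_mul, mul_smul, mul_smul, show inc x • inc k⁻¹ • v = inc k⁻¹ • v from h _ (hneg v hv),
      ← mul_smul, ← map_mul, mul_inv_cancel, map_one, one_smul]
  · show inc (k * x * k⁻¹) • v = -v
    rw [map_mul, map_mul, mul_smul, mul_smul,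
      show inc x • inc k⁻¹ • v = -(inc k⁻¹ • v) from h _ (hneg v hv), Leech.smul_neg', ← mul_smul,
      ← map_mul, mul_inv_cancel, map_one, one_smul]

theorem tau_ok : PermOK Data.tauL Data.tauL ∧ (∀ i < 24, Data.tauL.getD i 0 < 24) ∧
    (∀ i < 24, Data.tauL.getD (Data.tauL.getD i 0) 0 = i) := by
  refine ⟨?_, ?_, ?_⟩ <;> decide +kernel

/-- The translation. -/
def tE : K2 := pm tau_ok.1

theorem perm_tau_inv (p : GolayPt) : (perm tau_ok.1)⁻¹ p = ptOf (Data.tauL.getD (idx p) 0) := rfl

/-- The words fixed by the translation. -/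
def perList : List ℕ := Leech.spanList Data.perBasis

theorem perList_check :
    perList.all (fun n => pmask Data.tauL n == n) = true ∧
    avMasks.all (fun n => !(n &&& Data.bm == 0 || n &&& Data.bm == Data.bm) || perList.contains n) =
      true ∧
    perList.contains Data.bm = true ∧ perList.contains Data.vn = true ∧
    Data.eW.all (fun n => perList.contains n && pop n == 16) = true ∧
    pop Data.vn = 16 ∧ Data.vn &&& Data.bm = Data.bm := by
  refine ⟨?_, ?_, ?_, ?_, ?_, ?_, ?_⟩ <;> decide +kernel

theorem basis_av : Data.perBasis.all (fun n => avMasks.contains n) = true := by decide +kernel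

theorem avMasks_xor {a b : ℕ} (ha : a ∈ avMasks) (hb : b ∈ avMasks) : a ^^^ b ∈ avMasks := by
  simp only [avMasks, List.mem_filter, Bool.and_eq_true, Bool.not_eq_true'] at ha hb ⊢
  exact ⟨Leech.xor_mem_spanList ha.1 hb.1, by rw [Nat.testBit_xor, ha.2.1, hb.2.1]; rfl,
    by rw [Nat.testBit_xor, ha.2.2, hb.2.2]; rfl⟩

theorem per_av {n : ℕ} (hn : n ∈ perList) : n ∈ avMasks ∧ pmask Data.tauL n = n := by
  refine ⟨?_, beq_iff_eq.1 (List.all_eq_true.1 perList_check.1 n hn)⟩
  have key : ∀ l : List ℕ, (∀ r ∈ l, r ∈ avMasks) → ∀ n ∈ Leech.spanList l, n ∈ avMasks := by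
    intro l
    induction l with
    | nil => intro _ n hn; simp [Leech.spanList] at hn; subst hn; decide +kernel
    | cons r t ih =>
      intro hr n hn
      have ih' := ih fun a ha => hr a (List.mem_cons_of_mem _ ha)
      rcases List.mem_append.1 hn with hn | hn
      · exact ih' n hn
      · obtain ⟨a, ha, rfl⟩ := List.mem_map.1 hn
        exact avMasks_xor (hr r List.mem_cons_self) (ih' a ha)
  exact key _ (fun r hr => List.contains_iff_mem.1 (List.all_eq_true.1 basis_av r hr)) n hn

theorem per_xor {m n : ℕ} (hm : m ∈ perList) (hn : n ∈ perList) : m ^^^ n ∈ perList :=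
  Leech.xor_mem_spanList hm hn

theorem per_comm {n : ℕ} (hn : n ∈ perList) : Commute tE (sgn n) := by
  obtain ⟨h1, h2⟩ := per_av hn
  have h := conj_pm tau_ok.1 tau_ok.2.1 (avMasks_spec n h1) (by rw [h2]; exact avMasks_spec n h1)
  rw [h2] at h
  exact mul_inv_eq_iff_eq_mul.1 h

theorem tE_mul_self : tE * tE = 1 := inc_injective (by
  rw [map_mul, map_one, tE, pm, inc_mk]
  refine Leech.ext_of_oct fun i => Subtype.ext (funext fun q => ?_)
  rw [mul_smul, one_smul, Leech.permCo0_apply, Leech.permCo0_apply, perm_tau_inv, perm_tau_inv,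
    Leech.idx_ptOf _ (tau_ok.2.1 _ (Leech.idx_lt q)), tau_ok.2.2 _ (Leech.idx_lt q),
    Leech.ptOf_idx])

/-- An element of the monomial group at the octad. -/
noncomputable def el (c : Bool × ℕ) : K2 := sgn c.2 * if c.1 then tE else 1

/-- The sum of two codes. -/
def cadd (c d : Bool × ℕ) : Bool × ℕ := (xor c.1 d.1, c.2 ^^^ d.2)

theorem el_cadd {c d : Bool × ℕ} (hc : c.2 ∈ perList) (hd : d.2 ∈ perList) :
    el (cadd c d) = el c * el d := by
  obtain ⟨s, m⟩ := c
  obtain ⟨t, n⟩ := d
  have hm := avMasks_spec m (per_av hc).1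
  have hn := avMasks_spec n (per_av hd).1
  simp only [el, cadd, sgn_xor hm hn]
  have hcn : Commute tE (sgn n) := per_comm hd
  cases s <;> cases t <;> simp
  · rw [mul_assoc]
  · rw [mul_assoc, ← hcn.eq, mul_assoc]
  · rw [show sgn m * tE * (sgn n * tE) = sgn m * (tE * sgn n) * tE by group, hcn.eq,
      show sgn m * (sgn n * tE) * tE = sgn m * sgn n * (tE * tE) by group, tE_mul_self, mul_one]

theorem el_comm {c d : Bool × ℕ} (hc : c.2 ∈ perList) (hd : d.2 ∈ perList) :
    Commute (el c) (el d) := by
  show el c * el d = el d * el c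
  rw [← el_cadd hc hd, ← el_cadd hd hc, cadd, cadd, Bool.xor_comm, Nat.xor_comm]

theorem el_zero : el (false, 0) = 1 := by simp [el, sgn_zero]

theorem el_bm : el (false, Data.bm) = bO := by simp [el]

theorem el_mul_self {c : Bool × ℕ} (hc : c.2 ∈ perList) : el c * el c = 1 := by
  rw [← el_cadd hc hc, cadd, Bool.xor_self, Nat.xor_self, el_zero]

theorem el_comm_bO {c : Bool × ℕ} (hc : c.2 ∈ perList) : Commute (el c) bO := by
  rw [← el_bm]
  exact el_comm hc (List.contains_iff_mem.1 perList_check.2.2.1)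

/-- The trace of an element, computed. -/
def trC (c : Bool × ℕ) : ZMod 13 :=
  ∑ i : GolayPt, if (if c.1 then ptOf (Data.tauL.getD (idx i) 0) else i) = i then
    (if bitWord c.2 i = 0 then 1 else -1) else 0

theorem tr_el {c : Bool × ℕ} (hc : c.2 ∈ perList) : tr (el c) = trC c := by
  obtain ⟨t, n⟩ := c
  have hn := avMasks_spec n (per_av hc).1
  cases t
  · have h : inc (el (false, n)) = signCo0 (bitWord n) (av_mem hn) * permCo0 1 (one_mem _) := by
      rw [el, map_mul, inc_sgn hn]
      congr 1
    rw [tr, h, trace_mono, trC]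
    simp
  · have h : inc (el (true, n)) =
        signCo0 (bitWord n) (av_mem hn) * permCo0 _ (perm_mem tau_ok.1) := by
      rw [el, map_mul, inc_sgn hn]
      rfl
    rw [tr, h, trace_mono, trC]
    simp [perm_tau_inv]

/-- The points of the octad. -/
def inO (p : GolayPt) : Prop := Data.bm.testBit (idx p) = true

instance : DecidablePred inO := fun p => inferInstanceAs (Decidable (_ = true))

theorem bitWord_bm (p : GolayPt) : bitWord Data.bm p = if inO p then 1 else 0 := rfl

theorem bO_apply (v : leechLattice) (p : GolayPt) :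
    ((act bO v : leechLattice) : GolayPt → ℤ) p =
      if inO p then -(v : GolayPt → ℤ) p else (v : GolayPt → ℤ) p := by
  show ((inc bO • v : leechLattice) : GolayPt → ℤ) p = _
  rw [inc_sgn av_bm, Leech.signCo0_apply]
  simp only [negOn, bitWord_bm]
  by_cases h : inO p <;> simp [h]

theorem neg_iff (v : leechLattice) :
    act bO v = -v ↔ ∀ p, ¬ inO p → (v : GolayPt → ℤ) p = 0 := by
  constructor
  · intro h p hp
    have := congrFun (congrArg Subtype.val h) p
    rw [bO_apply, if_neg hp, AddSubgroup.coe_neg, Pi.neg_apply] at this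
    omega
  · intro h
    refine Subtype.ext (funext fun p => ?_)
    rw [bO_apply, AddSubgroup.coe_neg, Pi.neg_apply]
    split_ifs with hp
    · rfl
    · rw [h p hp, neg_zero]

theorem fix_iff (v : leechLattice) :
    act bO v = v ↔ ∀ p, inO p → (v : GolayPt → ℤ) p = 0 := by
  constructor
  · intro h p hp
    have := congrFun (congrArg Subtype.val h) p
    rw [bO_apply, if_pos hp] at this
    omega
  · intro h
    refine Subtype.ext (funext fun p => ?_)
    rw [bO_apply]
    split_ifs with hp
    · rw [h p hp, neg_zero]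
    · rfl

/-- The octad vectors are those of the model certificate. -/
theorem sep_check :
    (∀ p : GolayPt, ¬ inO p → p ≠ none →
      let d := Data.sepL.getD (idx p) (0, 0)
      dec (bitWord d.1) = bitWord d.1 ∧ dec (bitWord d.2) = bitWord d.2 ∧
      hammingNorm (bitWord d.1) = 8 ∧ hammingNorm (bitWord d.2) = 8 ∧
      5 ≤ (Finset.univ.filter fun r : GolayPt => (inO r ∨ r = none) ∧ bitWord d.1 r = 1).card ∧
      5 ≤ (Finset.univ.filter fun r : GolayPt => (inO r ∨ r = none) ∧ bitWord d.2 r = 1).card ∧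
      bitWord d.1 p = 1 ∧ bitWord d.2 p = 1 ∧
      ∀ r, ¬ inO r → bitWord d.1 r = 1 → bitWord d.2 r = 1 → r = none ∨ r = p) ∧
    (∀ p : GolayPt, inO p →
      let d := Data.sepInL.getD (idx p) (0, 0)
      dec (bitWord d.1) = bitWord d.1 ∧ dec (bitWord d.2) = bitWord d.2 ∧
      hammingNorm (bitWord d.1) = 8 ∧ hammingNorm (bitWord d.2) = 8 ∧
      5 ≤ (Finset.univ.filter fun r : GolayPt => ¬ inO r ∧ bitWord d.1 r = 1).card ∧
      5 ≤ (Finset.univ.filter fun r : GolayPt => ¬ inO r ∧ bitWord d.2 r = 1).card ∧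
      bitWord d.1 p = 1 ∧ bitWord d.2 p = 1 ∧
      ∀ r, inO r → bitWord d.1 r = 1 → bitWord d.2 r = 1 → r = p) := by
  constructor <;> decide +kernel

/-- A code automorphism keeps an octad of which it fixes five points. -/
theorem octad_fixed {σ : Equiv.Perm GolayPt} (hσ : σ ∈ M24) {o : Word} (ho : o ∈ golayCode)
    (h8 : hammingNorm o = 8) {T : Finset GolayPt} (h5 : 5 ≤ T.card)
    (hT : ∀ r ∈ T, σ r = r ∧ o r = 1) {p : GolayPt} (hp : o p = 1) : o (σ p) = 1 := by
  classical
  have hc : (fun q => o (σ⁻¹ q)) ∈ golayCode := Leech.comp_mem_of_M24 (inv_mem hσ) ho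
  have hn : hammingNorm (fun q => o (σ⁻¹ q)) = 8 :=
    (CoOneUniq.Endgame.hammingNorm_comp σ⁻¹ o).trans h8
  have hsub : T ⊆ support₂ o ∩ support₂ (fun q => o (σ⁻¹ q)) := fun r hr => by
    obtain ⟨h1, h2⟩ := hT r hr
    have h3 : σ⁻¹ r = r := by rw [Equiv.Perm.inv_eq_iff_eq, h1]
    simp only [Finset.mem_inter, Leech.mem_support₂]
    exact ⟨h2, by rw [h3]; exact h2⟩
  have hw := Leech.weight_add o (fun q => o (σ⁻¹ q))
  rw [h8, hn] at hw
  have hle := Finset.card_le_card hsub
  have h0 : o + (fun q => o (σ⁻¹ q)) = 0 := by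
    refine hammingNorm_eq_zero.1 ?_
    rcases Leech.weights (add_mem ho hc) with e | e | e | e | e <;> omega
  have := congrFun (CharTwo.add_eq_zero.1 h0) (σ p)
  rw [this]
  simpa using hp

theorem fix_compl_eq_one {σ : Equiv.Perm GolayPt} (hσ : σ ∈ M24)
    (h : ∀ p, ¬ inO p → σ p = p) : σ = 1 := by
  refine Equiv.ext fun p => ?_
  show σ p = p
  by_cases hp : inO p
  · obtain ⟨h1, h2, h3, h4, h5, h6, h7, h8, h9⟩ := sep_check.2 p hp
    refine h9 _ (by_contra fun hn => hn ?_)
      (octad_fixed hσ ((Leech.mem_iff _).2 h1) h3 h5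
        (fun r hr => ⟨h r (Finset.mem_filter.1 hr).2.1, (Finset.mem_filter.1 hr).2.2⟩) h7)
      (octad_fixed hσ ((Leech.mem_iff _).2 h2) h4 h6
        (fun r hr => ⟨h r (Finset.mem_filter.1 hr).2.1, (Finset.mem_filter.1 hr).2.2⟩) h8)
    rw [σ.injective (h _ hn)]; exact hp
  · exact h p hp

theorem fix_O_none_eq_one {σ : Equiv.Perm GolayPt} (hσ : σ ∈ M24)
    (h : ∀ p, inO p → σ p = p) (h0 : σ none = none) : σ = 1 := by
  refine Equiv.ext fun p => ?_
  show σ p = p
  by_cases hp : inO p
  · exact h p hp
  by_cases hn : p = none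
  · rw [hn, h0]
  obtain ⟨h1, h2, h3, h4, h5, h6, h7, h8, h9⟩ := sep_check.1 p hp hn
  have hfix : ∀ r, inO r ∨ r = none → σ r = r := fun r hr =>
    hr.elim (h r) fun e => by rw [e, h0]
  have hnot : ¬ inO (σ p) := fun hi => hp (σ.injective (h _ hi) ▸ hi)
  refine (h9 _ hnot
    (octad_fixed hσ ((Leech.mem_iff _).2 h1) h3 h5
      (fun r hr => ⟨hfix r (Finset.mem_filter.1 hr).2.1, (Finset.mem_filter.1 hr).2.2⟩) h7)
    (octad_fixed hσ ((Leech.mem_iff _).2 h2) h4 h6
      (fun r hr => ⟨hfix r (Finset.mem_filter.1 hr).2.1, (Finset.mem_filter.1 hr).2.2⟩) h8)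
    ).resolve_left fun e => hn (σ.injective (e.trans h0.symm))

/-- An element acting as a scalar on one side of the octad is monomial: it maps the frame to
itself. -/
theorem frame_of_scalar {g : ↥Co0} {P : GolayPt → Prop} {s : ℤ} (hs : s = 1 ∨ s = -1)
    (hg : ∀ p, P p → g • Leech.oct p = s • Leech.oct p) (hne : ∃ p, P p) (i : GolayPt) :
    ((g • Leech.oct i : leechLattice) : GolayPt → ℤ) ∈ stdCross := by
  classical
  by_cases hi : P i
  · rw [hg i hi]
    rcases hs with rfl | rfl
    · exact ⟨i, 8, Or.inl rfl, by simp [Leech.oct]⟩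
    · exact ⟨i, -8, Or.inr rfl, by simp [Leech.oct, Pi.single_neg]⟩
  obtain ⟨p, hp⟩ := hne
  have hpi : p ≠ i := fun e => hi (e ▸ hp)
  set y := Leech.fourPair p i 1 1 (by norm_num) with hy
  have h2y : y + y = Leech.oct p + Leech.oct i := Subtype.ext (funext fun q => by
    simp only [hy, Leech.fourPair, Leech.oct, AddSubgroup.coe_add, Pi.add_apply]
    by_cases h1 : q = p
    · subst h1; simp [hpi]
    by_cases h2 : q = i
    · subst h2; simp [h1]
    simp [h1, h2])
  have hsum := congrArg (fun v : leechLattice => g • v) h2y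
  simp only [Leech.smul_add', hg p hp] at hsum
  have hq : ∀ q, 2 * ((g • y : leechLattice) : GolayPt → ℤ) q =
      s * (Pi.single p (8 : ℤ) : GolayPt → ℤ) q + ((g • Leech.oct i : leechLattice) : GolayPt → ℤ) q :=
    fun q => by
      have := congrFun (congrArg Subtype.val hsum) q
      simp only [AddSubgroup.coe_add, AddSubgroup.coe_zsmul, Pi.add_apply, Pi.smul_apply,
        smul_eq_mul, Leech.oct] at this
      simp only [Leech.oct]
      rw [← this]; ring
  have horth : ∀ r, P r → ((g • Leech.oct i : leechLattice) : GolayPt → ℤ) r = 0 := fun r hr => by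
    have hri : r ≠ i := fun e => hi (e ▸ hr)
    have h := Leech.dotInt_smul g (Leech.oct r) (Leech.oct i)
    rw [hg r hr] at h
    simp only [dotInt, AddSubgroup.coe_zsmul, Pi.smul_apply, smul_eq_mul, Leech.oct] at h
    rw [Finset.sum_eq_single r (fun b _ hb => by simp [hb]) (by simp),
      Finset.sum_eq_single r (fun b _ hb => by simp [hb]) (by simp)] at h
    simp [hri, Ne.symm hri] at h
    rcases hs with rfl | rfl <;> simpa [Leech.oct] using h
  have hyp : ((g • y : leechLattice) : GolayPt → ℤ) p = 4 * s := by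
    have := hq p
    rw [horth p hp, Pi.single_eq_same] at this
    omega
  have hyn : sqNorm ((g • y : leechLattice) : GolayPt → ℤ) = 32 := by
    rw [Leech.sqNorm_smul]
    exact Leech.norm_fourPair hpi (by norm_num) (by norm_num) _
  rcases shape32 hyn (p := p) (by rw [hyp]; omega) with
    ⟨a, b, hab, s', t', hs', ht', hv⟩ | ⟨o, -, -, ho⟩
  · have key : ∀ a b : GolayPt, a ≠ b → ∀ s' t' : ℤ, (t' = 1 ∨ t' = -1) →
        ((g • y : leechLattice) : GolayPt → ℤ) = Pi.single a (4 * s') + Pi.single b (4 * t') →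
        p = a → ((g • Leech.oct i : leechLattice) : GolayPt → ℤ) ∈ stdCross := by
      rintro a b hab s' t' ht' hv rfl
      refine ⟨b, 8 * t', by rcases ht' with rfl | rfl <;> norm_num, funext fun q => ?_⟩
      have h1 := hq q
      rw [hv] at hyp h1
      simp [hab] at hyp
      simp only [Pi.add_apply, Pi.single_apply] at h1 ⊢
      split_ifs at h1 ⊢ <;> omega
    have hp' : p = a ∨ p = b := by
      by_contra hc
      rw [not_or] at hc
      rw [hv] at hyp
      simp [hc.1, hc.2] at hyp
      omega
    rcases hp' with e | e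
    · exact key a b hab s' t' ht' hv e
    · exact key b a (Ne.symm hab) t' s' hs' (by rw [hv, add_comm]) e
  · exfalso
    rcases Leech.zmod2_cases (o p) with e | e
    · rw [(ho p).1 e] at hyp; omega
    · rcases (ho p).2 e with e' | e' <;> omega

theorem exists_inO : ∃ p, inO p := by decide +kernel

/-- The elements acting as a scalar on the vectors negated by the octad involution are monomial. -/
theorem Z1_codes {x : K2} (hx : x ∈ Z1) :
    ∃ c : Bool × ℕ, c.2 ∈ perList ∧ (c.2 &&& Data.bm = 0 ∨ c.2 &&& Data.bm = Data.bm) ∧ x = el c := by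
  classical
  obtain ⟨s, hs, hsv⟩ : ∃ s : ℤ, (s = 1 ∨ s = -1) ∧ ∀ v, act bO v = -v → act x v = s • v := by
    rcases hx.2 with h | h
    · exact ⟨1, Or.inl rfl, fun v hv => by rw [h v hv, one_zsmul]⟩
    · exact ⟨-1, Or.inr rfl, fun v hv => by rw [h v hv, neg_one_zsmul]⟩
  have hoct : ∀ p, inO p → inc x • Leech.oct p = s • Leech.oct p := fun p hp =>
    hsv _ ((neg_iff _).2 fun q hq => by
      show (Pi.single p (8 : ℤ) : GolayPt → ℤ) q = 0
      rw [Pi.single_eq_of_ne]; rintro rfl; exact hq hp)
  obtain ⟨σ, hσ, c, hc, hxm⟩ := Leech.exists_of_stdFrame (inc x)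
    (frame_of_scalar hs hoct exists_inO)
  have hfix : ∀ p, inO p → σ p = p ∧ c p = (if s = 1 then 0 else 1) := fun p hp => by
    have hσp : σ p = p := by
      by_contra hne
      have h := congrFun (congrArg Subtype.val (hoct p hp)) p
      rw [hxm, mul_smul, Leech.signCo0_apply] at h
      simp only [negOn, Leech.permCo0_apply, Leech.oct, AddSubgroup.coe_zsmul, Pi.smul_apply,
        smul_eq_mul, Pi.single_eq_same] at h
      rw [Pi.single_eq_of_ne (fun e => hne (by rw [← Equiv.Perm.inv_eq_iff_eq.1 e])), neg_zero,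
        ite_self] at h
      omega
    refine ⟨hσp, ?_⟩
    have h := congrFun (congrArg Subtype.val (hoct p hp)) p
    rw [hxm, mul_smul, Leech.signCo0_apply] at h
    simp only [negOn, Leech.permCo0_apply, Leech.oct, AddSubgroup.coe_zsmul, Pi.smul_apply,
      smul_eq_mul, Pi.single_eq_same, show σ⁻¹ p = p from Equiv.Perm.inv_eq_iff_eq.2 hσp.symm] at h
    rcases Leech.zmod2_cases (c p) with e | e <;> rw [e] at h ⊢ <;> rcases hs with rfl | rfl <;>
      simp at h ⊢
  -- the pair of the fixed vector is kept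
  have hu := inc_fix x
  rw [hxm, mul_smul] at hu
  have hpair : ∀ q, Spor.vecU q = 4 → Spor.vecU (σ⁻¹ q) = 4 ∧ c q = 0 := fun q hq => by
    have h := congrFun (congrArg Subtype.val hu) q
    rw [Leech.signCo0_apply] at h
    simp only [negOn, Leech.permCo0_apply] at h
    change (if c q = 0 then Spor.vecU (σ⁻¹ q) else -Spor.vecU (σ⁻¹ q)) = Spor.vecU q at h
    rw [hq] at h
    have hpos : Spor.vecU (σ⁻¹ q) = 0 ∨ Spor.vecU (σ⁻¹ q) = 4 := by
      unfold Spor.vecU
      split_ifs <;> simp
    rcases hpos with e | e <;> rw [e] at h <;> split_ifs at h with hc0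
    · omega
    · omega
    · exact ⟨e, hc0⟩
  obtain ⟨hn4, hz4⟩ : Spor.vecU none = 4 ∧ Spor.vecU (some 0) = 4 := ⟨rfl, rfl⟩
  have hσ1 : σ = 1 ∨ σ = perm tau_ok.1 := by
    have hτO : ∀ p, inO p → perm tau_ok.1 p = p := by decide +kernel
    have hτ0 : perm tau_ok.1 (some 0) = none := by decide +kernel
    have h := (hpair none hn4).1
    by_cases h0 : σ⁻¹ none = none
    · exact Or.inl (fix_O_none_eq_one hσ (fun p hp => (hfix p hp).1)
        (Equiv.Perm.inv_eq_iff_eq.1 h0).symm)
    · right
      have hs0 : σ⁻¹ none = some 0 := by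
        unfold Spor.vecU at h
        split_ifs at h with h' <;> simp_all
      have e := fix_O_none_eq_one (σ := σ * (perm tau_ok.1)⁻¹)
        (mul_mem hσ (inv_mem (perm_mem tau_ok.1))) (fun p hp => by
          rw [Equiv.Perm.mul_apply, Equiv.Perm.inv_eq_iff_eq.2 (hτO p hp).symm]
          exact (hfix p hp).1)
        (by rw [Equiv.Perm.mul_apply, Equiv.Perm.inv_eq_iff_eq.2 hτ0.symm]
            exact (Equiv.Perm.inv_eq_iff_eq.1 hs0).symm)
      exact mul_inv_eq_one.1 e
  obtain ⟨n, hn, rfl⟩ := Leech.exists_mask hc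
  have hbit : ∀ j < 24, n.testBit j = decide (bitWord n (ptOf j) = 1) := fun j hj => by
    simp only [Leech.bitWord, Leech.idx_ptOf j hj]
    cases n.testBit j <;> simp
  have hav : n ∈ avMasks := List.mem_filter.2 ⟨hn, by
    rw [hbit 0 (by norm_num), hbit 1 (by norm_num), show ptOf 0 = none from rfl,
      show ptOf 1 = some 0 by decide, (hpair none hn4).2, (hpair (some 0) hz4).2]
    rfl⟩
  have hand : n &&& Data.bm = if s = 1 then 0 else Data.bm := by
    refine Nat.eq_of_testBit_eq fun j => ?_
    rw [Nat.testBit_and]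
    rcases Nat.lt_or_ge j 24 with hj | hj
    · by_cases hb : Data.bm.testBit j = true
      · have hin : inO (ptOf j) := by show Data.bm.testBit (idx (ptOf j)) = true; rw [Leech.idx_ptOf j hj, hb]
        rw [hbit j hj, (hfix _ hin).2, hb]
        rcases hs with rfl | rfl <;> simp [hb]
      · rw [Bool.not_eq_true] at hb
        rw [hb, Bool.and_false]
        split_ifs <;> simp [hb]
    · have hlt : Data.bm < 2 ^ j :=
        lt_of_lt_of_le (by decide +kernel : Data.bm < 2 ^ 24) (Nat.pow_le_pow_right (by norm_num) hj)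
      rw [Nat.testBit_lt_two_pow hlt, Bool.and_false]
      split_ifs <;> simp [Nat.testBit_lt_two_pow hlt]
  have hor : n &&& Data.bm = 0 ∨ n &&& Data.bm = Data.bm := by
    rw [hand]; split_ifs <;> simp
  have hper : n ∈ perList := by
    have h := List.all_eq_true.1 perList_check.2.1 n hav
    simp only [Bool.or_eq_true, Bool.not_eq_true', Bool.or_eq_false_iff, beq_eq_false_iff_ne,
      List.contains_iff_mem] at h
    exact h.resolve_left fun h' => hor.elim h'.1 h'.2
  rcases hσ1 with rfl | rfl
  · refine ⟨(false, n), hper, hor, inc_injective (hxm.trans ?_)⟩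
    rw [el, map_mul, inc_sgn (avMasks_spec n hav)]
    congr 1
  · refine ⟨(true, n), hper, hor, inc_injective (hxm.trans ?_)⟩
    rw [el, map_mul, inc_sgn (avMasks_spec n hav)]
    rfl

/-- Codes with constant restriction to the octad give elements of the small group. -/
theorem el_mem_Z1 {c : Bool × ℕ} (hc : c.2 ∈ perList)
    (hO : c.2 &&& Data.bm = 0 ∨ c.2 &&& Data.bm = Data.bm) : el c ∈ Z1 := by
  obtain ⟨t, n⟩ := c
  refine ⟨el_comm_bO hc, ?_⟩
  have hτO : ∀ p, inO p → ptOf (Data.tauL.getD (idx p) 0) = p := by decide +kernel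
  have hτN : ∀ p, ¬ inO p → ¬ inO (ptOf (Data.tauL.getD (idx p) 0)) := by decide +kernel
  have hact : ∀ v, act bO v = -v → ∀ p, ((act (el (t, n)) v : leechLattice) : GolayPt → ℤ) p =
      if inO p then (if bitWord n p = 0 then (v : GolayPt → ℤ) p else -(v : GolayPt → ℤ) p)
      else 0 := by
    intro v hv p
    have hv' := (neg_iff v).1 hv
    show ((inc (el (t, n)) • v : leechLattice) : GolayPt → ℤ) p = _
    rw [el, map_mul, mul_smul, inc_sgn (avMasks_spec n (per_av hc).1), Leech.signCo0_apply]
    have hin : ((inc (if t then tE else 1) • v : leechLattice) : GolayPt → ℤ) p =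
        if inO p then (v : GolayPt → ℤ) p else 0 := by
      cases t
      · rw [if_neg Bool.false_ne_true, map_one, one_smul]
        split_ifs with hp
        · rfl
        · exact hv' p hp
      · rw [if_pos rfl, tE, pm, inc_mk, Leech.permCo0_apply, perm_tau_inv]
        split_ifs with hp
        · rw [hτO p hp]
        · exact hv' _ (hτN p hp)
    simp only [negOn, hin]
    split_ifs <;> simp
  have hbit : ∀ p, inO p → bitWord n p = if n &&& Data.bm = 0 then 0 else 1 := fun p hp => by
    have h2 : (n &&& Data.bm).testBit (idx p) = n.testBit (idx p) := by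
      rw [Nat.testBit_and, show Data.bm.testBit (idx p) = true from hp, Bool.and_true]
    rcases hO with e | e
    · rw [if_pos e]
      simp only [e, Nat.zero_testBit] at h2
      simp [Leech.bitWord, ← h2]
    · rw [if_neg (by rw [e]; decide +kernel)]
      simp only [e, show Data.bm.testBit (idx p) = true from hp] at h2
      simp [Leech.bitWord, ← h2]
  by_cases h0 : n &&& Data.bm = 0
  · left
    intro v hv
    refine Subtype.ext (funext fun p => ?_)
    rw [hact v hv p]
    split_ifs with hp hb
    · rfl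
    · rw [hbit p hp, if_pos h0] at hb; exact absurd rfl hb
    · exact ((neg_iff v).1 hv p hp).symm
  · right
    intro v hv
    refine Subtype.ext (funext fun p => ?_)
    rw [hact v hv p, AddSubgroup.coe_neg, Pi.neg_apply]
    split_ifs with hp hb
    · rw [hbit p hp, if_neg h0] at hb; exact absurd hb one_ne_zero
    · rfl
    · rw [(neg_iff v).1 hv p hp, neg_zero]

/-- The elements centralising the small group, at the octad involution. -/
noncomputable def EO : Subgroup K2 :=
  Subgroup.centralizer {bO} ⊓ Subgroup.centralizer Z1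

theorem mem_EO {x : K2} : x ∈ EO ↔ Commute x bO ∧ ∀ y ∈ Z1, Commute x y := by
  rw [EO, Subgroup.mem_inf, Subgroup.mem_centralizer_singleton_iff, Subgroup.mem_centralizer_iff]
  exact and_congr Iff.rfl ⟨fun h y hy => (h y hy).symm, fun h y hy => (h y hy).symm.eq⟩

theorem conj_mem_EO {k x : K2} (hk : Commute k bO) (hx : x ∈ EO) : k * x * k⁻¹ ∈ EO := by
  rw [mem_EO] at hx ⊢
  refine ⟨(hk.mul_left hx.1).mul_left hk.inv_left, fun y hy => ?_⟩
  have h := hx.2 _ (conj_mem_Z1 hk.inv_left (hy : y ∈ Z1))
  show k * x * k⁻¹ * y = y * (k * x * k⁻¹)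
  calc k * x * k⁻¹ * y = k * (x * (k⁻¹ * y * k⁻¹⁻¹)) * k⁻¹ := by group
    _ = k * (k⁻¹ * y * k⁻¹⁻¹ * x) * k⁻¹ := by rw [h.eq]
    _ = _ := by group

theorem el_mem_EO {c : Bool × ℕ} (hc : c.2 ∈ perList) : el c ∈ EO :=
  mem_EO.2 ⟨el_comm_bO hc, fun y hy => by
    obtain ⟨d, hd, -, rfl⟩ := Z1_codes hy
    exact el_comm hc hd⟩

/-- The sign words separating the pairs. -/
theorem pair_check : ∀ p r : GolayPt, ¬ inO p → ¬ inO r → r ≠ p →
    r ≠ ptOf (Data.tauL.getD (idx p) 0) →
    perList.any (fun n => n &&& Data.bm == 0 && (n.testBit (idx p) != n.testBit (idx r))) = true := by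
  decide +kernel

/-- Elements centralising the small group keep each pair line. -/
theorem EO_line {x : K2} (hx : x ∈ EO) {p : GolayPt} (hp : ¬ inO p) (t : ℤ) (ht : t = 1 ∨ t = -1)
    (h2 : (2 : ℤ) ∣ 1 + t) (q : GolayPt) (hq : q = ptOf (Data.tauL.getD (idx p) 0)) :
    act x (Leech.fourPair p q 1 t h2) = Leech.fourPair p q 1 t h2 ∨
      act x (Leech.fourPair p q 1 t h2) = -Leech.fourPair p q 1 t h2 := by
  classical
  obtain ⟨hxb, hxZ⟩ := mem_EO.1 hx
  have hτne : ∀ p, ¬ inO p → ptOf (Data.tauL.getD (idx p) 0) ≠ p ∧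
      ¬ inO (ptOf (Data.tauL.getD (idx p) 0)) := by decide +kernel
  obtain ⟨hqp, hqO⟩ := hτne p hp
  rw [← hq] at hqp hqO
  set w := Leech.fourPair p q 1 t h2 with hw
  have hwv : ∀ r, (w : GolayPt → ℤ) r = if r = p then 4 else if r = q then 4 * t else 0 := fun r => by
    simp only [hw, Leech.fourPair]
    by_cases h1 : r = p
    · subst h1; simp [Ne.symm hqp]
    by_cases h3 : r = q
    · subst h3; simp [h1]
    simp [h1, h3]
  have hcomm : ∀ z, Commute x z → ∀ v, act z (act x v) = act x (act z v) := fun z hz v => by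
    show inc z • inc x • v = inc x • inc z • v
    rw [← mul_smul, ← mul_smul, ← map_mul, ← map_mul, hz.eq]
  have hbw : act bO w = w := (fix_iff w).2 fun r hr => by
    rw [hwv, if_neg, if_neg] <;> rintro rfl <;> contradiction
  have hO : ∀ r, inO r → ((act x w : leechLattice) : GolayPt → ℤ) r = 0 :=
    (fix_iff _).1 (by rw [hcomm bO hxb, hbw])
  -- sign words separate the pairs
  have hsup : ∀ r, r ≠ p → r ≠ q → ((act x w : leechLattice) : GolayPt → ℤ) r = 0 := by
    intro r hrp hrq
    by_cases hr : inO r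
    · exact hO r hr
    obtain ⟨n, hn, hb⟩ := List.any_eq_true.1 (pair_check p r hp hr hrp (hq ▸ hrq))
    rw [Bool.and_eq_true, beq_iff_eq] at hb
    have hz := el_mem_Z1 (c := (false, n)) hn (Or.inl hb.1)
    have hel : ∀ v : leechLattice, ((act (el (false, n)) v : leechLattice) : GolayPt → ℤ) =
        negOn (bitWord n) (v : GolayPt → ℤ) := fun v => by
      show ((inc (el (false, n)) • v : leechLattice) : GolayPt → ℤ) = _
      rw [show el (false, n) = sgn n by simp [el], inc_sgn (avMasks_spec n (per_av hn).1),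
        Leech.signCo0_apply]
    have hpq : bitWord n q = bitWord n p := by
      have h := congrFun (congrArg bitWord (per_av hn).2) p
      rw [bitWord_pmask tau_ok.1 tau_ok.2.1 n] at h
      simpa [perm_tau_inv, hq] using h
    have hzw : act (el (false, n)) w = if bitWord n p = 0 then w else -w := by
      refine Subtype.ext (funext fun i => ?_)
      rw [hel]
      simp only [negOn, hwv]
      split_ifs with a b c d <;> simp_all
    have hzxw := hcomm _ (hxZ _ hz) w
    rw [hzw] at hzxw
    have hr2 := congrFun (congrArg Subtype.val hzxw) r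
    rw [hel] at hr2
    simp only [negOn] at hr2
    have hneg : act x (-w) = -act x w := Leech.smul_neg' _ _
    have hne : bitWord n p ≠ bitWord n r := by
      intro e
      simp only [Leech.bitWord] at e
      cases h1 : n.testBit (idx p) <;> cases h2' : n.testBit (idx r) <;> simp [h1, h2'] at e hb ⊢
    rcases Leech.zmod2_cases (bitWord n p) with e1 | e1 <;>
      rcases Leech.zmod2_cases (bitWord n r) with e2 | e2
    · exact absurd (e1.trans e2.symm) hne
    · rw [e1, e2] at hr2
      simp [hneg] at hr2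
      omega
    · rw [e1, e2] at hr2
      simp [hneg] at hr2
      omega
    · exact absurd (e1.trans e2.symm) hne
  -- the translation fixes or negates the vector
  have hτpq : ptOf (Data.tauL.getD (idx q) 0) = p := by
    rw [hq, Leech.idx_ptOf _ (tau_ok.2.1 _ (Leech.idx_lt p)), tau_ok.2.2 _ (Leech.idx_lt p),
      Leech.ptOf_idx]
  have hel : ∀ v : leechLattice, ∀ i, ((act (el (true, 0)) v : leechLattice) : GolayPt → ℤ) i =
      (v : GolayPt → ℤ) (ptOf (Data.tauL.getD (idx i) 0)) := fun v i => by
    show ((inc (el (true, 0)) • v : leechLattice) : GolayPt → ℤ) i = _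
    rw [show el (true, 0) = tE by simp [el, sgn_zero], tE, pm, inc_mk, Leech.permCo0_apply,
      perm_tau_inv]
  have hzT : act (el (true, 0)) w = if t = 1 then w else -w := by
    refine Subtype.ext (funext fun i => ?_)
    rw [hel, hwv]
    have hi : ∀ a, ptOf (Data.tauL.getD (idx i) 0) = a ↔ i = ptOf (Data.tauL.getD (idx a) 0) :=
      fun a => ⟨fun e => by
        rw [← e, Leech.idx_ptOf _ (tau_ok.2.1 _ (Leech.idx_lt i)), tau_ok.2.2 _ (Leech.idx_lt i),
          Leech.ptOf_idx], fun e => by
        rw [e, Leech.idx_ptOf _ (tau_ok.2.1 _ (Leech.idx_lt a)), tau_ok.2.2 _ (Leech.idx_lt a),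
          Leech.ptOf_idx]⟩
    rw [if_congr (hi p) rfl rfl, if_congr (hi q) rfl rfl, ← hq, hτpq]
    rcases ht with rfl | rfl
    · rw [if_pos rfl, hwv]
      by_cases a : i = p
      · have b : i ≠ q := fun b => hqp (b.symm.trans a)
        rw [if_neg b, if_pos a, if_pos a]; norm_num
      · by_cases b : i = q
        · rw [if_pos b, if_neg a, if_pos b]; norm_num
        · rw [if_neg b, if_neg a, if_neg a, if_neg b]
    · rw [if_neg (show ¬ (-1 : ℤ) = 1 by norm_num), AddSubgroup.coe_neg, Pi.neg_apply, hwv]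
      by_cases a : i = p
      · have b : i ≠ q := fun b => hqp (b.symm.trans a)
        rw [if_neg b, if_pos a, if_pos a]; norm_num
      · by_cases b : i = q
        · rw [if_pos b, if_neg a, if_pos b]; norm_num
        · rw [if_neg b, if_neg a, if_neg a, if_neg b]; norm_num
  have hzxw := hcomm _ (hxZ _ (el_mem_Z1 (c := (true, 0))
    (Leech.zero_mem_spanList _) (Or.inl (Nat.zero_and _)))) w
  rw [hzT] at hzxw
  have hqv : ((act x w : leechLattice) : GolayPt → ℤ) q =
      t * ((act x w : leechLattice) : GolayPt → ℤ) p := by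
    have h := congrFun (congrArg Subtype.val hzxw) p
    rw [hel, ← hq] at h
    rcases ht with rfl | rfl
    · simpa using h
    · simp [act, Leech.smul_neg'] at h ⊢
      linarith
  have hn : sqNorm ((act x w : leechLattice) : GolayPt → ℤ) = 32 := by
    show sqNorm ((inc x • w : leechLattice) : GolayPt → ℤ) = 32
    rw [Leech.sqNorm_smul]
    exact Leech.norm_fourPair (Ne.symm hqp) (by norm_num) (by rcases ht with rfl | rfl <;> norm_num) _
  set a := ((act x w : leechLattice) : GolayPt → ℤ) p with ha
  have h16 : a ^ 2 = 16 := by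
    generalize hf : ((act x w : leechLattice) : GolayPt → ℤ) = f at ha hn hsup hqv
    have e : sqNorm f = f p ^ 2 + f q ^ 2 := by
      rw [sqNorm, ← Finset.sum_subset (Finset.subset_univ ({p, q} : Finset GolayPt))
        (fun r _ hr => by
          simp only [Finset.mem_insert, Finset.mem_singleton, not_or] at hr
          rw [hsup r hr.1 hr.2]; norm_num), Finset.sum_pair (Ne.symm hqp)]
    rw [e, hqv, ← ha] at hn
    rcases ht with rfl | rfl <;> linarith
  have h4 : a = 4 ∨ a = -4 := by
    have : (a - 4) * (a + 4) = 0 := by ring_nf; linarith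
    rcases mul_eq_zero.1 this with e | e <;> omega
  rcases h4 with e | e
  · refine Or.inl (Subtype.ext (funext fun r => ?_))
    rw [hwv]
    split_ifs with h1 h3
    · rw [h1, ← ha, e]
    · rw [h3, hqv, e]; ring
    · exact hsup r h1 h3
  · refine Or.inr (Subtype.ext (funext fun r => ?_))
    rw [AddSubgroup.coe_neg, Pi.neg_apply, hwv]
    split_ifs with h1 h3
    · rw [h1, ← ha, e]
    · rw [h3, hqv, e]; ring
    · rw [hsup r h1 h3, neg_zero]

/-- Two elements centralising the small group commute up to the octad involution. -/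
theorem EO_commutator {x y : K2} (hx : x ∈ EO) (hy : y ∈ EO) :
    x * y = y * x ∨ x * y = y * x * bO := by
  classical
  set g := (y * x)⁻¹ * (x * y) with hg
  have hfix : ∀ p, ¬ inO p → inc g • Leech.oct p = (1 : ℤ) • Leech.oct p := by
    intro p hp
    obtain ⟨q, hq⟩ : ∃ q, q = ptOf (Data.tauL.getD (idx p) 0) := ⟨_, rfl⟩
    have hqp : q ≠ p := hq ▸ (show ∀ p, ¬ inO p → ptOf (Data.tauL.getD (idx p) 0) ≠ p by
      decide +kernel) p hp
    have key : ∀ (t : ℤ) (h2 : (2 : ℤ) ∣ 1 + t), (t = 1 ∨ t = -1) →
        inc g • Leech.fourPair p q 1 t h2 = Leech.fourPair p q 1 t h2 := by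
      intro t h2 ht
      have hx' := EO_line hx hp t ht h2 q hq
      have hy' := EO_line hy hp t ht h2 q hq
      rw [hg, map_mul, map_inv, map_mul, map_mul, mul_smul, inv_smul_eq_iff, mul_smul, mul_smul]
      simp only [act] at hx' hy'
      rcases hx' with a | a <;> rcases hy' with b | b <;> simp [a, b, Leech.smul_neg']
    have hsum : Leech.oct p =
        Leech.fourPair p q 1 1 (by norm_num) + Leech.fourPair p q 1 (-1) (by norm_num) :=
      Subtype.ext (funext fun r => by
        simp only [Leech.oct, Leech.fourPair, AddSubgroup.coe_add, Pi.add_apply]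
        by_cases h1 : r = p
        · subst h1; simp [Ne.symm hqp]
        by_cases h3 : r = q
        · subst h3; simp [h1]
        simp [h1, h3])
    rw [one_zsmul]
    conv_lhs => rw [hsum, Leech.smul_add', key 1 _ (Or.inl rfl), key (-1) _ (Or.inr rfl)]
    exact hsum.symm
  obtain ⟨σ, hσ, c, hc, hgm⟩ := Leech.exists_of_stdFrame (inc g)
    (frame_of_scalar (Or.inl rfl) hfix ⟨none, by decide +kernel⟩)
  have hpt : ∀ p, ¬ inO p → σ p = p ∧ c p = 0 := fun p hp => by
    have hσp : σ p = p := by
      by_contra hne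
      have h := congrFun (congrArg Subtype.val (hfix p hp)) p
      rw [hgm, mul_smul, Leech.signCo0_apply, one_zsmul] at h
      simp only [negOn, Leech.permCo0_apply, Leech.oct, Pi.single_eq_same] at h
      rw [Pi.single_eq_of_ne (fun e => hne (by rw [← Equiv.Perm.inv_eq_iff_eq.1 e])), neg_zero,
        ite_self] at h
      omega
    refine ⟨hσp, ?_⟩
    have h := congrFun (congrArg Subtype.val (hfix p hp)) p
    rw [hgm, mul_smul, Leech.signCo0_apply, one_zsmul] at h
    simp only [negOn, Leech.permCo0_apply, Leech.oct, Pi.single_eq_same,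
      show σ⁻¹ p = p from Equiv.Perm.inv_eq_iff_eq.2 hσp.symm] at h
    rcases Leech.zmod2_cases (c p) with e | e
    · exact e
    · rw [e] at h; simp at h
  obtain rfl := fix_compl_eq_one hσ fun p hp => (hpt p hp).1
  have hg' : inc g = signCo0 c hc := by
    rw [hgm]
    refine mul_eq_left.2 (Leech.ext_of_oct fun i => Subtype.ext (funext fun r => ?_))
    rw [one_smul, Leech.permCo0_apply]
    rfl
  obtain ⟨n, hn, hnc, hne⟩ := exists_sgn g hg'
  have hcase : n = 0 ∨ n = Data.bm := by
    have hall : (avMasks.all fun n => !((List.range 24).all fun j =>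
        Data.bm.testBit j || !n.testBit j) || (n == 0 || n == Data.bm)) = true := by decide +kernel
    have h := List.all_eq_true.1 hall n hn
    have hj : (List.range 24).all (fun j => Data.bm.testBit j || !n.testBit j) = true := by
      refine List.all_eq_true.2 fun j hj => ?_
      rw [List.mem_range] at hj
      by_cases hb : Data.bm.testBit j = true
      · simp [hb]
      · have hz := (hpt (ptOf j) (by
          show ¬ Data.bm.testBit (idx (ptOf j)) = true
          rw [Leech.idx_ptOf j hj]; exact hb)).2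
        rw [← hnc] at hz
        simp only [Leech.bitWord, Leech.idx_ptOf j hj] at hz
        cases h1 : n.testBit j
        · simp
        · simp [h1] at hz
    rw [hj] at h
    simpa using h
  rcases hcase with rfl | rfl
  · left
    rw [sgn_zero, hg, inv_mul_eq_one] at hne
    exact hne.symm
  · right
    rw [hg, inv_mul_eq_iff_eq_mul] at hne
    exact hne

end Cfsg.Agent.CoTwoUniq
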