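import Cfsg.Agent.CoTwoUniq.Classes
import Cfsg.Agent.CoTwoUniq.Defs

/-!
The monomial group and its three orbits of sign changes; a sign change of weight eight has a larger
centraliser in it than one of weight twelve, whose whole centraliser is monomial.
-/

set_option autoImplicit false

open Cfsg

namespace Cfsg.Agent.CoTwoUniq

open Cfsg.Agent.Leech (bitWord dec signCo0 permCo0 idx ptOf)
open scoped Pointwise

theorem conj_mono (σ : Equiv.Perm GolayPt) (hσ : σ ∈ M24) (c e : Word) (hc : c ∈ golayCode)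
    (he : e ∈ golayCode) :
    signCo0 c hc * permCo0 σ hσ * signCo0 e he * (signCo0 c hc * permCo0 σ hσ)⁻¹ =
      signCo0 (fun p => e (σ⁻¹ p)) (Leech.comp_mem_of_M24 (inv_mem hσ) he) := by
  rw [show signCo0 c hc * permCo0 σ hσ * signCo0 e he * (signCo0 c hc * permCo0 σ hσ)⁻¹ =
    signCo0 c hc * (permCo0 σ hσ * signCo0 e he * (permCo0 σ hσ)⁻¹) * (signCo0 c hc)⁻¹ by group,
    Leech.conj_perm_sign, Leech.signCo0_inv, Leech.signCo0_mul, Leech.signCo0_mul]
  refine Leech.signCo0_congr ?_ _ _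
  rw [add_comm c, add_assoc, CharTwo.add_self_eq_zero, add_zero]

/-- A monomial automorphism. -/
def MonoAut (g : ↥Co0) : Prop :=
  ∃ σ, ∃ hσ : σ ∈ M24, ∃ c, ∃ hc : c ∈ golayCode, g = signCo0 c hc * permCo0 σ hσ

theorem monoAut_mul {g h : ↥Co0} (hg : MonoAut g) (hh : MonoAut h) : MonoAut (g * h) := by
  obtain ⟨σ, hσ, c, hc, rfl⟩ := hg
  obtain ⟨τ, hτ, e, he, rfl⟩ := hh
  refine ⟨σ * τ, mul_mem hσ hτ, _, add_mem hc (Leech.comp_mem_of_M24 (inv_mem hσ) he), ?_⟩
  rw [← Leech.signCo0_mul c _ hc (Leech.comp_mem_of_M24 (inv_mem hσ) he),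
    Leech.permCo0_mul σ τ hσ hτ]
  simp only [← mul_assoc]
  congr 1
  rw [mul_assoc (signCo0 c hc), mul_assoc (signCo0 c hc)]
  congr 1
  exact (mul_inv_eq_iff_eq_mul.1 (Leech.conj_perm_sign σ hσ e he))

theorem monoAut_one : MonoAut 1 :=
  ⟨1, one_mem _, 0, zero_mem _, Leech.ext_of_oct fun i => Subtype.ext (funext fun q => by
    rw [one_smul, Leech.signCo0_zero, one_mul, Leech.permCo0_apply]; simp)⟩

/-- The monomial group. -/
def monoK : Subgroup K2 :=
  let _ : Finite K2 := co2_finite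
  { carrier := {x | MonoAut (inc x)}
    one_mem' := by show MonoAut (inc 1); rw [map_one]; exact monoAut_one
    mul_mem' := fun {a b} ha hb => by
      show MonoAut (inc (a * b))
      rw [map_mul]; exact monoAut_mul ha hb
    inv_mem' := fun {a} ha => by
      show MonoAut (inc a⁻¹)
      have hp : ∀ n : ℕ, MonoAut (inc (a ^ n)) := fun n => by
        induction n with
        | zero => rw [pow_zero, map_one]; exact monoAut_one
        | succ n ih => rw [pow_succ, map_mul]; exact monoAut_mul ih ha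
      have h := hp (orderOf a - 1)
      have hlt := orderOf_pos a
      rwa [← inv_eq_of_mul_eq_one_right (show a * a ^ (orderOf a - 1) = 1 by
        rw [← pow_succ', show orderOf a - 1 + 1 = orderOf a by omega, pow_orderOf_eq_one])] at h }

theorem mem_monoK {x : K2} : x ∈ monoK ↔ MonoAut (inc x) := Iff.rfl

theorem pm_mem {P Q : List ℕ} (h : PermOK P Q) : pm h ∈ monoK :=
  ⟨_, perm_mem h, 0, zero_mem _, by rw [pm, inc_mk, Leech.signCo0_zero, one_mul]⟩

/-- Conjugates of sign changes by monomial elements. -/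
theorem mono_conj_sgn {x : K2} (hx : x ∈ monoK) {n : ℕ} (hn : n ∈ avMasks) :
    ∃ m ∈ avMasks, pop m = pop n ∧ x * sgn n * x⁻¹ = sgn m := by
  obtain ⟨σ, hσ, c, hc, hx⟩ := hx
  have h : inc (x * sgn n * x⁻¹) =
      signCo0 (fun p => bitWord n (σ⁻¹ p))
        (Leech.comp_mem_of_M24 (inv_mem hσ) (av_mem (avMasks_spec n hn))) := by
    rw [map_mul, map_mul, map_inv, hx, inc_sgn (avMasks_spec n hn), conj_mono]
  obtain ⟨m, hm, hmw, hme⟩ := exists_sgn _ h
  refine ⟨m, hm, ?_, hme⟩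
  rw [pop, pop, ← Leech.hammingNorm_bitWord, ← Leech.hammingNorm_bitWord, hmw]
  exact CoOneUniq.Endgame.hammingNorm_comp σ⁻¹ _

/-- The words of an orbit program with its root. -/
def orb (root : ℕ) (ops : List ℕ) : List ℕ := root :: prog root ops [root]

theorem zOrb_ok :
    ((avMasks.filter fun n => pop n == 16).all fun n =>
      (keySet (orb Data.zm Data.zProg)).testBit (n % 4096)) = true := by decide +kernel

theorem dOrb_ok :
    ((avMasks.filter fun n => pop n == 12).all fun n =>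
      (keySet (orb Data.dm Data.dProg)).testBit (n % 4096)) = true := by decide +kernel

theorem bOrb_ok :
    ((avMasks.filter fun n => pop n == 8).all fun n =>
      (keySet (orb Data.bm Data.bProg)).testBit (n % 4096)) = true := by decide +kernel

theorem dOrb_nodup :
    Leech.Model.noRep 0 ((orb Data.dm Data.dProg).map (· % 4096)) = true ∧
      (orb Data.dm Data.dProg).length = 616 := by
  refine ⟨?_, ?_⟩ <;> decide +kernel

theorem count_eight : (avMasks.filter fun n => pop n == 8).length = 330 := by decide +kernel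

theorem base_facts :
    (Data.zm ∈ avMasks ∧ pop Data.zm = 16) ∧ (Data.dm ∈ avMasks ∧ pop Data.dm = 12) ∧
      (Data.bm ∈ avMasks ∧ pop Data.bm = 8) ∧ (Data.pm1 ∈ avMasks ∧ pop Data.pm1 = 16) ∧
      Data.pm2 = Data.pm1 ^^^ Data.dm := by
  refine ⟨⟨?_, ?_⟩, ⟨?_, ?_⟩, ⟨?_, ?_⟩, ⟨?_, ?_⟩, ?_⟩ <;> decide +kernel

theorem av_bm : Av Data.bm := avMasks_spec _ base_facts.2.2.1.1

theorem av_dm : Av Data.dm := avMasks_spec _ base_facts.2.1.1

theorem conj_base {root : ℕ} (hr : Av root) (ops : List ℕ) {n : ℕ} (hn : n ∈ orb root ops) :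
    Av n ∧ ∃ x ∈ monoK, x * sgn root * x⁻¹ = sgn n := by
  have h1 : Av root ∧ ∃ x ∈ monoK, x * sgn root * x⁻¹ = sgn root := ⟨hr, 1, one_mem _, by group⟩
  rw [orb] at hn
  rcases List.mem_cons.1 hn with e | hn
  · rw [e]; exact h1
  have h2 := pm_mem gen_ok.1
  have h3 := pm_mem gen_ok.2.1
  have h4 : ∀ k ∈ [root], Av k ∧ ∃ x ∈ monoK, x * sgn root * x⁻¹ = sgn k := by
    intro k hk
    rw [List.mem_singleton] at hk
    rw [hk]; exact h1
  have h5 := isConj_prog root monoK h2 h3 hr ops [root] h4 n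
  exact h5 hn

theorem conj_weight {root w : ℕ} (hr : Av root) {ops : List ℕ}
    (hok : ((avMasks.filter fun n => pop n == w).all fun n =>
      (keySet (orb root ops)).testBit (n % 4096)) = true) {n : ℕ} (hn : n ∈ avMasks)
    (hw : pop n = w) : ∃ x ∈ monoK, x * sgn root * x⁻¹ = sgn n := by
  revert hok
  generalize hL : orb root ops = L
  generalize hM : n % 4096 = key
  intro hok
  rw [List.all_eq_true] at hok
  have hmem : n ∈ avMasks.filter fun n => pop n == w := by
    rw [List.mem_filter, beq_iff_eq]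
    exact ⟨hn, hw⟩
  have h1 := hok n hmem
  rw [hM] at h1
  obtain ⟨m, hm, e⟩ := testBit_keySet h1
  subst hM hL
  obtain ⟨hav, x, hx, hxe⟩ := conj_base hr ops hm
  exact ⟨x, hx, hxe.trans (sgn_eq_of_mod hav (avMasks_spec n hn) e)⟩

/-- Sign changes are conjugate to the three base ones, by monomial elements. -/
theorem conj_by_weight {n : ℕ} (hn : n ∈ avMasks) :
    (pop n = 16 → ∃ x ∈ monoK, x * sgn Data.zm * x⁻¹ = sgn n) ∧
    (pop n = 12 → ∃ x ∈ monoK, x * sgn Data.dm * x⁻¹ = sgn n) ∧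
    (pop n = 8 → ∃ x ∈ monoK, x * sgn Data.bm * x⁻¹ = sgn n) :=
  ⟨conj_weight av_zm zOrb_ok hn, conj_weight av_dm dOrb_ok hn, conj_weight av_bm bOrb_ok hn⟩

theorem tr_base : tr (sgn Data.zm) = 5 ∧ tr (sgn Data.dm) = 0 ∧ tr (sgn Data.bm) = 8 := by
  obtain ⟨⟨-, z2⟩, ⟨-, d2⟩, ⟨-, b2⟩, -⟩ := base_facts
  refine ⟨?_, ?_, ?_⟩
  · rw [tr_sgn av_zm, z2]; decide
  · rw [tr_sgn av_dm, d2]; decide
  · rw [tr_sgn av_bm, b2]; decide

/-- An involution is conjugate to the sign change of one of the three base words, as its trace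
says. -/
theorem classes {x : K2} (hx : orderOf x = 2) :
    (tr x = 5 ∧ IsConj (sgn Data.zm) x) ∨ (tr x = 0 ∧ IsConj (sgn Data.dm) x) ∨
      (tr x = 8 ∧ IsConj (sgn Data.bm) x) := by
  obtain ⟨n, hn, h0, h⟩ := exists_isConj_sgn hx
  rw [tr_isConj h]
  rcases av_trace hn with ⟨e, -⟩ | ⟨e, ht⟩ | ⟨e, ht⟩ | ⟨e, ht⟩
  · exact absurd e h0
  · obtain ⟨y, -, hy⟩ := (conj_by_weight hn).2.2 e
    exact Or.inr (Or.inr ⟨ht, (isConj_iff.2 ⟨y, hy⟩).trans h.symm⟩)
  · obtain ⟨y, -, hy⟩ := (conj_by_weight hn).2.1 e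
    exact Or.inr (Or.inl ⟨ht, (isConj_iff.2 ⟨y, hy⟩).trans h.symm⟩)
  · obtain ⟨y, -, hy⟩ := (conj_by_weight hn).1 e
    exact Or.inl ⟨ht, (isConj_iff.2 ⟨y, hy⟩).trans h.symm⟩

/-- A dodecad word gives a monomial centraliser. -/
theorem comm_dm_mono {x : K2} (hx : Commute x (sgn Data.dm)) : x ∈ monoK := by
  classical
  have hc := av_mem av_dm
  have h12 : hammingNorm (bitWord Data.dm) = 12 :=
    (Leech.hammingNorm_bitWord _).trans base_facts.2.1.2
  have m1 : support₂ (bitWord Data.dm) ∈ dodecads :=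
    ⟨⟨_, hc, rfl⟩, (Leech.hammingNorm_eq_card _).symm.trans h12⟩
  have m2 : support₂ CoOneUniq.Endgame.dW ∈ dodecads :=
    ⟨⟨_, CoOneUniq.Endgame.dW_mem, rfl⟩,
      (Leech.hammingNorm_eq_card _).symm.trans CoOneUniq.Endgame.dW_facts.2.1⟩
  obtain ⟨g, hg, hgo⟩ := Compute.exists_move_dodecad m1
  obtain ⟨k, hk, hko⟩ := Compute.exists_move_dodecad m2
  have hgk : g⁻¹ * k ∈ M24 := mul_mem (inv_mem hg) hk
  have e : (g⁻¹ * k) • support₂ CoOneUniq.Endgame.dW = support₂ (bitWord Data.dm) := by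
    rw [mul_smul, hko, ← hgo, inv_smul_smul]
  rw [Leech.smul_support₂] at e
  set p := permCo0 (g⁻¹ * k) hgk with hp
  have hperm : p * signCo0 _ CoOneUniq.Endgame.dW_mem * p⁻¹ = signCo0 (bitWord Data.dm) hc :=
    (Leech.conj_perm_sign _ hgk _ _).trans (Leech.signCo0_congr (Leech.support₂_injective e) _ _)
  have h1 : inc x * signCo0 _ hc = signCo0 _ hc * inc x := by
    rw [← inc_sgn av_dm, ← map_mul, ← map_mul, hx.eq]
  have hy : p⁻¹ * inc x * p * signCo0 _ CoOneUniq.Endgame.dW_mem =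
      signCo0 _ CoOneUniq.Endgame.dW_mem * (p⁻¹ * inc x * p) := by
    calc p⁻¹ * inc x * p * signCo0 _ CoOneUniq.Endgame.dW_mem
        = p⁻¹ * (inc x * (p * signCo0 _ CoOneUniq.Endgame.dW_mem * p⁻¹)) * p := by group
      _ = p⁻¹ * (p * signCo0 _ CoOneUniq.Endgame.dW_mem * p⁻¹ * inc x) * p := by rw [hperm, h1]
      _ = _ := by group
  obtain ⟨σ, hσ, c, hcc, hm⟩ := CoOneUniq.Endgame.mono_of_comm
    (x := Leech.CentOne.toCo (p⁻¹ * inc x * p)) (by
      rw [CoOneUniq.Endgame.dC, CoOneUniq.Endgame.sg_eq CoOneUniq.Endgame.dW_mem, ← map_mul,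
        ← map_mul, hy])
  have hmy : MonoAut (p⁻¹ * inc x * p) := by
    rcases Leech.CentOne.toCo_eq_iff.1 hm.symm with e | e
    · exact ⟨σ, hσ, c, hcc, e⟩
    · refine ⟨σ, hσ, c + 1, add_mem hcc Leech.one_mem, ?_⟩
      rw [e, mul_assoc, Leech.zneg_comm, ← mul_assoc,
        ← Leech.signCo0_mul c 1 hcc Leech.one_mem]
      rfl
  have hmp : ∀ q ∈ M24, ∀ h : q ∈ M24, MonoAut (permCo0 q h) := fun q _ h =>
    ⟨q, h, 0, zero_mem _, by rw [Leech.signCo0_zero, one_mul]⟩
  have hinv : p⁻¹ = permCo0 (g⁻¹ * k)⁻¹ (inv_mem hgk) := inv_eq_of_mul_eq_one_right (by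
    rw [hp, ← Leech.permCo0_mul]
    refine Leech.ext_of_oct fun i => Subtype.ext (funext fun q => ?_)
    rw [one_smul, Leech.permCo0_apply]
    simp)
  show MonoAut (inc x)
  rw [show inc x = p * (p⁻¹ * inc x * p) * p⁻¹ by group]
  refine monoAut_mul (monoAut_mul (hmp _ hgk _) hmy) ?_
  rw [hinv]; exact hmp _ (inv_mem hgk) _

/-- The monomial centraliser of the octad word is larger than that of the dodecad word. -/
theorem card_cent_lt :
    Nat.card ↥(monoK ⊓ Subgroup.centralizer {sgn Data.dm}) <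
      Nat.card ↥(monoK ⊓ Subgroup.centralizer {sgn Data.bm}) := by
  classical
  let act (a : K2) : MulAction ↥monoK K2 := MulAction.compHom K2
    ((MulAut.conj : K2 →* MulAut K2).comp monoK.subtype)
  let _ : MulAction ↥monoK K2 := act 1
  have hsmul : ∀ (m : ↥monoK) (y : K2), m • y = (m : K2) * y * (m : K2)⁻¹ := fun _ _ => rfl
  have hstab : ∀ y : K2, Nat.card (MulAction.stabilizer ↥monoK y) =
      Nat.card ↥(monoK ⊓ Subgroup.centralizer {y}) := fun y => Nat.card_congr
    { toFun := fun m => ⟨m.1.1, m.1.2, Subgroup.mem_centralizer_singleton_iff.2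
        (mul_inv_eq_iff_eq_mul.1 ((hsmul _ _).symm.trans m.2))⟩
      invFun := fun m => ⟨⟨m.1, m.2.1⟩, by
        rw [MulAction.mem_stabilizer_iff, hsmul]
        exact mul_inv_eq_iff_eq_mul.2 (Subgroup.mem_centralizer_singleton_iff.1 m.2.2)⟩
      left_inv := fun _ => rfl
      right_inv := fun _ => rfl }
  have hcount : ∀ y : K2, Nat.card (MulAction.orbit ↥monoK y) *
      Nat.card ↥(monoK ⊓ Subgroup.centralizer {y}) = Nat.card ↥monoK := fun y => by
    rw [← hstab, ← Nat.card_prod]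
    exact Nat.card_congr (MulAction.orbitProdStabilizerEquivGroup ↥monoK y)
  have hb : Nat.card (MulAction.orbit ↥monoK (sgn Data.bm)) ≤ 330 := by
    rw [← count_eight, Nat.card_coe_set_eq]
    refine le_trans ?_ (List.toFinset_card_le _)
    refine le_trans ?_ (Finset.card_image_le (f := sgn))
    rw [← Set.ncard_coe_finset]
    refine Set.ncard_le_ncard ?_ (Finset.finite_toSet _)
    rintro _ ⟨m, rfl⟩
    obtain ⟨n, hn, hp, he⟩ := mono_conj_sgn m.2 base_facts.2.2.1.1
    simp only [Finset.coe_image, Set.mem_image, Finset.mem_coe, List.mem_toFinset, List.mem_filter]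
    exact ⟨n, ⟨hn, by rw [hp, base_facts.2.2.1.2]; rfl⟩, he.symm⟩
  have hd : 330 < Nat.card (MulAction.orbit ↥monoK (sgn Data.dm)) := by
    have hnd := (Leech.Model.noRep_spec _ 0 dOrb_nodup.1).1
    have hav : ∀ n ∈ orb Data.dm Data.dProg, Av n := fun n hn => (conj_base av_dm _ hn).1
    have hl : ((orb Data.dm Data.dProg).map sgn).Nodup := by
      refine (List.Nodup.of_map (· % 4096) hnd).map_on fun m hm n hn h => ?_
      exact List.inj_on_of_nodup_map hnd hm hn (mod_eq_of_sgn (hav m hm) (hav n hn) h)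
    have hcard := List.toFinset_card_of_nodup hl
    rw [List.length_map, dOrb_nodup.2] at hcard
    rw [Nat.card_coe_set_eq]
    refine lt_of_lt_of_le (show 330 < 616 by norm_num) ?_
    rw [← hcard, ← Set.ncard_coe_finset]
    refine Set.ncard_le_ncard ?_ (Set.toFinite _)
    intro y hy
    simp only [Finset.mem_coe, List.mem_toFinset, List.mem_map] at hy
    obtain ⟨n, hn, rfl⟩ := hy
    obtain ⟨-, m, hm, he⟩ := conj_base av_dm Data.dProg hn
    exact ⟨⟨m, hm⟩, he⟩
  have e1 := hcount (sgn Data.bm)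
  have e2 := hcount (sgn Data.dm)
  have hpos : 0 < Nat.card ↥(monoK ⊓ Subgroup.centralizer {sgn Data.dm}) := Nat.card_pos
  by_contra hle
  rw [not_lt] at hle
  have := Nat.mul_le_mul hb hle
  nlinarith

end Cfsg.Agent.CoTwoUniq
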