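import Mathlib
import Cfsg.Agent.CoTwoUniq.RankThreeData
import Cfsg.Agent.Leech.UnitaryStab
import Cfsg.Agent.Leech.Co2

/-!
The action of the second Conway group on 2300 pairs of short vectors has rank three.

A pair consists of two short vectors with sum the negative of the fixed vector. The stabiliser of
a pair has suborbits of sizes 891 and 1408 and is maximal.
-/

set_option autoImplicit false

open Cfsg
open scoped Pointwise

namespace Cfsg.Agent.CoTwoUniq.RankThree

/-- The property of a subgroup of rank three of the given index and subdegrees. -/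
def Has (G : Type*) [Group G] : Prop :=
  ∃ H : Subgroup G, IsCoatom H ∧ H.index = 2300 ∧
    ∃ q₁ q₂ : G ⧸ H, (MulAction.orbit H q₁).ncard = 891 ∧ (MulAction.orbit H q₂).ncard = 1408

section Abstract

variable {G α : Type*} [Group G] [MulAction G α]

theorem mem_orbit_of_stab {P x : α} (hx : x ∈ MulAction.orbit G P) :
    MulAction.orbit ↥(MulAction.stabilizer G P) x ⊆ MulAction.orbit G P := by
  rintro _ ⟨h, rfl⟩
  obtain ⟨g, rfl⟩ := hx
  exact ⟨(h : G) * g, mul_smul _ _ _⟩

theorem orbit_self (P : α) : MulAction.orbit ↥(MulAction.stabilizer G P) P = {P} := by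
  ext x
  constructor
  · rintro ⟨h, rfl⟩
    exact h.2
  · rintro rfl
    exact MulAction.mem_orbit_self x

/-- A point stabiliser with suborbits of sizes 891 and 1408 among 2300 points. -/
theorem has_of_action (P a b : α) (hP : (MulAction.orbit G P).ncard = 2300)
    (ha : a ∈ MulAction.orbit G P) (hb : b ∈ MulAction.orbit G P)
    (h1 : (MulAction.orbit ↥(MulAction.stabilizer G P) a).ncard = 891)
    (h2 : (MulAction.orbit ↥(MulAction.stabilizer G P) b).ncard = 1408) : Has G := by
  set H := MulAction.stabilizer G P with hH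
  set Oa := MulAction.orbit ↥H a
  set Ob := MulAction.orbit ↥H b
  have hfin : (MulAction.orbit G P).Finite := Set.finite_of_ncard_ne_zero (by omega)
  have fa : Oa.Finite := Set.finite_of_ncard_ne_zero (by omega)
  have fb : Ob.Finite := Set.finite_of_ncard_ne_zero (by omega)
  have hidx : H.index = 2300 := by rw [hH, MulAction.index_stabilizer, hP]
  have self : ∀ x, x ∈ MulAction.orbit ↥H P → x = P := fun x hx => by
    rwa [hH, orbit_self] at hx
  have nPa : P ∉ Oa := fun h => by
    have : Oa = MulAction.orbit ↥H P := (MulAction.orbit_eq_iff.2 h).symm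
    rw [this, hH, orbit_self, Set.ncard_singleton] at h1
    omega
  have nPb : P ∉ Ob := fun h => by
    have : Ob = MulAction.orbit ↥H P := (MulAction.orbit_eq_iff.2 h).symm
    rw [this, hH, orbit_self, Set.ncard_singleton] at h2
    omega
  have dab : Disjoint Oa Ob := Set.disjoint_left.2 fun x xa xb => by
    have e : Oa = Ob := (MulAction.orbit_eq_iff.2 xa).symm.trans (MulAction.orbit_eq_iff.2 xb)
    rw [e] at h1
    omega
  have cPa : (insert P Oa).ncard = 892 := by rw [Set.ncard_insert_of_notMem nPa fa, h1]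
  have cPb : (insert P Ob).ncard = 1409 := by rw [Set.ncard_insert_of_notMem nPb fb, h2]
  have hall : MulAction.orbit G P = insert P Oa ∪ Ob := by
    refine (Set.eq_of_subset_of_ncard_le ?_ ?_ hfin).symm
    · exact Set.union_subset (Set.insert_subset (MulAction.mem_orbit_self P) (mem_orbit_of_stab ha))
        (mem_orbit_of_stab hb)
    · rw [Set.ncard_union_eq (Set.disjoint_insert_left.2 ⟨nPb, dab⟩) (fa.insert P) fb, cPa, h2, hP]
  refine ⟨H, ⟨fun e => by rw [e, Subgroup.index_top] at hidx; omega, fun K hK => ?_⟩, hidx, ?_⟩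
  · -- a larger subgroup moves the point to a union of suborbits
    set S := MulAction.orbit ↥K P
    have hS : S ⊆ MulAction.orbit G P := by
      rintro _ ⟨k, rfl⟩
      exact ⟨(k : G), rfl⟩
    have hclosed : ∀ x ∈ S, MulAction.orbit ↥H x ⊆ S := by
      rintro x ⟨k, rfl⟩ _ ⟨h, rfl⟩
      exact ⟨⟨(h : G), hK.le h.2⟩ * k, mul_smul _ _ _⟩
    have hPS : P ∈ S := MulAction.mem_orbit_self P
    have hcount : S.ncard * K.index = 2300 := by
      rw [← hidx, ← Subgroup.relIndex_mul_index hK.le]
      congr 1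
      rw [← MulAction.index_stabilizer, Subgroup.relIndex]
      rfl
    obtain ⟨k, hkK, hkH⟩ := SetLike.exists_of_lt hK
    have hkS : k • P ∈ S := ⟨⟨k, hkK⟩, rfl⟩
    have hSfin : S.Finite := hfin.subset hS
    have low : ∀ O : Set α, O ⊆ S → (insert P O).ncard ≤ S.ncard := fun O hO =>
      Set.ncard_le_ncard (Set.insert_subset hPS hO) hSfin
    rw [← Subgroup.index_eq_one]
    by_contra hne
    have h2' : 2 ≤ K.index := by
      rcases Nat.lt_or_ge K.index 2 with h | h
      · interval_cases hk : K.index <;> omega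
      · exact h
    have hSle : S.ncard ≤ 1150 := by nlinarith
    have noB : ∀ x ∈ S, x ∉ Ob := fun x hx hxb => by
      have := low Ob (by
        rw [show Ob = MulAction.orbit ↥H x from (MulAction.orbit_eq_iff.2 hxb).symm]
        exact hclosed x hx)
      omega
    have hkA : k • P ∈ Oa := by
      have h := hS hkS
      rw [hall] at h
      rcases h with h | h
      · rcases h with h | h
        · exact absurd h hkH
        · exact h
      · exact absurd h (noB _ hkS)
    have hge := low Oa (by
      rw [show Oa = MulAction.orbit ↥H (k • P) from (MulAction.orbit_eq_iff.2 hkA).symm]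
      exact hclosed _ hkS)
    have hle : S ⊆ insert P Oa := fun x hx => by
      have h := hS hx
      rw [hall] at h
      exact h.resolve_right (noB x hx)
    have := Set.ncard_le_ncard hle (fa.insert P)
    have hS892 : S.ncard = 892 := by omega
    rw [hS892] at hcount
    omega
  · have key : ∀ g : G, (MulAction.orbit ↥H ((g : G) : G ⧸ H)).ncard =
        (MulAction.orbit ↥H (g • P)).ncard := by
      intro g
      rw [← Set.ncard_image_of_injective _ (MulAction.injective_ofQuotientStabilizer G P)]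
      congr 1
      ext x
      constructor
      · rintro ⟨_, ⟨h, rfl⟩, rfl⟩
        exact ⟨h, (MulAction.ofQuotientStabilizer_smul G P (h : G) (g : G ⧸ H)).symm⟩
      · rintro ⟨h, rfl⟩
        exact ⟨_, ⟨h, rfl⟩, MulAction.ofQuotientStabilizer_smul G P (h : G) (g : G ⧸ H)⟩
    obtain ⟨g, rfl⟩ := ha
    obtain ⟨g', rfl⟩ := hb
    exact ⟨(g : G ⧸ H), (g' : G ⧸ H), (key g).trans h1, (key g').trans h2⟩

/-- The same along a surjection. -/
theorem has_of_surjective {G' : Type*} [Group G'] (φ : G' →* G) (hφ : Function.Surjective φ)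
    (P a b : α) (hP : (MulAction.orbit G P).ncard = 2300)
    (ha : a ∈ MulAction.orbit G P) (hb : b ∈ MulAction.orbit G P)
    (h1 : (MulAction.orbit ↥(MulAction.stabilizer G P) a).ncard = 891)
    (h2 : (MulAction.orbit ↥(MulAction.stabilizer G P) b).ncard = 1408) : Has G' := by
  let inst : MulAction G' α := MulAction.compHom α φ
  have e0 : ∀ x : α, MulAction.orbit G' x = MulAction.orbit G x := fun x => by
    ext y
    constructor
    · rintro ⟨g, rfl⟩
      exact ⟨φ g, rfl⟩
    · rintro ⟨g, rfl⟩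
      obtain ⟨g', rfl⟩ := hφ g
      exact ⟨g', rfl⟩
  have e1 : ∀ x : α, MulAction.orbit ↥(MulAction.stabilizer G' P) x =
      MulAction.orbit ↥(MulAction.stabilizer G P) x := fun x => by
    ext y
    constructor
    · rintro ⟨g, rfl⟩
      exact ⟨⟨φ g, g.2⟩, rfl⟩
    · rintro ⟨⟨g, hg⟩, rfl⟩
      obtain ⟨g', rfl⟩ := hφ g
      exact ⟨⟨g', hg⟩, rfl⟩
  exact has_of_action P a b (by rw [e0]; exact hP) (by rw [e0]; exact ha)
    (by rw [e0]; exact hb) (by rw [e1]; exact h1) (by rw [e1]; exact h2)

end Abstract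

section Lattice

open Leech (stabU u62W u62Group layer)

/-- The partners of the fixed vector. -/
def partners : Set ↥leechLattice :=
  {y | y ∈ layer 32 ∧ dotInt Spor.vecU (y : GolayPt → ℤ) = -16}

/-- The other member of a pair. -/
def flip (y : ↥leechLattice) : ↥leechLattice := -Spor.leechU - y

/-- The pair of a partner. -/
def pairOf (y : ↥leechLattice) : Set ↥leechLattice := {y, flip y}

theorem dot_flip (x y : ↥leechLattice) :
    dotInt (x : GolayPt → ℤ) (flip y : GolayPt → ℤ) =
      -dotInt Spor.vecU (x : GolayPt → ℤ) - dotInt (x : GolayPt → ℤ) (y : GolayPt → ℤ) := by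
  rw [Leech.dotInt_comm Spor.vecU, flip]
  simp only [dotInt, AddSubgroup.coe_sub, AddSubgroup.coe_neg, Pi.sub_apply, Pi.neg_apply,
    show (Spor.leechU : GolayPt → ℤ) = Spor.vecU from rfl, mul_sub, mul_neg,
    Finset.sum_sub_distrib, Finset.sum_neg_distrib]

theorem flip_flip (y : ↥leechLattice) : flip (flip y) = y := sub_sub_cancel _ y

theorem flip_mem {y : ↥leechLattice} (hy : y ∈ partners) : flip y ∈ partners := by
  obtain ⟨h1, h2⟩ := hy
  have h3 : dotInt Spor.vecU (flip y : GolayPt → ℤ) = -16 := by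
    rw [show Spor.vecU = (Spor.leechU : GolayPt → ℤ) from rfl, dot_flip,
      show (Spor.leechU : GolayPt → ℤ) = Spor.vecU from rfl, Leech.dot_self, base_facts.1, h2]
    norm_num
  refine ⟨?_, h3⟩
  show sqNorm (flip y : GolayPt → ℤ) = 32
  rw [← Leech.dot_self, dot_flip, Leech.dotInt_comm (flip y : GolayPt → ℤ) (y : GolayPt → ℤ),
    dot_flip, h3, h2, Leech.dot_self, show sqNorm (y : GolayPt → ℤ) = 32 from h1]
  norm_num

theorem flip_ne {y : ↥leechLattice} (hy : y ∈ partners) : flip y ≠ y := fun e => by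
  have h := dot_flip y y
  rw [e, Leech.dot_self, hy.2, show sqNorm (y : GolayPt → ℤ) = 32 from hy.1] at h
  norm_num at h

theorem smul_flip {g : ↥Co0} (hg : g ∈ stabU) (y : ↥leechLattice) : g • flip y = flip (g • y) := by
  rw [flip, flip, sub_eq_add_neg, Leech.smul_add', Leech.smul_neg', Leech.smul_neg',
    show g • Spor.leechU = Spor.leechU from hg, ← sub_eq_add_neg]

theorem smul_pairOf (g : ↥stabU) (y : ↥leechLattice) :
    g • pairOf y = pairOf ((g : ↥Co0) • y) := by
  show (fun x => g • x) '' pairOf y = _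
  rw [pairOf, Set.image_pair, pairOf]
  show ({(g : ↥Co0) • y, (g : ↥Co0) • flip y} : Set ↥leechLattice) = _
  rw [smul_flip g.2]

theorem pairOf_flip (y : ↥leechLattice) : pairOf (flip y) = pairOf y := by
  rw [pairOf, pairOf, flip_flip, Set.pair_comm]

theorem pairOf_eq {y z : ↥leechLattice} (h : pairOf y = pairOf z) : y = z ∨ y = flip z := by
  have : y ∈ pairOf z := h ▸ Set.mem_insert y _
  exact this

theorem smul_partners {g : ↥Co0} (hg : g ∈ stabU) {y : ↥leechLattice} (hy : y ∈ partners) :
    g • y ∈ partners := by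
  refine ⟨?_, ?_⟩
  · show sqNorm _ = 32
    rw [Leech.sqNorm_smul]; exact hy.1
  · have h := Leech.dotInt_smul g Spor.leechU y
    rw [show g • Spor.leechU = Spor.leechU from hg] at h
    exact h.trans hy.2

theorem orbit_partners : MulAction.orbit ↥stabU u62W = partners := by
  obtain ⟨hU, hW, hUW⟩ := base_facts
  ext y
  constructor
  · rintro ⟨⟨k, hk⟩, rfl⟩
    exact smul_partners hk ⟨hW, hUW⟩
  · rintro ⟨a, b⟩
    obtain ⟨k, k1, k2⟩ := Leech.trans_pairs' Spor.leechU u62W Spor.leechU y hU hW hU a
      (-16) (Or.inl rfl) hUW b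
    exact ⟨⟨k, k1⟩, k2⟩

theorem ncard_partners : partners.ncard = 4600 := by
  rw [← Leech.ncard_pairSum32.1,
    ← Leech.ncard_layer_dot Spor.leechU base_facts.1 8 (-16) (-4) (by norm_num)]
  rfl

theorem finite_partners : partners.Finite :=
  Set.finite_of_ncard_ne_zero (by rw [ncard_partners]; norm_num)

/-- A set closed under the flip has twice as many elements as pairs. -/
theorem ncard_pairs {S : Set ↥leechLattice} (hS : S ⊆ partners) (hflip : ∀ y ∈ S, flip y ∈ S) :
    2 * (pairOf '' S).ncard = S.ncard := by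
  classical
  have hfin := finite_partners.subset hS
  rw [Set.ncard_eq_toFinset_card _ hfin, Set.ncard_eq_toFinset_card _ (hfin.image _),
    Finset.card_eq_sum_card_image pairOf hfin.toFinset, Finset.sum_const_nat (m := 2) ?_,
    Set.Finite.toFinset_image, mul_comm]
  intro p hp
  obtain ⟨y, hy, rfl⟩ := Finset.mem_image.1 hp
  rw [hfin.mem_toFinset] at hy
  rw [Finset.card_eq_two]
  refine ⟨y, flip y, (flip_ne (hS hy)).symm, ?_⟩
  ext z
  simp only [Finset.mem_filter, hfin.mem_toFinset, Finset.mem_insert, Finset.mem_singleton]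
  constructor
  · rintro ⟨-, e⟩
    exact pairOf_eq e
  · rintro (rfl | rfl)
    exacts [⟨hy, rfl⟩, ⟨hflip _ hy, pairOf_flip y⟩]

/-- The partners with given scalar product with the chosen one. -/
def level (d : ℤ) : Set ↥leechLattice :=
  {y | y ∈ partners ∧ dotInt (u62W : GolayPt → ℤ) (y : GolayPt → ℤ) = d}

theorem flip_level {d : ℤ} {y : ↥leechLattice} (hy : y ∈ level d) : flip y ∈ level (16 - d) :=
  ⟨flip_mem hy.1, by rw [dot_flip, base_facts.2.2, hy.2]; ring⟩

theorem u62_smul_level {d : ℤ} {g : ↥Co0} (hg : g ∈ u62Group) {y : ↥leechLattice}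
    (hy : y ∈ level d) : g • y ∈ level d := by
  refine ⟨smul_partners hg.1 hy.1, ?_⟩
  conv_lhs => rw [← show g • u62W = u62W from hg.2]
  exact (Leech.dotInt_smul _ _ _).trans hy.2

theorem level_disjoint {d e : ℤ} (h : d ≠ e) {A B : Set ↥leechLattice} (hA : A ⊆ level d)
    (hB : B ⊆ level e) : Disjoint A B :=
  Set.disjoint_left.2 fun _ za zb => h ((hA za).2.symm.trans (hB zb).2)

theorem suborbits : MulAction.orbit ↥u62Group repA = level 16 ∧ (level 16).ncard = 891 ∧
    MulAction.orbit ↥u62Group repB = level 8 ∧ (level 8).ncard = 2816 ∧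
    (∀ y ∈ level 32, y = u62W) := by
  set OA := MulAction.orbit ↥u62Group repA
  set OB := MulAction.orbit ↥u62Group repB
  have hW : u62W ∈ level 32 :=
    ⟨⟨base_facts.2.1, base_facts.2.2⟩, by rw [Leech.dot_self]; exact base_facts.2.1⟩
  have hA : OA ⊆ level 16 := by
    rintro _ ⟨⟨g, hg⟩, rfl⟩
    exact u62_smul_level hg ⟨⟨repA_facts.1, repA_facts.2.1⟩, repA_facts.2.2⟩
  have hB : OB ⊆ level 8 := by
    rintro _ ⟨⟨g, hg⟩, rfl⟩
    exact u62_smul_level hg ⟨⟨repB_facts.1, repB_facts.2.1⟩, repB_facts.2.2⟩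
  have h0 : ({u62W} : Set ↥leechLattice) ⊆ level 32 := Set.singleton_subset_iff.2 hW
  have h0' : ({flip u62W} : Set ↥leechLattice) ⊆ level (-16) :=
    Set.singleton_subset_iff.2 (flip_level hW)
  have hC : flip '' OA ⊆ level 0 := by
    rintro _ ⟨y, hy, rfl⟩
    exact flip_level (hA hy)
  have fA := Leech.finite_orbit u62Group repA
  have fB := Leech.finite_orbit u62Group repB
  have hinj : Function.Injective flip := Function.LeftInverse.injective flip_flip
  have cC : (flip '' OA).ncard = OA.ncard := Set.ncard_image_of_injective _ hinj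
  set U := ({u62W} : Set ↥leechLattice) ∪ {flip u62W} ∪ flip '' OA ∪ OA ∪ OB with hU
  have hUsub : U ⊆ partners := by
    rintro z ((((h | h) | h) | h) | h)
    exacts [(h0 h).1, (h0' h).1, (hC h).1, (hA h).1, (hB h).1]
  have hcard : U.ncard = 2 + (flip '' OA).ncard + OA.ncard + OB.ncard := by
    have f2 : (({u62W} : Set ↥leechLattice) ∪ {flip u62W}).Finite :=
      (Set.finite_singleton _).union (Set.finite_singleton _)
    rw [hU, Set.ncard_union_eq (Set.disjoint_union_left.2 ⟨Set.disjoint_union_left.2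
        ⟨Set.disjoint_union_left.2 ⟨level_disjoint (by norm_num) h0 hB,
          level_disjoint (by norm_num) h0' hB⟩, level_disjoint (by norm_num) hC hB⟩,
          level_disjoint (by norm_num) hA hB⟩) ((f2.union (fA.image _)).union fA) fB,
      Set.ncard_union_eq (Set.disjoint_union_left.2 ⟨Set.disjoint_union_left.2
        ⟨level_disjoint (by norm_num) h0 hA, level_disjoint (by norm_num) h0' hA⟩,
          level_disjoint (by norm_num) hC hA⟩) (f2.union (fA.image _)) fA,
      Set.ncard_union_eq (Set.disjoint_union_left.2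
        ⟨level_disjoint (by norm_num) h0 hC, level_disjoint (by norm_num) h0' hC⟩) f2 (fA.image _),
      Set.ncard_union_eq (level_disjoint (by norm_num) h0 h0') (Set.finite_singleton _)
        (Set.finite_singleton _), Set.ncard_singleton, Set.ncard_singleton]
  have hA' : 891 ≤ OA.ncard := orbitA
  have hB' : 2816 ≤ OB.ncard := orbitB
  have hle := Set.ncard_le_ncard hUsub finite_partners
  rw [hcard, cC, ncard_partners] at hle
  have hEq : U = partners := Set.eq_of_subset_of_ncard_le hUsub
    (by rw [hcard, cC, ncard_partners]; omega) finite_partners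
  have split : ∀ (d : ℤ) (z : ↥leechLattice), z ∈ level d →
      (z = u62W ∧ d = 32) ∨ d = -16 ∨ d = 0 ∨ (z ∈ OA ∧ d = 16) ∨ (z ∈ OB ∧ d = 8) := by
    intro d z hz
    have h : z ∈ U := hEq ▸ hz.1
    rcases h with (((h | h) | h) | h) | h
    · exact Or.inl ⟨h, hz.2.symm.trans (h0 h).2⟩
    · exact Or.inr (Or.inl (hz.2.symm.trans (h0' h).2))
    · exact Or.inr (Or.inr (Or.inl (hz.2.symm.trans (hC h).2)))
    · exact Or.inr (Or.inr (Or.inr (Or.inl ⟨h, hz.2.symm.trans (hA h).2⟩)))
    · exact Or.inr (Or.inr (Or.inr (Or.inr ⟨h, hz.2.symm.trans (hB h).2⟩)))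
  have eA : OA = level 16 := Set.Subset.antisymm hA fun z hz => by
    rcases split 16 z hz with ⟨-, h⟩ | h | h | ⟨h, -⟩ | ⟨-, h⟩ <;>
      first | exact h | exact absurd h (by norm_num)
  have eB : OB = level 8 := Set.Subset.antisymm hB fun z hz => by
    rcases split 8 z hz with ⟨-, h⟩ | h | h | ⟨-, h⟩ | ⟨h, -⟩ <;>
      first | exact h | exact absurd h (by norm_num)
  refine ⟨eA, by rw [← eA]; omega, eB, by rw [← eB]; omega, fun z hz => ?_⟩
  rcases split 32 z hz with ⟨h, -⟩ | h | h | ⟨-, h⟩ | ⟨-, h⟩ <;>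
    first | exact h | exact absurd h (by norm_num)

/-- A member of the stabiliser of the chosen pair moves a level to itself or to its flip. -/
theorem stab_cases {g : ↥stabU} (hg : g ∈ MulAction.stabilizer ↥stabU (pairOf u62W)) :
    (g : ↥Co0) • u62W = u62W ∨ (g : ↥Co0) • u62W = flip u62W :=
  pairOf_eq ((smul_pairOf g u62W).symm.trans hg)

theorem image_level {d : ℤ} {y : ↥leechLattice} (horb : MulAction.orbit ↥u62Group y = level d) :
    MulAction.orbit ↥(MulAction.stabilizer ↥stabU (pairOf u62W)) (pairOf y) =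
      pairOf '' level d := by
  have hy : y ∈ level d := horb ▸ MulAction.mem_orbit_self y
  ext x
  constructor
  · rintro ⟨⟨g, hg⟩, rfl⟩
    show g • pairOf y ∈ pairOf '' level d
    rw [smul_pairOf]
    have hgy : (g : ↥Co0) • y ∈ partners := smul_partners g.2 hy.1
    rcases stab_cases hg with e | e
    · refine ⟨_, ⟨hgy, ?_⟩, rfl⟩
      conv_lhs => rw [← e]
      exact (Leech.dotInt_smul _ _ _).trans hy.2
    · refine ⟨flip ((g : ↥Co0) • y), ⟨flip_mem hgy, ?_⟩, pairOf_flip _⟩
      have h := Leech.dotInt_smul (g : ↥Co0) u62W y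
      rw [e, hy.2, Leech.dotInt_comm, dot_flip, hgy.2, Leech.dotInt_comm] at h
      rw [dot_flip, base_facts.2.2]
      omega
  · rintro ⟨z, hz, rfl⟩
    rw [← horb] at hz
    obtain ⟨⟨g, hg⟩, rfl⟩ := hz
    have hk : (⟨g, hg.1⟩ : ↥stabU) ∈ MulAction.stabilizer ↥stabU (pairOf u62W) := by
      show (⟨g, hg.1⟩ : ↥stabU) • pairOf u62W = pairOf u62W
      rw [smul_pairOf]
      exact congrArg pairOf hg.2
    exact ⟨⟨_, hk⟩, smul_pairOf ⟨g, hg.1⟩ y⟩

theorem orbit_pair : MulAction.orbit ↥stabU (pairOf u62W) = pairOf '' partners := by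
  rw [← orbit_partners]
  ext x
  constructor
  · rintro ⟨g, rfl⟩
    exact ⟨_, ⟨g, rfl⟩, (smul_pairOf g u62W).symm⟩
  · rintro ⟨_, ⟨g, rfl⟩, rfl⟩
    exact ⟨g, smul_pairOf g u62W⟩

end Lattice

theorem equiv_stabU : Nonempty (↥Spor.Co2 ≃* ↥Leech.stabU) := by
  have hle : Spor.Co2 ≤ Co0 := inf_le_left
  have e : Spor.Co2.subgroupOf Co0 = Leech.stabU := by
    ext g
    simp only [Subgroup.mem_subgroupOf, Spor.Co2, Subgroup.mem_inf, Leech.stabU,
      MulAction.mem_stabilizer_iff]
    exact ⟨fun h => h.2, fun h => ⟨g.2, h⟩⟩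
  exact ⟨(Subgroup.subgroupOfEquivOfLe hle).symm.trans (MulEquiv.subgroupCongr e)⟩

/-- A group isomorphic to the second Conway group has a rank three subgroup of index 2300. -/
theorem has_of_equiv {G : Type*} [Group G] (e : G ≃* ↥Spor.Co2) : Has G := by
  obtain ⟨hA, cA, hB, cB, -⟩ := suborbits
  obtain ⟨f⟩ := equiv_stabU
  have mem : ∀ {d : ℤ} {y : ↥leechLattice}, y ∈ level d →
      pairOf y ∈ MulAction.orbit ↥Leech.stabU (pairOf Leech.u62W) := fun hy =>
    orbit_pair ▸ Set.mem_image_of_mem _ hy.1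
  refine has_of_surjective (e.trans f).toMonoidHom (e.trans f).surjective (pairOf Leech.u62W)
    (pairOf repA) (pairOf repB) ?_ (mem (hA ▸ MulAction.mem_orbit_self repA))
    (mem (hB ▸ MulAction.mem_orbit_self repB)) ?_ ?_
  · have h := ncard_pairs (subset_refl partners) fun y hy => flip_mem hy
    rw [ncard_partners] at h
    rw [orbit_pair]
    omega
  · rw [image_level hA, Set.InjOn.ncard_image, cA]
    intro y hy z hz h
    refine (pairOf_eq h).resolve_right fun e' => ?_
    have := (flip_level hz).2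
    rw [← e', hy.2] at this
    omega
  · have h := ncard_pairs (S := level 8) (fun y hy => hy.1) fun y hy => by
      have := flip_level hy
      norm_num at this
      exact this
    rw [cB] at h
    rw [image_level hB]
    omega

/-- The second Conway group itself. -/
theorem rank_three : ∃ H : Subgroup ↥Spor.Co2, IsCoatom H ∧ H.index = 2300 ∧
    ∃ q₁ q₂ : ↥Spor.Co2 ⧸ H, (MulAction.orbit H q₁).ncard = 891 ∧
      (MulAction.orbit H q₂).ncard = 1408 :=
  has_of_equiv (MulEquiv.refl _)

end Cfsg.Agent.CoTwoUniq.RankThree
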