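import Cfsg.Agent.Leech.LatticeModel

/-! Orbit trees stored in blocks of 128 vectors. -/

set_option autoImplicit false

namespace Cfsg.Agent.CoTwoUniq.RankThree
open Cfsg Cfsg.Agent.Leech
open Cfsg.Agent.Leech.Model (pk)

/-- A tree on vectors: each vector with its parent and the generator that leads to it. -/
structure Tree where
  n : ℕ
  vec : List ℕ
  par : List ℕ
  lab : List ℕ

/-- The code of a vector. -/
def Tree.code (T : Tree) (i : ℕ) : ℕ := pk 144 (T.vec.getD (i / 128) 0) (i % 128)

/-- The vector. -/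
def Tree.at' (T : Tree) (i : ℕ) : List ℤ := Model.decV (T.code i)

/-- The parent. -/
def Tree.parent (T : Tree) (i : ℕ) : ℕ := pk 12 (T.par.getD (i / 128) 0) (i % 128)

/-- The generator. -/
def Tree.label (T : Tree) (i : ℕ) : ℕ := pk 2 (T.lab.getD (i / 128) 0) (i % 128)

/-- One vector is the image of its parent. -/
def Tree.stepAt (T : Tree) (fs : List (List ℤ → List ℤ)) (i : ℕ) : Bool :=
  Nat.beq i 0 || Nat.ble T.n i || (Nat.blt (T.parent i) i && Nat.blt (T.label i) fs.length &&
    Model.eqZ ((fs.getD (T.label i) id) (T.at' (T.parent i))) (T.at' i))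

/-- All vectors of a block are images of their parents. -/
def Tree.blockOK (T : Tree) (fs : List (List ℤ → List ℤ)) (c : ℕ) : Bool :=
  (List.range 128).all fun k => T.stepAt fs (128 * c + k)

/-- The vectors are distinct. -/
def Tree.distinct (T : Tree) (M : ℕ) : Bool :=
  noColl M 0 ((List.range T.n).map fun i => encodeL (T.at' i))

theorem Tree.le_ncard (T : Tree) (gens : List LGen) (H : Subgroup ↥Co0)
    (hH : ∀ a ∈ gens, a.g ∈ H) (fs : List (List ℤ → List ℤ)) (hfs : gens.map LGen.f = fs)
    (y : leechLattice) (hroot : Model.eqZ (toL (y : GolayPt → ℤ)) (T.at' 0) = true)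
    (m : ℕ) (hm : T.n ≤ 128 * m) (hblock : ∀ c < m, T.blockOK fs c = true) (M : ℕ)
    (hd : T.distinct M = true) : T.n ≤ (MulAction.orbit ↥H y).ncard := by
  classical
  have reach : ∀ i, i < T.n → ∃ h ∈ H, T.at' i = toL ((h • y : leechLattice) : GolayPt → ℤ) := by
    intro i
    induction i using Nat.strong_induction_on with
    | _ i ih =>
      intro hi
      by_cases h0 : i = 0
      · subst h0
        exact ⟨1, H.one_mem, by rw [one_smul, Model.eq_of_eqZ hroot]⟩
      have hs := List.all_eq_true.1 (hblock (i / 128) (by omega)) (i % 128)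
        (List.mem_range.2 (Nat.mod_lt _ (by norm_num)))
      rw [Nat.div_add_mod] at hs
      simp only [Tree.stepAt, Bool.or_eq_true, Bool.and_eq_true, Nat.blt_eq, Nat.ble_eq] at hs
      rcases hs with (h | h) | ⟨⟨hp, hl⟩, he⟩
      · exact absurd (Nat.eq_of_beq_eq_true h) h0
      · omega
      subst hfs
      rw [List.length_map] at hl
      obtain ⟨h, hh, e⟩ := ih _ hp (by omega)
      refine ⟨(gens[T.label i]).g * h, mul_mem (hH _ (List.getElem_mem hl)) hh, ?_⟩
      rw [← Model.eq_of_eqZ he, e, mul_smul, LGen.spec, List.getD_eq_getElem?_getD]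
      simp [hl]
  have hnd : ((List.range T.n).map fun i => T.at' i).Nodup := by
    have h := (nodup_of_noColl M _ 0 hd).2
    rw [List.map_map] at h
    refine List.Nodup.of_map (fun v => encodeL v % M) ?_
    rw [List.map_map]
    exact h
  have hsub : (((List.range T.n).map fun i => T.at' i).toFinset : Set (List ℤ)) ⊆
      (fun v : leechLattice => toL (v : GolayPt → ℤ)) '' MulAction.orbit ↥H y := by
    intro z hz
    obtain ⟨i, hi, rfl⟩ := List.mem_map.1 (List.mem_toFinset.1 hz)
    obtain ⟨h, hh, e⟩ := reach i (List.mem_range.1 hi)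
    exact ⟨h • y, ⟨⟨h, hh⟩, rfl⟩, e.symm⟩
  calc T.n = (((List.range T.n).map fun i => T.at' i).toFinset : Set (List ℤ)).ncard := by
        rw [Set.ncard_coe_finset, List.toFinset_card_of_nodup hnd, List.length_map, List.length_range]
    _ ≤ _ := Set.ncard_le_ncard hsub ((finite_orbit H y).image _)
    _ ≤ _ := Set.ncard_image_le (finite_orbit H y)

end Cfsg.Agent.CoTwoUniq.RankThree
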