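import Cfsg.Agent.CoTwoUniq.Amalgam
import Cfsg.Agent.DCoset.Cover

/-!
# The map out of the model from an enumeration certificate

Every rule and relator is an equation inside the centraliser, or says that the linking
elements commute, or is an identity, so it holds in every group with agreeing and linked copies of the monomial group
and of the centraliser.
-/

set_option autoImplicit false
set_option maxRecDepth 100000

open Cfsg

namespace Cfsg.Agent.CoTwoUniq

open Cfsg.Agent.Leech (LGen)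
open Cfsg.Agent.CoOneUniq (idG fcomp sameB0 eq_of_sameB0 allLt allLt_spec)
open Cfsg.Agent.CosetCert Cfsg.Agent.DCoset

universe u

/-- A rule of the table. -/
noncomputable def ruleB (T : Tab) (L : Rules) (r : ℕ) : Bool :=
  Nat.blt (L.rS r) 3 && Nat.blt (L.rD r) 3 && T.okWord (L.rU r) && T.okWord (L.rV r) &&
    ((centB (elG (L.rU r)) && centB (elG (L.rV r)) &&
        sameB0 (fcomp (tG (L.rS r)) (elG (L.rV r))) (fcomp (elG (L.rU r)) (tG (L.rD r)))) ||
      (Nat.beq (L.rS r) (L.rD r) && sameB0 (elG (L.rU r)) uGen && sameB0 (elG (L.rV r)) uGen) ||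
      (Nat.beq (L.rS r) 0 && Nat.beq (L.rD r) 0 && Nat.beq (L.rU r) (L.rV r)))

/-- The product in a relator. -/
noncomputable def relG (L : Rules) (r : ℕ) : LGen :=
  (List.range (L.relLen r)).foldr
    (fun m acc => fcomp (fcomp (elG (L.relW r m)) (tG (L.relT r m))) acc) idG

/-- A relator of the table. -/
noncomputable def relB (T : Tab) (L : Rules) (r : ℕ) : Bool :=
  Nat.blt (L.relHd r) 3 && T.okWord (L.relTl r) && centB (elG (L.relTl r)) &&
    allLt (L.relLen r) (fun m =>
      Nat.blt (L.relT r m) 3 && T.okWord (L.relW r m) && centB (elG (L.relW r m))) &&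
    sameB0 (fcomp (tG (L.relHd r)) (relG L r)) (elG (L.relTl r))

/-- All rules and relators. -/
noncomputable def rulesB (T : Tab) (L : Rules) : Bool :=
  Nat.beq L.nT 3 &&
    allLt 3 (fun τ => Nat.blt (L.invT τ) 3 && sameB0 (fcomp (tG τ) (tG (L.invT τ))) idG) &&
    allLt 3 (fun σ => allLt 3 fun τ => Nat.beq (L.mulT σ τ) 0 ||
      (Nat.blt (L.mulT σ τ - 1) 3 && sameB0 (fcomp (tG σ) (tG τ)) (tG (L.mulT σ τ - 1)))) &&
    allLt L.nRule (ruleB T L) && allLt L.nRel (relB T L)

section Sound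

variable {P : QModel ↥N1} {L : Rules}
variable {D : Type u} [Group D] {a : ↥N1 →* D} {b : ↥C1 →* D}

/-- The extra letters in a group with a copy of the centraliser. -/
noncomputable def tEl (b : ↥C1 →* D) (τ : ℕ) : D := b ⟨tK τ, tK_mem τ⟩

theorem word_eq (hq : P.q = letEl) (hab : Agree a b) {w : ℕ} (h : centB (elG w) = true) :
    val (P.toModel a).lv w = b ⟨(val letEl w : ↥N1), mem_of_centB (el_elG w) h⟩ := by
  rw [P.el_val, QModel.el, hq]
  exact hab _ (val letEl w).2 _

theorem word_u0 (hq : P.q = letEl) {w : ℕ} (h : sameB0 (elG w) uGen = true) :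
    val (P.toModel a).lv w = a ⟨u0, u0_mem⟩ := by
  rw [P.el_val, QModel.el, hq]
  refine congrArg a (Subtype.ext (inc_injective ?_))
  rw [el_elG, inc_u0]
  exact eq_of_sameB0 h

theorem linked_comm (hl : Linked a b) (τ : ℕ) :
    tEl b τ * a ⟨u0, u0_mem⟩ = a ⟨u0, u0_mem⟩ * tEl b τ := by
  have hc : Commute (b ⟨x0, x0_mem⟩) (a ⟨u0, u0_mem⟩) := hl.symm
  rw [tEl]
  by_cases h0 : τ = 0
  · rw [show (⟨tK τ, tK_mem τ⟩ : ↥C1) = 1 from Subtype.ext (by simp [tK, h0]), map_one, one_mul,
      mul_one]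
  by_cases h1 : τ = 1
  · rw [show (⟨tK τ, tK_mem τ⟩ : ↥C1) = ⟨x0, x0_mem⟩ from Subtype.ext (by simp [tK, h1])]
    exact hc.eq
  · rw [show (⟨tK τ, tK_mem τ⟩ : ↥C1) = ⟨x0, x0_mem⟩ * ⟨x0, x0_mem⟩ from
      Subtype.ext (by simp [tK, h0, h1]), map_mul]
    exact (hc.mul_left hc).eq

theorem sound_of_check (hq : P.q = letEl) (hab : Agree a b) (hl : Linked a b)
    (h : rulesB P.toTab L = true) : L.Sound (P.toModel a) (tEl b) := by
  simp only [rulesB, Bool.and_eq_true, Nat.beq_eq] at h
  obtain ⟨⟨⟨⟨h2, hinv⟩, hmul⟩, hrule⟩, hrel⟩ := h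
  have hb : ∀ (x y : ↥C1), inc (x : K2) = inc (y : K2) → b x = b y :=
    fun x y e => congrArg b (Subtype.ext (inc_injective e))
  constructor
  · show b ⟨_, _⟩ = 1
    rw [← map_one b]
    exact congrArg b (Subtype.ext (by simp [tK]))
  · intro τ hτ
    rw [h2] at hτ ⊢
    have e := allLt_spec hinv τ hτ
    simp only [Bool.and_eq_true, Nat.blt_eq] at e
    refine ⟨e.1, ?_⟩
    rw [tEl, tEl, ← map_mul, ← map_one b]
    refine hb _ _ ?_
    rw [Subgroup.coe_mul, map_mul, inc_tK, inc_tK, Subgroup.coe_one, map_one]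
    exact eq_of_sameB0 e.2
  · intro σ τ hσ hτ hne
    rw [h2] at hσ hτ ⊢
    have e := allLt_spec (allLt_spec hmul σ hσ) τ hτ
    simp only [Bool.or_eq_true, Bool.and_eq_true, Nat.blt_eq, Nat.beq_eq] at e
    obtain ⟨e1, e2⟩ := e.resolve_left hne
    refine ⟨e1, ?_⟩
    rw [tEl, tEl, tEl, ← map_mul]
    refine hb _ _ ?_
    rw [Subgroup.coe_mul, map_mul, inc_tK, inc_tK, inc_tK]
    exact eq_of_sameB0 e2
  · intro r hr
    have e := allLt_spec hrule r hr
    simp only [ruleB, Bool.and_eq_true, Bool.or_eq_true, Nat.blt_eq, Nat.beq_eq] at e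
    obtain ⟨⟨⟨⟨hS, hD⟩, hU⟩, hV⟩, he⟩ := e
    rw [h2]
    refine ⟨hS, hD, hU, hV, ?_⟩
    rcases he with (⟨⟨cU, cV⟩, he⟩ | ⟨⟨hSD, cU⟩, cV⟩) | ⟨⟨hS0, hD0⟩, hUV⟩
    · rw [word_eq hq hab cU, word_eq hq hab cV, tEl, tEl, ← map_mul, ← map_mul]
      refine hb _ _ ?_
      rw [Subgroup.coe_mul, Subgroup.coe_mul, map_mul, map_mul, inc_tK, inc_tK, el_elG, el_elG]
      exact eq_of_sameB0 he
    · rw [word_u0 hq cU, word_u0 hq cV, hSD]
      exact linked_comm hl _
    · rw [hS0, hD0, hUV, show tEl b 0 = 1 by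
        rw [tEl, ← map_one b]; exact congrArg b (Subtype.ext (by simp [tK])), one_mul, mul_one]
  · intro r hr
    have e := allLt_spec hrel r hr
    simp only [relB, Bool.and_eq_true, Nat.blt_eq] at e
    obtain ⟨⟨⟨⟨hH, hT⟩, cT⟩, hm⟩, he⟩ := e
    have hm' : ∀ m, m < L.relLen r → L.relT r m < 3 ∧ P.toTab.okWord (L.relW r m) = true ∧
        centB (elG (L.relW r m)) = true := fun m hlt => by
      have e' := allLt_spec hm m hlt
      simp only [Bool.and_eq_true, Nat.blt_eq] at e'
      exact ⟨e'.1.1, e'.1.2, e'.2⟩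
    rw [h2]
    refine ⟨hH, hT, fun m hlt => ⟨(hm' m hlt).1, (hm' m hlt).2.1⟩, ?_⟩
    have key : ∀ l : List ℕ, (∀ m ∈ l, m < L.relLen r) → ∃ y : ↥C1,
        (l.map fun m => val (P.toModel a).lv (L.relW r m) * tEl b (L.relT r m)).prod = b y ∧
        inc (y : K2) = (l.foldr
          (fun m acc => fcomp (fcomp (elG (L.relW r m)) (tG (L.relT r m))) acc) idG).g := by
      intro l
      induction l with
      | nil => exact fun _ => ⟨1, by simp, map_one inc⟩
      | cons m l ih =>
        intro hl'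
        obtain ⟨y, hy, hy'⟩ := ih fun k hk => hl' k (List.mem_cons_of_mem _ hk)
        refine ⟨⟨_, mem_of_centB (el_elG _) (hm' m (hl' m List.mem_cons_self)).2.2⟩ *
          ⟨tK (L.relT r m), tK_mem _⟩ * y, ?_, ?_⟩
        · rw [List.map_cons, List.prod_cons, hy, map_mul, map_mul,
            word_eq hq hab (hm' m (hl' m List.mem_cons_self)).2.2, tEl]
        · rw [Subgroup.coe_mul, Subgroup.coe_mul, map_mul, map_mul, el_elG, inc_tK, hy']
          rfl
    obtain ⟨y, hy, hy'⟩ := key (List.range (L.relLen r)) fun m hm => List.mem_range.1 hm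
    rw [hy, tEl, ← map_mul, word_eq hq hab cT]
    refine hb _ _ ?_
    rw [Subgroup.coe_mul, map_mul, inc_tK, hy', el_elG]
    exact eq_of_sameB0 he

end Sound

/-- The certificate gives the universal property. -/
theorem hasTheta_of (T : Tab) {Ru : Rules} {S : Steps} {C : Cover}
    (hact : ∀ g, g < T.nL → actOKRow T g = true)
    (hlt : ∀ g p, T.act g p < 65536) (hb : T.base = pk16 T.k fun l => (basePt T l).val)
    (hnlive : 0 < C.nLive)
    (hprod : ((List.range T.k).map (C.chain 0).size).prod = 908328960)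
    (hsteps : ∀ s, s < S.len → Steps.check S Ru T s = true)
    (hsrc : ∀ j, 1 ≤ j → j < S.nNode → S.nodeSrc j < j)
    (hV : C.Valid S Ru T 908328960)
    (hsum : ((List.range C.nLive).map C.idx).sum = 46575)
    (hrules : rulesB T Ru = true) (H : Type u) [Group H] [Finite H] : HasTheta H := by
  have hfN : Finite ↥N1 := inferInstance
  let A := acts_of hact hlt hb
  have hgenK : ∀ l a, l < T.k → a < (C.chain 0).nGen l →
      QModel.checkGen T (C.chain 0) l a = true := fun l a => hV.chain_gen 0 l a hnlive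
  have hptK : ∀ l j, l < T.k → j < (C.chain 0).size l →
      QModel.checkPt T (C.chain 0) l j = true := fun l j => hV.chain_pt 0 l j hnlive
  let P : QModel ↥N1 := A.toQModel (A.faithful (C.chain 0) card_N1_le hprod hgenK hptK)
  have hgen : Subgroup.closure {x | ∃ g, g < P.nL ∧ x = P.q g} = ⊤ := by
    refine Subgroup.eq_top_of_le_card _ ?_
    refine card_N1_le.trans (hprod ▸ P.card_ge _ (C.chain 0) (fun l a hl ha => ?_) hgenK hptK)
    have h := hgenK l a hl ha
    simp only [QModel.checkGen, force_eq, gate_eq, Bool.and_eq_true] at h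
    exact valW_mem P.q P.nL (Subgroup.closure {x | ∃ g, g < P.nL ∧ x = P.q g})
      (fun g hg => Subgroup.subset_closure ⟨g, hg, rfl⟩) _ _ h.1
  refine hasTheta_of_bound ?_ H
  intro D _ _ a b hab hl hg
  have hnT : Ru.nT = 3 := by
    simp only [rulesB, Bool.and_eq_true, Nat.beq_eq] at hrules
    exact hrules.1.1.1.1
  have hL := sound_of_check (P := P) (a := a) (b := b) rfl hab hl hrules
  have hgenG : Subgroup.closure (Set.range a ∪ {x | ∃ τ, τ < Ru.nT ∧ x = tEl b τ}) = ⊤ := by
    rw [eq_top_iff, ← hg]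
    refine Subgroup.closure_mono (Set.union_subset_union_right _ ?_)
    rintro x rfl
    exact ⟨1, by omega, congrArg b (Subtype.ext (by simp [tK]))⟩
  have hlv : ∀ g, g < (P.toModel a).nL → (P.toModel a).lv g ∈ a.range := fun g _ =>
    MonoidHom.mem_range.2 ⟨P.q g, rfl⟩
  have hF := Steps.holds (D := S) (Hs := a.range) hL hlv hsrc (by omega) hsteps
  obtain ⟨-, hle⟩ := Cover.index_le (P := P) a (tEl b) card_N1_le hgen hgenG hL hV hF
  rw [hsum] at hle
  have h1 : Nat.card a.range ≤ 908328960 :=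
    (Nat.card_le_card_of_surjective _ (MonoidHom.rangeRestrict_surjective a)).trans card_N1_le
  rw [show Nat.card K2 = 42305421312000 from Co2Out.card_co2, ← Subgroup.card_mul_index a.range]
  exact le_trans (Nat.mul_le_mul h1 hle) (by norm_num)

end Cfsg.Agent.CoTwoUniq
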